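/-
Facts for the automorphism theorem: the longest word, normalisers of `U`, minimal parabolic subgroups.
-/
import Cfsg.Agent.Lib.Chev.BN
import Cfsg.Agent.Lib.Chev.Normal
import Cfsg.Agent.Lib.BN.Basic

set_option autoImplicit false
set_option linter.unusedSectionVars false

namespace Cfsg.Agent.Chev.Aut

open Cfsg.Agent.Chev Cfsg.Lie

variable {D : ChevalleyDatum} {P : Pk} {F : Type*} [Field F] (h : Ok D P)
include h

/-- A word sending all positive roots to negative roots. -/
def Longest (P : Pk) (l : List ℕ) : Prop :=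
  WordOk P l ∧ ∀ r, P.isPos r = true → P.isPos (wl P l r) = false

theorem longest_pos {l : List ℕ} (hl : Longest P l) {r : ℕ} (hr : r < P.nroots) (hp : P.isPos r = false) :
    P.isPos (wl P l r) = true := by
  have h1 := hl.2 _ ((h.ng_pos_iff hr).2 hp)
  rw [h.wl_ng l hl.1 r hr, ← Bool.not_eq_true, h.ng_pos_iff (h.wl_lt l hl.1 r hr)] at h1
  simpa using h1

theorem longest_reverse {l : List ℕ} (hl : Longest P l) : Longest P l.reverse := by
  have hw : WordOk P l.reverse := fun x hx => hl.1 x (List.mem_reverse.1 hx)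
  refine ⟨hw, fun r hp => ?_⟩
  have hr := (P.isPos_iff.1 hp).2
  by_contra hc
  simp only [Bool.not_eq_false] at hc
  have h1 := hl.2 _ hc
  have h2 := h.wl_reverse l.reverse hw r hr
  rw [List.reverse_reverse] at h2
  rw [h2, hp] at h1
  simp at h1

theorem conj_longest_neg {l : List ℕ} (hl : Longest P l) {u : GL D.Idx F} (hu : u ∈ D.posUnipotent F) :
    h.nW l * u * (h.nW l)⁻¹ ∈ D.negUnipotent F := by
  have e : u ∈ h.genR (negS P l) := by
    rw [h.posUnipotent_eq] at hu
    exact h.genR_mono (fun r hr => (⟨hr, hl.2 r hr⟩ : negS P l r)) hu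
  have := h.uminus_conj hl.1 (one_mem _) e
  rwa [mul_one] at this

theorem conj_longest_pos {l : List ℕ} (hl : Longest P l) {u : GL D.Idx F} (hu : u ∈ D.negUnipotent F) :
    h.nW l * u * (h.nW l)⁻¹ ∈ D.posUnipotent F := by
  have : D.negUnipotent F ≤ (D.posUnipotent F).comap (MulAut.conj (h.nW (F := F) l)).toMonoidHom := by
    rw [h.negUnipotent_eq]
    refine h.genR_le fun r hr t => ?_
    obtain ⟨e, -, hx⟩ := h.nW_xG (F := F) l hl.1 r hr.1
    rw [Subgroup.mem_comap, MulEquiv.toMonoidHom_eq_coe, MonoidHom.coe_coe, MulAut.conj_apply, (hx t).1]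
    exact h.xG_mem_pos (longest_pos h hl hr.1 hr.2) _
  exact this hu

theorem conj_longest_inv_pos {l : List ℕ} (hl : Longest P l) {v : GL D.Idx F} (hv : v ∈ D.negUnipotent F) :
    (h.nW l)⁻¹ * v * h.nW l ∈ D.posUnipotent F := by
  have : D.negUnipotent F ≤ (D.posUnipotent F).comap (MulAut.conj (h.nW (F := F) l)⁻¹).toMonoidHom := by
    rw [h.negUnipotent_eq]
    refine h.genR_le fun r hr t => ?_
    have hl' := longest_reverse h hl
    have hq := h.wl_lt _ hl'.1 r hr.1
    have hqr : wl P l (wl P l.reverse r) = r := by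
      have := h.wl_reverse l.reverse hl'.1 r hr.1
      rwa [List.reverse_reverse] at this
    obtain ⟨e, he, hx⟩ := h.nW_xG (F := F) l hl.1 _ hq
    rw [Subgroup.mem_comap, MulEquiv.toMonoidHom_eq_coe, MonoidHom.coe_coe, MulAut.conj_apply, inv_inv]
    have h2 := (hx (e * t)).1
    rw [hqr, ← mul_assoc, he, one_mul] at h2
    rw [← h2]
    have hp : P.isPos (wl P l.reverse r) = true := longest_pos h hl' hr.1 hr.2
    convert h.xG_mem_pos hp (e * t) using 1
    group
  have h1 := this hv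
  rwa [Subgroup.mem_comap, MulEquiv.toMonoidHom_eq_coe, MonoidHom.coe_coe, MulAut.conj_apply, inv_inv] at h1

theorem longest_simple {l : List ℕ} (hl : Longest P l) {j : ℕ} (hj : j < P.rank) :
    ∃ k < P.rank, wl P l (P.sim k) = P.ng (P.sim j) := by
  have hl' := longest_reverse h hl
  have hjlt := h.sim_lt hj
  set r := wl P l.reverse (P.ng (P.sim j)) with hr_def
  have hr : r < P.nroots := h.wl_lt _ hl'.1 _ (Ok.ng_lt hjlt)
  have hlr : wl P l r = P.ng (P.sim j) := by
    have := h.wl_reverse l.reverse hl'.1 _ (Ok.ng_lt hjlt)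
    rwa [List.reverse_reverse] at this
  have hrp : P.isPos r = true := by
    by_contra hc
    simp only [Bool.not_eq_true] at hc
    have := longest_pos h hl hr hc
    rw [hlr, h.ng_pos_iff hjlt, h.sim_pos hj] at this
    simp at this
  obtain ⟨k₀, hk₀, hk0⟩ := h.exists_pos_coord hrp
  refine ⟨k₀, hk₀, ?_⟩
  have hwk := h.wl_lt l hl.1 _ (h.sim_lt hk₀)
  have hneg : ∀ k < P.rank, ∀ m < P.rank, P.rv (wl P l (P.sim k)) m ≤ 0 := by
    intro k hk m hm
    have hw := h.wl_lt l hl.1 _ (h.sim_lt hk)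
    have h1 := (h.rv_sign (Ok.ng_lt hw) hm).1 ((h.ng_pos_iff hw).2 (hl.2 _ (h.sim_pos hk)))
    rw [h.rv_ng hw hm] at h1
    omega
  have hzero : ∀ m < P.rank, m ≠ j → P.rv (wl P l (P.sim k₀)) m = 0 := by
    intro m hm hmj
    have e := h.rv_wl l hl.1 r hr m hm
    rw [hlr, h.rv_ng hjlt hm, h.rv_sim hj hm, if_neg (Ne.symm hmj), neg_zero] at e
    have hall := (Finset.sum_eq_zero_iff_of_nonpos fun k hk => mul_nonpos_of_nonneg_of_nonpos
      ((h.rv_sign hr (Finset.mem_range.1 hk)).1 hrp) (hneg k (Finset.mem_range.1 hk) m hm)).1 e.symm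
      k₀ (Finset.mem_range.2 hk₀)
    rcases mul_eq_zero.1 hall with e1 | e1
    · omega
    · exact e1
  have hj0 : P.rv (wl P l (P.sim k₀)) j = -1 := by
    have e := h.rv_wl l hl.1 r hr j hj
    rw [hlr, h.rv_ng hjlt hj, h.rv_sim hj hj, if_pos rfl] at e
    have hle : -1 ≤ P.rv r k₀ * P.rv (wl P l (P.sim k₀)) j := by
      have h1 := Finset.single_le_sum (f := fun k => -(P.rv r k * P.rv (wl P l (P.sim k)) j))
        (s := Finset.range P.rank) (fun k hk => neg_nonneg.2 (mul_nonpos_of_nonneg_of_nonpos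
          ((h.rv_sign hr (Finset.mem_range.1 hk)).1 hrp) (hneg k (Finset.mem_range.1 hk) j hj)))
        (Finset.mem_range.2 hk₀)
      rw [Finset.sum_neg_distrib, ← e] at h1
      omega
    have hne : P.rv (wl P l (P.sim k₀)) j ≠ 0 := by
      intro h0
      obtain ⟨m, hm, hmne⟩ := h.rv_exists_ne hwk
      by_cases hmj : m = j
      · exact hmne (hmj ▸ h0)
      · exact hmne (hzero m hm hmj)
    have := hneg k₀ hk₀ j hj
    rcases lt_trichotomy (P.rv (wl P l (P.sim k₀)) j) (-1) with h2 | h2 | h2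
    · nlinarith
    · exact h2
    · omega
  refine h.rv_inj hwk (Ok.ng_lt hjlt) fun m hm => ?_
  rw [h.rv_ng hjlt hm, h.rv_sim hj hm]
  by_cases hmj : m = j
  · rw [hmj, if_pos rfl, hj0]
  · rw [if_neg (Ne.symm hmj), hzero m hm hmj, neg_zero]

/-- The normaliser of `U` in the group is `B`. -/
theorem mem_borel_of_normalizes (hC : P.ckComm = true) {g : GL D.Idx F} (hg : g ∈ D.group F)
    (hn : ∀ u ∈ D.posUnipotent F, g * u * g⁻¹ ∈ D.posUnipotent F) : g ∈ D.borelSubgroup F :=
  h.mem_borel_of_conj_sim hC hg fun _ hi => ⟨1, one_ne_zero, hn _ (h.xG_mem_pos (h.sim_pos hi) _)⟩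

theorem borel_normalizes {b : GL D.Idx F} (hb : b ∈ D.borelSubgroup F) :
    b ∈ Subgroup.normalizer (D.posUnipotent F : Set (GL D.Idx F)) := by
  obtain ⟨v, hv, d, hd, rfl⟩ := h.mem_borel hb
  exact mul_mem (Subgroup.le_normalizer hv) (h.diagonal_normalizes hd)

/-- The common normaliser of `U` and `U⁻` is `H`. -/
theorem mem_diagonal_of_normalizes (hC : P.ckComm = true) {g : GL D.Idx F} (hg : g ∈ D.group F)
    (hn : ∀ u ∈ D.posUnipotent F, g * u * g⁻¹ ∈ D.posUnipotent F)
    (hn' : ∀ u ∈ D.negUnipotent F, g * u * g⁻¹ ∈ D.negUnipotent F) : g ∈ D.diagonalSubgroup F := by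
  obtain ⟨v, hv, d, hd, rfl⟩ := h.mem_borel (mem_borel_of_normalizes h hC hg hn)
  have hvn : ∀ u ∈ D.negUnipotent F, v * u * v⁻¹ ∈ D.negUnipotent F := by
    intro u hu
    have := hn' _ ((Subgroup.mem_normalizer_iff.1 (inv_mem (h.neg_normalized hd)) u).1 hu)
    convert this using 1
    group
  obtain ⟨l, hlw, hneg⟩ := h.exists_longest
  have hl : Longest P l := ⟨hlw, hneg⟩
  have hv' := conj_longest_neg h hl hv
  have hvB : h.nW l * v * (h.nW l)⁻¹ ∈ D.borelSubgroup F := by
    refine mem_borel_of_normalizes h hC ?_ fun u hu => ?_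
    · exact mul_mem (mul_mem (h.monomial_le_group (h.nW_mem l hl.1))
        (h.borel_le_group (Subgroup.mem_sup_left hv))) (inv_mem (h.monomial_le_group (h.nW_mem l hl.1)))
    · have h1 := conj_longest_neg h (longest_reverse h hl) hu
      have hd' := h.mem_diagonal_of_wl_eq (F := F) hl.1 hl.1 (fun _ _ => rfl)
      -- `(nW l)⁻¹ u (nW l)` is in `U⁻`
      have h2 : (h.nW l)⁻¹ * u * h.nW l ∈ D.negUnipotent F := by
        have hdd : h.nW (F := F) l.reverse * h.nW l ∈ D.diagonalSubgroup F := by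
          rw [← h.nW_append]
          exact h.nW_mem_diagonal (fun x hx => by
              rcases List.mem_append.1 hx with a | a
              exacts [hl.1 x (List.mem_reverse.1 a), hl.1 x a])
            (fun r hr => by rw [wl_append, h.wl_reverse l hl.1 r hr])
        have h3 := (Subgroup.mem_normalizer_iff.1 (inv_mem (h.neg_normalized hdd)) _).1 h1
        convert h3 using 1
        group
      have h3 := conj_longest_pos h hl (hvn _ h2)
      convert h3 using 1
      group
  have h4 : h.nW l * v * (h.nW l)⁻¹ ∈ D.borelSubgroup F ⊓ D.negUnipotent F := Subgroup.mem_inf.2 ⟨hvB, hv'⟩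
  rw [h.borel_inf_neg, Subgroup.mem_bot, conj_eq_one_iff] at h4
  rw [h4, one_mul]
  exact hd

/-- The opposite root subgroup is what `U⁻` meets in the minimal parabolic subgroup. -/
def Pmin (hC : P.ckComm = true) (i : Fin P.rank) : Subgroup (D.group F) :=
  (h.bnPair (F := F) hC).parabolic {h.sG i}

theorem xG_neg_sim_mem_Pmin (hC : P.ckComm = true) (i : Fin P.rank) (t : F) :
    (⟨h.xG (P.ng (P.sim i)) t, h.mem_group_of_xG _ _⟩ : D.group F) ∈ Pmin h hC i := by
  have hs : h.sG (F := F) i ∈ Pmin h hC i := Cfsg.Agent.BN.self_mem_parabolic _ _ rfl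
  have hB := Cfsg.Agent.BN.B_le_parabolic (h.bnPair (F := F) hC) {h.sG i}
  have hp := h.sim_lt i.isLt
  have hx : ∀ s : F, (⟨h.xG (P.sim i) s, h.mem_group_of_xG _ _⟩ : D.group F) ∈ Pmin h hC i := fun s =>
    hB (Subgroup.mem_subgroupOf.2 (Subgroup.mem_sup_left (h.xG_mem_pos (h.sim_pos i.isLt) _)))
  have e : (⟨h.xG (P.ng (P.sim i)) t, h.mem_group_of_xG _ _⟩ : D.group F) =
      h.sG i * ⟨h.xG (P.sim i) ((P.eta i (P.sim i) : F) * t), h.mem_group_of_xG _ _⟩ * (h.sG i)⁻¹ := by
    refine Subtype.ext ?_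
    show _ = h.nG i.val * _ * (h.nG i.val)⁻¹
    rw [h.nG_sim i.isLt, ← mul_assoc]
    rcases h.eta_cases i (P.sim i) with e | e <;> simp [e]
  rw [e]
  exact mul_mem (mul_mem hs (hx _)) (inv_mem hs)

theorem Pmin_cases (hC : P.ckComm = true) (i : Fin P.rank) {x : D.group F} (hx : x ∈ Pmin h hC i) :
    (x : GL D.Idx F) ∈ D.borelSubgroup F ∨ ∃ b ∈ D.borelSubgroup F, ∃ t : F,
      (x : GL D.Idx F) = b * h.nG i * h.xG (P.sim i) t := by
  set B := h.bnPair (F := F) hC
  have hJ : ({h.sG i} : Set (D.group F)) ⊆ B.S := by rintro _ rfl; exact ⟨i, rfl⟩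
  have hx' : x ∈ Cfsg.Agent.BN.PJ B {h.sG i} := by rw [← Cfsg.Agent.BN.parabolic_eq B hJ]; exact hx
  obtain ⟨l, hls, hxl⟩ := hx'
  set s : B.S := ⟨h.sG i, ⟨i, rfl⟩⟩
  have hgg : Cfsg.Agent.BN.g B s * Cfsg.Agent.BN.g B s = 1 :=
    (Cfsg.Agent.BN.cl_eq_one_iff B _).2 (B.sq_mem _ s.2)
  have hw : Cfsg.Agent.BN.wp B l = 1 ∨ Cfsg.Agent.BN.wp B l = Cfsg.Agent.BN.g B s := by
    clear hxl
    induction l with
    | nil => exact Or.inl rfl
    | cons a l ih =>
      have ha : a = s := Subtype.ext (hls a List.mem_cons_self)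
      have e : Cfsg.Agent.BN.wp B (a :: l) = Cfsg.Agent.BN.g B s * Cfsg.Agent.BN.wp B l := by
        simp [Cfsg.Agent.BN.wp, ha]
      rcases ih fun b hb => hls b (List.mem_cons_of_mem _ hb) with e1 | e1 <;> rw [e, e1]
      · exact Or.inr (mul_one _)
      · exact Or.inl hgg
  rcases hw with e | e <;> rw [e] at hxl
  · exact Or.inl (Subgroup.mem_subgroupOf.1 ((Cfsg.Agent.BN.mem_C_one_iff B).1 hxl))
  · right
    rw [show Cfsg.Agent.BN.g B s = Cfsg.Agent.BN.cl B ⟨s, B.subset s.2⟩ from rfl,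
      Cfsg.Agent.BN.C_eq_doubleCoset, DoubleCoset.mem_doubleCoset] at hxl
    obtain ⟨b₁, hb₁, b₂, hb₂, e⟩ := hxl
    obtain ⟨v, hv, d, hd, e₂⟩ := h.mem_borel (Subgroup.mem_subgroupOf.1 hb₂ : (b₂ : GL D.Idx F) ∈ _)
    obtain ⟨hnorm, hsplit⟩ := h.fundamental_split (F := F) hC i.isLt
    rw [← hsplit, ← SetLike.mem_coe, Subgroup.coe_mul_of_right_le_normalizer_left _ _
      (le_sup_left.trans hnorm)] at hv
    obtain ⟨u, hu, y, hy, rfl⟩ := hv
    rw [h.rootSubgroup_eq] at hy
    obtain ⟨t, rfl⟩ := hy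
    have hni : h.nG (F := F) i ∈ Subgroup.normalizer (h.genR (F := F) (Ok.Out P (· = i.val)) : Set (GL D.Idx F)) :=
      mul_mem (mul_mem (hnorm (Subgroup.mem_sup_left (h.mem_rootSubgroup _)))
        (hnorm (Subgroup.mem_sup_right (h.mem_rootSubgroup _))))
        (hnorm (Subgroup.mem_sup_left (h.mem_rootSubgroup _)))
    have hu' : h.nG i * u * (h.nG i)⁻¹ ∈ D.borelSubgroup F := by
      refine Subgroup.mem_sup_left ?_
      rw [← hsplit]
      exact Subgroup.mem_sup_left ((Subgroup.mem_normalizer_iff.1 hni u).1 hu)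
    have hd' : h.nG i * d * (h.nG i)⁻¹ ∈ D.borelSubgroup F :=
      Subgroup.mem_sup_right ((Subgroup.mem_normalizer_iff.1 (h.nG_normalizer i.isLt) d).1 hd)
    obtain ⟨c, rfl⟩ := h.mem_diagonal_iff.1 hd
    refine ⟨(b₁ : GL D.Idx F) * (h.nG i * u * (h.nG i)⁻¹) * (h.nG i * h.hHom c * (h.nG i)⁻¹),
      mul_mem (mul_mem (Subgroup.mem_subgroupOf.1 hb₁) hu') hd', (hchar P c (P.sim i))⁻¹ * t, ?_⟩
    have h5 := h.hHom_xG c (h.sim_lt i.isLt) ((hchar P c (P.sim i))⁻¹ * t)
    rw [mul_inv_cancel_left₀ ((h.isChar_hchar (F := F) c).ne _ (h.sim_lt i.isLt))] at h5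
    rw [e, show ((b₁ * (s : D.group F) * b₂ : D.group F) : GL D.Idx F) =
      (b₁ : GL D.Idx F) * h.nG i * (b₂ : GL D.Idx F) from rfl, e₂, ← h5]
    group

theorem neg_inter_Pmin [Fintype F] (hC : P.ckComm = true) (i : Fin P.rank) {x : D.group F}
    (hx : x ∈ Pmin h hC i) (hv : (x : GL D.Idx F) ∈ D.negUnipotent F) :
    ∃ t : F, (x : GL D.Idx F) = h.xG (P.ng (P.sim i)) t := by
  classical
  set K : Subgroup (D.group F) := Pmin h hC i ⊓ (D.negUnipotent F).subgroupOf (D.group F)
  have hnotpos : P.isPos (P.ng (P.sim i)) = false := by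
    rw [← Bool.not_eq_true, h.ng_pos_iff (h.sim_lt i.isLt), h.sim_pos i.isLt]; simp
  let X : AddMonoidHom F (Additive K) :=
    { toFun := fun t => Additive.ofMul ⟨⟨h.xG (P.ng (P.sim i)) t, h.mem_group_of_xG _ _⟩, Subgroup.mem_inf.2
        ⟨xG_neg_sim_mem_Pmin h hC i t,
          Subgroup.mem_subgroupOf.2 (h.xG_mem_neg (Ok.ng_lt (h.sim_lt i.isLt)) hnotpos t)⟩⟩
      map_zero' := Subtype.ext (Subtype.ext (h.xG_zero _))
      map_add' := fun a b => Subtype.ext (Subtype.ext (h.xG_add _ a b).symm) }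
  have hinj : Function.Injective X := fun a b e =>
    h.xG_inj_param (Ok.ng_lt (h.sim_lt i.isLt)) (congrArg (fun k : Additive K => (((Additive.toMul k : K) : D.group F) : GL D.Idx F)) e)
  -- `K` has at most `q + 1` elements
  have key : ∀ k : K, ∃ o : Option F, match o with
      | none => ((k : D.group F) : GL D.Idx F) ∈ D.borelSubgroup F
      | some t => ∃ b ∈ D.borelSubgroup F, ((k : D.group F) : GL D.Idx F) = b * h.nG i * h.xG (P.sim i) t := by
    intro k
    rcases Pmin_cases h hC i (Subgroup.mem_inf.1 k.2).1 with e | ⟨b, hb, t, e⟩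
    · exact ⟨none, e⟩
    · exact ⟨some t, b, hb, e⟩
  choose o ho using key
  have hoinj : Function.Injective o := by
    intro a b e
    have ha := ho a
    have hb := ho b
    rw [e] at ha
    have hmem : (((a : D.group F) * ((b : D.group F))⁻¹ : D.group F) : GL D.Idx F) ∈
        D.borelSubgroup F ⊓ D.negUnipotent F := by
      refine Subgroup.mem_inf.2 ⟨?_, mul_mem (Subgroup.mem_subgroupOf.1 (Subgroup.mem_inf.1 a.2).2)
        (inv_mem (Subgroup.mem_subgroupOf.1 (Subgroup.mem_inf.1 b.2).2))⟩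
      rw [Subgroup.coe_mul, Subgroup.coe_inv]
      cases hob : o b with
      | none => rw [hob] at ha hb; exact mul_mem ha (inv_mem hb)
      | some t =>
        rw [hob] at ha hb
        obtain ⟨b1, hb1, e1⟩ := ha
        obtain ⟨b2, hb2, e2⟩ := hb
        rw [e1, e2]
        convert mul_mem hb1 (inv_mem hb2) using 1
        group
    rw [h.borel_inf_neg, Subgroup.mem_bot] at hmem
    exact Subtype.ext (mul_inv_eq_one.1 (Subtype.ext hmem))
  have : Fintype K := Fintype.ofInjective o hoinj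
  have hcard : Nat.card K ≤ Fintype.card F + 1 := by
    rw [Nat.card_eq_fintype_card, ← Fintype.card_option]
    exact Fintype.card_le_of_injective o hoinj
  have hsurj : Function.Surjective X := by
    have hrange : X.range = ⊤ := by
      refine AddSubgroup.eq_top_of_card_eq _ ?_
      have h1 : Nat.card X.range = Fintype.card F := by
        rw [← Nat.card_eq_fintype_card (α := F)]
        exact Nat.card_congr (AddMonoidHom.ofInjective hinj).toEquiv.symm
      obtain ⟨m, hm⟩ := AddSubgroup.card_addSubgroup_dvd_card X.range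
      have hK : Nat.card (Additive K) = Nat.card K := Nat.card_congr Additive.toMul
      rw [h1] at hm
      have h2 : 1 < Fintype.card F := Fintype.one_lt_card
      have hpos : 0 < Nat.card K := Nat.card_pos
      rw [h1, hm]
      have : m = 1 := by
        rcases m with _ | _ | m
        · rw [hK, Nat.mul_zero] at hm; omega
        · rfl
        · exfalso; rw [hK] at hm; nlinarith
      rw [this, mul_one]
    exact AddMonoidHom.range_eq_top.1 hrange
  obtain ⟨t, ht⟩ := hsurj (Additive.ofMul ⟨x, Subgroup.mem_inf.2 ⟨hx, Subgroup.mem_subgroupOf.2 hv⟩⟩)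
  exact ⟨t, (congrArg (fun k : Additive K => (((Additive.toMul k : K) : D.group F) : GL D.Idx F)) ht).symm⟩

end Cfsg.Agent.Chev.Aut
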