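/-
An automorphism fixing `U` and `U⁻` permutes the fundamental root subgroups.
-/
import Cfsg.Agent.Lib.Chev.Aut.Basics
import Cfsg.Prelude.Def_ChevAutomorphisms

set_option autoImplicit false
set_option linter.unusedSectionVars false

namespace Cfsg.Agent.Chev.Aut

open Cfsg.Agent.Chev Cfsg.Lie

variable {D : ChevalleyDatum} {P : Pk} {F : Type*} [Field F]

/-- The automorphism carries `S` onto `S`. -/
def Pres (θ : D.group F ≃* D.group F) (S : Subgroup (GL D.Idx F)) : Prop :=
  ∀ g : D.group F, (θ g : GL D.Idx F) ∈ S ↔ (g : GL D.Idx F) ∈ S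

theorem Pres.symm {θ : D.group F ≃* D.group F} {S : Subgroup (GL D.Idx F)} (hp : Pres θ S) : Pres θ.symm S := by
  intro g
  conv_rhs => rw [← θ.apply_symm_apply g, hp]

variable (h : Ok D P)
include h

/-- The root element in the group. -/
def xS (r : ℕ) (t : F) : D.group F := ⟨h.xG r t, h.mem_group_of_xG r t⟩

theorem coe_xS (r : ℕ) (t : F) : (xS h r t : GL D.Idx F) = h.xG r t := rfl

theorem xS_add (r : ℕ) (t u : F) : xS h r t * xS h r u = xS h r (t + u) := Subtype.ext (h.xG_add r t u)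

theorem xS_inj {r : ℕ} (hr : r < P.nroots) {t u : F} (e : xS h r t = xS h r u) : t = u :=
  h.xG_inj_param hr (congrArg Subtype.val e)

theorem pos_le_group : D.posUnipotent F ≤ D.group F := fun _ hx => h.borel_le_group (Subgroup.mem_sup_left hx)

theorem neg_le_group : D.negUnipotent F ≤ D.group F := by
  rw [← h.sup_pos_neg]; exact le_sup_right

theorem pres_borel (hC : P.ckComm = true) {θ : D.group F ≃* D.group F} (hU : Pres θ (D.posUnipotent F)) :
    Pres θ (D.borelSubgroup F) := by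
  have one : ∀ θ : D.group F ≃* D.group F, Pres θ (D.posUnipotent F) → ∀ g : D.group F,
      (g : GL D.Idx F) ∈ D.borelSubgroup F → (θ g : GL D.Idx F) ∈ D.borelSubgroup F := by
    intro θ hU g hg
    refine mem_borel_of_normalizes h hC (θ g).2 fun u hu => ?_
    set u' : D.group F := θ.symm ⟨u, pos_le_group h hu⟩
    have hu' : (u' : GL D.Idx F) ∈ D.posUnipotent F := (hU.symm _).2 hu
    have := (hU (g * u' * g⁻¹)).2 ((Subgroup.mem_normalizer_iff.1 (borel_normalizes h hg) _).1 hu')
    rw [map_mul, map_mul, map_inv, θ.apply_symm_apply] at this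
    exact this
  intro g
  refine ⟨fun hg => ?_, one θ hU g⟩
  have := one θ.symm hU.symm _ hg
  rwa [θ.symm_apply_apply] at this

theorem pres_diagonal (hC : P.ckComm = true) {θ : D.group F ≃* D.group F} (hU : Pres θ (D.posUnipotent F))
    (hV : Pres θ (D.negUnipotent F)) : Pres θ (D.diagonalSubgroup F) := by
  have one : ∀ θ : D.group F ≃* D.group F, Pres θ (D.posUnipotent F) → Pres θ (D.negUnipotent F) →
      ∀ g : D.group F, (g : GL D.Idx F) ∈ D.diagonalSubgroup F → (θ g : GL D.Idx F) ∈ D.diagonalSubgroup F := by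
    intro θ hU hV g hg
    refine mem_diagonal_of_normalizes h hC (θ g).2 (fun u hu => ?_) fun u hu => ?_
    · set u' : D.group F := θ.symm ⟨u, pos_le_group h hu⟩
      have hu' : (u' : GL D.Idx F) ∈ D.posUnipotent F := (hU.symm _).2 hu
      have := (hU (g * u' * g⁻¹)).2 ((Subgroup.mem_normalizer_iff.1 (h.diagonal_normalizes hg) _).1 hu')
      rw [map_mul, map_mul, map_inv, θ.apply_symm_apply] at this
      exact this
    · set u' : D.group F := θ.symm ⟨u, neg_le_group h hu⟩
      have hu' : (u' : GL D.Idx F) ∈ D.negUnipotent F := (hV.symm _).2 hu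
      have := (hV (g * u' * g⁻¹)).2 ((Subgroup.mem_normalizer_iff.1 (h.neg_normalized hg) _).1 hu')
      rw [map_mul, map_mul, map_inv, θ.apply_symm_apply] at this
      exact this
  intro g
  refine ⟨fun hg => ?_, one θ hU hV g⟩
  have := one θ.symm hU.symm hV.symm _ hg
  rwa [θ.symm_apply_apply] at this

/-- Some inner automorphism followed by the given one fixes `U` and `U⁻`. -/
theorem exists_normalized [Fintype F] (p : ℕ) [Fact p.Prime] [CharP F p] (hC : P.ckComm = true)
    (θ : D.group F ≃* D.group F) :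
    ∃ z : D.group F, Pres (θ.trans (MulAut.conj z)) (D.posUnipotent F) ∧
      Pres (θ.trans (MulAut.conj z)) (D.negUnipotent F) := by
  classical
  haveI : Finite (D.group F) := Subtype.finite
  obtain ⟨S, hS⟩ := h.pos_sylow (F := F) p hC
  let S' : Sylow p (D.group F) := S.comapOfInjective θ.symm.toMonoidHom θ.symm.injective
    (by intro g _; exact ⟨θ g, θ.symm_apply_apply g⟩)
  obtain ⟨z, hz⟩ := MulAction.exists_smul_eq (D.group F) S' S
  have hU : Pres (θ.trans (MulAut.conj z)) (D.posUnipotent F) := by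
    intro g
    have e1 : (z • S' : Sylow p (D.group F)).toSubgroup = (S'.toSubgroup).map (MulAut.conj z).toMonoidHom := rfl
    have e2 : ∀ y : D.group F, y ∈ (S : Subgroup (D.group F)) ↔ (y : GL D.Idx F) ∈ D.posUnipotent F := by
      intro y; rw [hS]; exact Subgroup.mem_subgroupOf
    rw [← e2, ← e2, ← hz, e1, Subgroup.mem_map]
    constructor
    · rintro ⟨a, ha, e⟩
      have : a = θ g := (MulAut.conj z).injective e
      subst this
      have hb : θ.symm (θ g) ∈ (S : Subgroup (D.group F)) := ha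
      rw [θ.symm_apply_apply] at hb
      rw [← e1, hz]; exact hb
    · intro hg
      rw [← e1, hz] at hg
      exact ⟨θ g, show θ.symm (θ g) ∈ (S : Subgroup (D.group F)) by rwa [θ.symm_apply_apply], rfl⟩
  set θ₁ := θ.trans (MulAut.conj z)
  obtain ⟨l, hlw, hneg⟩ := h.exists_longest
  have hl : Longest P l := ⟨hlw, hneg⟩
  set n₀ : D.group F := ⟨h.nW l, h.monomial_le_group (h.nW_mem l hl.1)⟩
  obtain ⟨b, hb, w, hw, u, hu, e⟩ := h.bruhat_exists hC (θ₁ n₀).2
  have huU := h.negS_le_pos w hu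
  have hmap : ∀ v : D.group F, (v : GL D.Idx F) ∈ D.negUnipotent F ↔
      ((n₀⁻¹ * v * n₀ : D.group F) : GL D.Idx F) ∈ D.posUnipotent F := by
    intro v
    refine ⟨fun hv => conj_longest_inv_pos h hl hv, fun hv => ?_⟩
    have := conj_longest_neg h hl hv
    convert this using 1
    simp [n₀, mul_assoc]
  -- the image of `U⁻`
  have himg : ∀ v : D.group F, (v : GL D.Idx F) ∈ D.negUnipotent F ↔
      (h.nW w)⁻¹ * b⁻¹ * (θ₁ v : GL D.Idx F) * b * h.nW w ∈ D.posUnipotent F := by
    intro v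
    rw [hmap, ← hU, map_mul, map_mul, map_inv, Subgroup.coe_mul, Subgroup.coe_mul, Subgroup.coe_inv, e]
    have hnu : u ∈ Subgroup.normalizer (D.posUnipotent F : Set (GL D.Idx F)) := Subgroup.le_normalizer huU
    rw [Subgroup.mem_normalizer_iff.1 hnu]
    group
  have hbN := borel_normalizes h hb
  have hwL : Longest P w := by
    refine ⟨hw, fun r hp => ?_⟩
    by_contra hc
    simp only [Bool.not_eq_false] at hc
    have hr := (P.isPos_iff.1 hp).2
    obtain ⟨e', he', hx⟩ := h.nW_xG (F := F) w hw r hr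
    have hU' : b * h.xG (wl P w r) (e' * 1) * b⁻¹ ∈ D.posUnipotent F :=
      (Subgroup.mem_normalizer_iff.1 hbN _).1 (h.xG_mem_pos hc _)
    set g : D.group F := θ₁.symm ⟨_, pos_le_group h hU'⟩
    have hg1 : (g : GL D.Idx F) ∈ D.posUnipotent F := by
      rw [← hU, θ₁.apply_symm_apply]; exact hU'
    have hg2 : (g : GL D.Idx F) ∈ D.negUnipotent F := by
      rw [himg, θ₁.apply_symm_apply]
      have hx1 := h.xG_mem_pos hp (1 : F)
      show (h.nW w)⁻¹ * b⁻¹ * (b * h.xG (wl P w r) (e' * 1) * b⁻¹) * b * h.nW w ∈ _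
      rw [← (hx 1).1]
      convert hx1 using 1
      group
    have h0 : (g : GL D.Idx F) ∈ D.borelSubgroup F ⊓ D.negUnipotent F :=
      Subgroup.mem_inf.2 ⟨Subgroup.mem_sup_left hg1, hg2⟩
    rw [h.borel_inf_neg, Subgroup.mem_bot] at h0
    have hg0 : g = 1 := Subtype.ext h0
    have h3 := congrArg θ₁ hg0
    rw [θ₁.apply_symm_apply, map_one] at h3
    have h4 : b * h.xG (wl P w r) (e' * 1) * b⁻¹ = 1 := congrArg Subtype.val h3
    rw [conj_eq_one_iff] at h4
    have := h.xG_pos_eq_one hc h4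
    rw [mul_one] at this
    exact (left_ne_zero_of_mul_eq_one he') this
  set bG : D.group F := ⟨b, h.borel_le_group hb⟩
  refine ⟨bG⁻¹ * z, fun g => ?_, fun v => ?_⟩
  · show ((MulAut.conj (bG⁻¹ * z)) (θ g) : GL D.Idx F) ∈ _ ↔ _
    rw [map_mul, MulAut.mul_apply]
    show (((bG⁻¹ * (θ₁ g) * bG⁻¹⁻¹ : D.group F)) : GL D.Idx F) ∈ _ ↔ _
    rw [← hU g]
    simp only [Subgroup.coe_mul, Subgroup.coe_inv, inv_inv]
    have h1 := Subgroup.mem_normalizer_iff.1 (inv_mem hbN) (θ₁ g : GL D.Idx F)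
    rw [inv_inv] at h1
    exact h1.symm
  · show ((MulAut.conj (bG⁻¹ * z)) (θ v) : GL D.Idx F) ∈ _ ↔ _
    rw [map_mul, MulAut.mul_apply]
    show (((bG⁻¹ * (θ₁ v) * bG⁻¹⁻¹ : D.group F)) : GL D.Idx F) ∈ _ ↔ _
    rw [himg v]
    simp only [Subgroup.coe_mul, Subgroup.coe_inv, inv_inv]
    constructor
    · intro hv
      have := conj_longest_inv_pos h hwL hv
      convert this using 1
      simp [bG, mul_assoc]
    · intro hv
      have := conj_longest_neg h hwL hv
      convert this using 1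
      simp [bG, mul_assoc]

/-- The data of an automorphism on the fundamental root subgroups. -/
structure Par (θ : D.group F ≃* D.group F) (π : Fin P.rank → Fin P.rank) (φ ψ : Fin P.rank → F → F) : Prop where
  presU : Pres θ (D.posUnipotent F)
  presV : Pres θ (D.negUnipotent F)
  bij : Function.Bijective π
  pos : ∀ (i : Fin P.rank) (t : F), θ (xS h (P.sim i) t) = xS h (P.sim (π i)) (φ i t)
  neg : ∀ (i : Fin P.rank) (t : F), θ (xS h (P.ng (P.sim i)) t) = xS h (P.ng (P.sim (π i))) (ψ i t)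

theorem mixed_nil {a b : ℕ} (ha : a < P.rank) (hb : b < P.rank) (hab : a ≠ b) :
    P.cterms (P.sim a) (P.ng (P.sim b)) = [] ∧ P.cterms (P.ng (P.sim b)) (P.sim a) = [] := by
  have hA := h.sim_lt ha
  have hB := h.sim_lt hb
  have h1 : P.len (P.sim a) (P.ng (P.sim b)) = 0 := by
    by_contra hne
    have hk : 0 < P.len (P.sim a) (P.ng (P.sim b)) := Nat.pos_of_ne_zero hne
    have hk' := h.tgt_lt hA (Ok.ng_lt hB) hk
    have e1 := h.rv_additive hA (Ok.ng_lt hB) hk ha
    have e2 := h.rv_additive hA (Ok.ng_lt hB) hk hb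
    rw [h.rv_sim ha ha, h.rv_ng hB ha, h.rv_sim hb ha, if_pos rfl, if_neg (Ne.symm hab)] at e1
    rw [h.rv_sim ha hb, h.rv_ng hB hb, h.rv_sim hb hb, if_neg hab, if_pos rfl] at e2
    cases hp : P.isPos (P.tgt (P.sim a) (P.ng (P.sim b)) 0)
    · have := (h.rv_sign (Ok.ng_lt hk') ha).1 ((h.ng_pos_iff hk').2 hp)
      rw [h.rv_ng hk' ha] at this
      omega
    · have := (h.rv_sign hk' hb).1 hp
      omega
  have h2 : P.len (P.ng (P.sim b)) (P.sim a) = 0 := by
    by_contra hne
    have hk : 0 < P.len (P.ng (P.sim b)) (P.sim a) := Nat.pos_of_ne_zero hne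
    have hk' := h.tgt_lt (Ok.ng_lt hB) hA hk
    have e1 := h.rv_additive (Ok.ng_lt hB) hA hk ha
    have e2 := h.rv_additive (Ok.ng_lt hB) hA hk hb
    rw [h.rv_sim ha ha, h.rv_ng hB ha, h.rv_sim hb ha, if_pos rfl, if_neg (Ne.symm hab)] at e1
    rw [h.rv_sim ha hb, h.rv_ng hB hb, h.rv_sim hb hb, if_neg hab, if_pos rfl] at e2
    cases hp : P.isPos (P.tgt (P.ng (P.sim b)) (P.sim a) 0)
    · have := (h.rv_sign (Ok.ng_lt hk') ha).1 ((h.ng_pos_iff hk').2 hp)
      rw [h.rv_ng hk' ha] at this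
      omega
    · have := (h.rv_sign hk' hb).1 hp
      omega
  simp [Pk.cterms, Pk.cRoot, Pk.entry, h1, h2]

theorem exists_par [Fintype F] (hC : P.ckComm = true) {θ : D.group F ≃* D.group F}
    (hU : Pres θ (D.posUnipotent F)) (hV : Pres θ (D.negUnipotent F)) :
    ∃ π φ ψ, Par h θ π φ ψ := by
  classical
  set B := h.bnPair (F := F) hC
  have hBor := pres_borel h hC hU
  -- the permutation
  have hex : ∀ i : Fin P.rank, ∃ j : Fin P.rank, ∀ g, θ g ∈ Pmin h hC j ↔ g ∈ Pmin h hC i := by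
    intro i
    set M : Subgroup (D.group F) := (Pmin h hC i).comap θ.symm.toMonoidHom
    have hBM : B.B ≤ M := by
      intro g hg
      refine Cfsg.Agent.BN.B_le_parabolic B _ ?_
      show (θ.symm g : GL D.Idx F) ∈ D.borelSubgroup F
      exact ((pres_borel h hC hU).symm g).2 (Subgroup.mem_subgroupOf.1 hg)
    have hsi : θ (h.sG i) ∈ M := by
      show θ.symm (θ (h.sG i)) ∈ Pmin h hC i
      rw [θ.symm_apply_apply]
      exact Cfsg.Agent.BN.self_mem_parabolic _ _ rfl
    obtain ⟨j, hj⟩ : ∃ j : Fin P.rank, h.sG j ∈ M := by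
      by_contra hno
      have e : B.S ∩ (M : Set (D.group F)) = ∅ := by
        ext y
        simp only [Set.mem_inter_iff, Set.mem_empty_iff_false, iff_false, not_and]
        rintro ⟨j, rfl⟩ hy
        exact hno ⟨j, hy⟩
      have hM := Cfsg.Agent.BN.eq_parabolic B hBM
      rw [e] at hM
      have hp : B.parabolic ∅ = B.B := by
        refine le_antisymm (fun y hy => ?_) (Cfsg.Agent.BN.B_le_parabolic B ∅)
        have hy' : y ∈ Cfsg.Agent.BN.PJ B ∅ := by
          rw [← Cfsg.Agent.BN.parabolic_eq B (Set.empty_subset _)]; exact hy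
        obtain ⟨l, hl, hyl⟩ := hy'
        cases l with
        | nil => exact (Cfsg.Agent.BN.mem_C_one_iff B).1 hyl
        | cons a l => exact absurd (hl a List.mem_cons_self) (Set.notMem_empty _)
      rw [hM, hp] at hsi
      have : (θ (h.sG i) : GL D.Idx F) ∈ D.borelSubgroup F := Subgroup.mem_subgroupOf.1 hsi
      exact Cfsg.Agent.BN.s_not_mem B ⟨h.sG i, ⟨i, rfl⟩⟩ (Subgroup.mem_subgroupOf.2 ((hBor _).1 this))
    refine ⟨j, fun g => ⟨fun hg => ?_, fun hg => ?_⟩⟩
    · have hle : Pmin h hC j ≤ M := sup_le hBM ((Subgroup.closure_le _).2 (by rintro _ rfl; exact hj))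
      have := hle hg
      rwa [Subgroup.mem_comap, MulEquiv.coe_toMonoidHom, θ.symm_apply_apply] at this
    · set N : Subgroup (D.group F) := (Pmin h hC j).comap θ.toMonoidHom
      have hBN : B.B ≤ N := fun g hg =>
        Cfsg.Agent.BN.B_le_parabolic B _ (Subgroup.mem_subgroupOf.2 ((hBor g).2 (Subgroup.mem_subgroupOf.1 hg)))
      have hgi : Pmin h hC i ≤ N := by
        have hsj : θ.symm (h.sG j) ∈ Pmin h hC i := hj
        have hle : N ≤ Pmin h hC i := by
          intro y hy
          have hle' : Pmin h hC j ≤ M := sup_le hBM ((Subgroup.closure_le _).2 (by rintro _ rfl; exact hj))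
          have := hle' hy
          rwa [Subgroup.mem_comap, MulEquiv.coe_toMonoidHom, MulEquiv.coe_toMonoidHom, θ.symm_apply_apply] at this
        refine sup_le hBN ((Subgroup.closure_le _).2 ?_)
        rintro _ rfl
        obtain ⟨k, hk⟩ : ∃ k : Fin P.rank, h.sG k ∈ N := by
          by_contra hno
          have e : B.S ∩ (N : Set (D.group F)) = B.S ∩ (B.B : Set (D.group F)) := by
            ext y
            simp only [Set.mem_inter_iff, and_congr_right_iff]
            rintro ⟨k, rfl⟩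
            exact iff_of_false (fun hy => hno ⟨k, hy⟩) (Cfsg.Agent.BN.s_not_mem B ⟨h.sG k, ⟨k, rfl⟩⟩)
          have hN := Cfsg.Agent.BN.eq_parabolic B hBN
          rw [e, ← Cfsg.Agent.BN.eq_parabolic B le_rfl] at hN
          have : θ.symm (h.sG j) ∈ N := by
            rw [Subgroup.mem_comap, MulEquiv.coe_toMonoidHom, θ.apply_symm_apply]
            exact Cfsg.Agent.BN.self_mem_parabolic _ _ rfl
          rw [hN] at this
          refine Cfsg.Agent.BN.s_not_mem B ⟨h.sG j, ⟨j, rfl⟩⟩ (Subgroup.mem_subgroupOf.2 ?_)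
          have h2 := (hBor _).2 (Subgroup.mem_subgroupOf.1 this)
          rwa [θ.apply_symm_apply] at h2
        have hki : h.sG (F := F) k ∈ B.S ∩ (B.parabolic {h.sG i} : Set (D.group F)) :=
          Set.mem_inter ⟨k, rfl⟩ (hle hk)
        rw [Cfsg.Agent.BN.inter_parabolic B (by rintro _ rfl; exact ⟨i, rfl⟩)] at hki
        rw [Set.mem_singleton_iff] at hki
        rw [← hki]
        exact hk
      exact hgi hg
  choose π hπ using hex
  have hπinj : Function.Injective π := by
    intro i k e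
    have h1 : h.sG (F := F) i ∈ Pmin h hC k := by
      rw [← hπ k, ← e, hπ i]; exact Cfsg.Agent.BN.self_mem_parabolic _ _ rfl
    have h2 : h.sG (F := F) i ∈ B.S ∩ (B.parabolic {h.sG k} : Set (D.group F)) := Set.mem_inter ⟨i, rfl⟩ h1
    rw [Cfsg.Agent.BN.inter_parabolic B (by rintro _ rfl; exact ⟨k, rfl⟩)] at h2
    rw [Set.mem_singleton_iff] at h2
    exact h.sG_inj (F := F) (by rw [h2, inv_mul_cancel]; exact one_mem _)
  have hπb : Function.Bijective π := Finite.injective_iff_bijective.1 hπinj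
  -- negative fundamental root subgroups
  have hnotpos : ∀ i : Fin P.rank, P.isPos (P.ng (P.sim i)) = false := by
    intro i; rw [← Bool.not_eq_true, h.ng_pos_iff (h.sim_lt i.isLt), h.sim_pos i.isLt]; simp
  have hneg : ∀ (i : Fin P.rank) (t : F), ∃ s, θ (xS h (P.ng (P.sim i)) t) = xS h (P.ng (P.sim (π i))) s := by
    intro i t
    obtain ⟨s, hs⟩ := neg_inter_Pmin h hC (π i) ((hπ i _).2 (xG_neg_sim_mem_Pmin h hC i t))
      ((hV _).2 (h.xG_mem_neg (Ok.ng_lt (h.sim_lt i.isLt)) (hnotpos i) t))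
    exact ⟨s, Subtype.ext hs⟩
  choose ψ hψ using hneg
  -- positive fundamental root subgroups
  obtain ⟨l, hlw, hlneg⟩ := h.exists_longest
  have hl : Longest P l := ⟨hlw, hlneg⟩
  set n₀ : D.group F := ⟨h.nW l, h.monomial_le_group (h.nW_mem l hl.1)⟩
  obtain ⟨d, hd, hdeq⟩ : ∃ d ∈ D.diagonalSubgroup F, (θ n₀ : GL D.Idx F) = h.nW l * d := by
    refine ⟨(h.nW l)⁻¹ * (θ n₀ : GL D.Idx F), mem_diagonal_of_normalizes h hC
      (mul_mem (inv_mem (h.monomial_le_group (h.nW_mem l hl.1))) (θ n₀).2) (fun u hu => ?_) (fun u hu => ?_),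
      by group⟩
    · set u' : D.group F := θ.symm ⟨u, pos_le_group h hu⟩
      have hu' : (u' : GL D.Idx F) ∈ D.posUnipotent F := (hU.symm _).2 hu
      have h1 := (hV (n₀ * u' * n₀⁻¹)).2 (conj_longest_neg h hl hu')
      rw [map_mul, map_mul, map_inv, θ.apply_symm_apply] at h1
      have := conj_longest_inv_pos h hl h1
      convert this using 1
      simp [mul_assoc]
    · set u' : D.group F := θ.symm ⟨u, neg_le_group h hu⟩
      have hu' : (u' : GL D.Idx F) ∈ D.negUnipotent F := (hV.symm _).2 hu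
      have h1 := (hU (n₀ * u' * n₀⁻¹)).2 (conj_longest_pos h hl hu')
      rw [map_mul, map_mul, map_inv, θ.apply_symm_apply] at h1
      have h2 := conj_longest_neg h (longest_reverse h hl) h1
      have hdd : h.nW (F := F) l.reverse * h.nW l ∈ D.diagonalSubgroup F := by
        rw [← h.nW_append]
        exact h.nW_mem_diagonal (fun x hx => by
            rcases List.mem_append.1 hx with a | a
            exacts [hl.1 x (List.mem_reverse.1 a), hl.1 x a])
          (fun r hr => by rw [wl_append, h.wl_reverse l hl.1 r hr])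
      have h3 := (Subgroup.mem_normalizer_iff.1 (inv_mem (h.neg_normalized hdd)) _).1 h2
      convert h3 using 1
      simp [mul_assoc]
  obtain ⟨ρ, hρ⟩ : ∃ ρ : Fin P.rank → Fin P.rank, ∀ j : Fin P.rank,
      wl P l (P.ng (P.sim j)) = P.sim (ρ j) := by
    have : ∀ j : Fin P.rank, ∃ k : Fin P.rank, wl P l (P.ng (P.sim j)) = P.sim k := by
      intro j
      have hp := Ok.ng_lt (P := P) (h.sim_lt j.isLt)
      have hl' := longest_reverse h hl
      obtain ⟨k, hk, hk'⟩ := longest_simple h hl' j.isLt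
      refine ⟨⟨k, hk⟩, ?_⟩
      have := h.wl_reverse l.reverse hl'.1 _ (h.sim_lt hk)
      rw [List.reverse_reverse, hk'] at this
      exact this
    choose ρ hρ using this
    exact ⟨ρ, hρ⟩
  have hρb : Function.Bijective ρ := by
    refine Finite.injective_iff_bijective.1 fun a b e => ?_
    have e1 := hρ a
    rw [e, ← hρ b] at e1
    have h1 := congrArg (wl P l.reverse) e1
    rw [h.wl_reverse l hl.1 _ (Ok.ng_lt (h.sim_lt a.isLt)), h.wl_reverse l hl.1 _ (Ok.ng_lt (h.sim_lt b.isLt))]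
      at h1
    have h2 := congrArg P.ng h1
    rw [Ok.ng_ng (h.sim_lt a.isLt), Ok.ng_ng (h.sim_lt b.isLt)] at h2
    have h3 := congrArg (fun r => P.rv r a.val) h2
    simp only [h.rv_sim a.isLt a.isLt, h.rv_sim b.isLt a.isLt, ↓reduceIte] at h3
    by_contra hab
    rw [if_neg (fun e => hab (Fin.ext e.symm))] at h3
    exact one_ne_zero h3
  have hpos0 : ∀ (j : Fin P.rank) (t : F), ∃ s, θ (xS h (P.sim (ρ j)) t) = xS h (P.sim (ρ (π j))) s := by
    intro j t
    obtain ⟨e, he, hx⟩ := h.nW_xG (F := F) l hl.1 _ (Ok.ng_lt (h.sim_lt j.isLt))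
    rw [hρ] at hx
    have e1 : xS h (P.sim (ρ j)) t = n₀ * xS h (P.ng (P.sim j)) (e * t) * n₀⁻¹ := by
      refine Subtype.ext ?_
      show h.xG _ t = h.nW l * h.xG _ (e * t) * (h.nW l)⁻¹
      rw [(hx (e * t)).1, ← mul_assoc, he, one_mul]
    obtain ⟨c, -, hc⟩ := h.conj_nW (F := F) hl.1 hd (Ok.ng_lt (h.sim_lt (π j).isLt))
    rw [hρ] at hc
    refine ⟨c * ψ j (e * t), Subtype.ext ?_⟩
    rw [e1, map_mul, map_mul, map_inv, hψ, Subgroup.coe_mul, Subgroup.coe_mul, Subgroup.coe_inv, hdeq]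
    exact hc _
  have hpos1 : ∀ i : Fin P.rank, ∃ k : Fin P.rank, ∀ t, ∃ s, θ (xS h (P.sim i) t) = xS h (P.sim k) s := by
    intro i
    obtain ⟨j, rfl⟩ := hρb.2 i
    exact ⟨ρ (π j), hpos0 j⟩
  choose σ φ hφ using hpos1
  -- the two permutations agree
  have hσπ : ∀ i, σ i = π i := by
    intro i
    by_contra hne
    have hcomm : Commute (θ (xS h (P.sim i) (1 : F))) (θ (xS h (P.ng (P.sim i)) 1)) := by
      rw [hφ, hψ]
      have hne' : ((π i : Fin P.rank) : ℕ) ≠ (σ i : ℕ) := fun e => hne (Fin.ext e.symm)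
      obtain ⟨hnil, -⟩ := mixed_nil h (σ i).isLt (π i).isLt hne'.symm
      have ha := h.sim_lt (σ i).isLt
      have hb := Ok.ng_lt (P := P) (h.sim_lt (π i).isLt)
      refine Subtype.ext (Units.ext ?_)
      simp only [Subgroup.coe_mul, coe_xS, Units.val_mul, h.coe_xG]
      have hsr : P.ng (P.sim (π i)) ≠ P.sim (σ i) := fun e => by
        have := h.sim_pos (σ i).isLt
        rw [← e, Bool.eq_false_iff.1 (hnotpos (π i)) |> fun x => (Bool.not_eq_true _).mp x] at this
        exact Bool.false_ne_true this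
      have hsn : P.ng (P.sim (π i)) ≠ P.ng (P.sim (σ i)) := fun e => by
        have e' := congrArg P.ng e
        rw [Ok.ng_ng (h.sim_lt (π i).isLt), Ok.ng_ng (h.sim_lt (σ i).isLt)] at e'
        have h3 := congrArg (fun r => P.rv r (π i).val) e'
        simp only [h.rv_sim (π i).isLt (π i).isLt, h.rv_sim (σ i).isLt (π i).isLt, ↓reduceIte] at h3
        rw [if_neg hne'.symm] at h3
        exact one_ne_zero h3
      have := h.x_comm hC ha hb hsr hsn (φ i 1) (ψ i 1)
      rw [ChevalleyDatum.commWord, h.cterms_eq ha hb, hnil] at this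
      simpa [ChevalleyDatum.wordMat] using this.symm
    have hc : Commute (xS h (P.sim i) (1 : F)) (xS h (P.ng (P.sim i)) 1) := by
      apply θ.injective
      rw [map_mul, map_mul]
      exact hcomm
    have hcG : Commute (h.xG (P.sim i) (1 : F)) (h.xG (P.ng (P.sim i)) 1) := congrArg Subtype.val hc
    have hconj : h.nG i * h.xG (P.sim i) (1 : F) * (h.nG i)⁻¹ = h.xG (P.sim i) 1 := by
      have hy : Commute (h.xG (P.sim i) (1 : F)) (h.xG (P.ng (P.sim i)) (-1⁻¹)) := by
        rw [inv_one, ← h.xG_inv]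
        exact hcG.inv_right
      have hn : Commute (h.xG (P.sim i) (1 : F)) (h.nG i) :=
        ((Commute.refl _).mul_right hy).mul_right (Commute.refl _)
      rw [← hn.eq, mul_inv_cancel_right]
    exact h.nG_not_conj (F := F) i.isLt
      (by rw [hconj]; exact Subgroup.mem_sup_left (h.xG_mem_pos (h.sim_pos i.isLt) _))
  exact ⟨π, φ, ψ, hU, hV, hπb, fun i t => by rw [hφ, hσπ], hψ⟩

end Cfsg.Agent.Chev.Aut
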