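/-
The maps on parameters of a normalised automorphism are field automorphisms.
-/
import Cfsg.Agent.Lib.Chev.Aut.Params
import Cfsg.Agent.Lib.Chev.Coxeter
import Cfsg.Agent.Lib.Chev.RootChar

set_option autoImplicit false
set_option linter.unusedSectionVars false

namespace Cfsg.Agent.Chev.Aut

open Cfsg.Agent.Chev Cfsg.Lie

variable {D : ChevalleyDatum} {P : Pk} {F : Type*} [Field F]
variable (h : Ok D P)
include h

variable {θ : D.group F ≃* D.group F} {π : Fin P.rank → Fin P.rank} {φ ψ : Fin P.rank → F → F}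

theorem sim_neg_ne {i : ℕ} (hi : i < P.rank) : P.isPos (P.ng (P.sim i)) = false := by
  rw [← Bool.not_eq_true, h.ng_pos_iff (h.sim_lt hi), h.sim_pos hi]; simp

theorem phi_add (hp : Par h θ π φ ψ) (i : Fin P.rank) (a b : F) : φ i (a + b) = φ i a + φ i b := by
  apply xS_inj h (h.sim_lt (π i).isLt)
  rw [← xS_add, ← hp.pos, ← hp.pos, ← hp.pos, ← map_mul, xS_add]

theorem psi_add (hp : Par h θ π φ ψ) (i : Fin P.rank) (a b : F) : ψ i (a + b) = ψ i a + ψ i b := by
  apply xS_inj h (Ok.ng_lt (h.sim_lt (π i).isLt))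
  rw [← xS_add, ← hp.neg, ← hp.neg, ← hp.neg, ← map_mul, xS_add]

theorem phi_zero (hp : Par h θ π φ ψ) (i : Fin P.rank) : φ i 0 = 0 := by
  have := phi_add h hp i 0 0
  rw [add_zero] at this
  exact left_eq_add.1 this

theorem psi_zero (hp : Par h θ π φ ψ) (i : Fin P.rank) : ψ i 0 = 0 := by
  have := psi_add h hp i 0 0
  rw [add_zero] at this
  exact left_eq_add.1 this

theorem phi_neg (hp : Par h θ π φ ψ) (i : Fin P.rank) (a : F) : φ i (-a) = -φ i a := by
  refine eq_neg_of_add_eq_zero_left ?_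
  rw [← phi_add h hp, neg_add_cancel, phi_zero h hp]

theorem phi_injective (hp : Par h θ π φ ψ) (i : Fin P.rank) : Function.Injective (φ i) := fun a b e =>
  xS_inj h (h.sim_lt i.isLt) (θ.injective (by rw [hp.pos, hp.pos, e]))

theorem psi_injective (hp : Par h θ π φ ψ) (i : Fin P.rank) : Function.Injective (ψ i) := fun a b e =>
  xS_inj h (Ok.ng_lt (h.sim_lt i.isLt)) (θ.injective (by rw [hp.neg, hp.neg, e]))

/-- `n_r(t)` inside the group. -/
def ntS (r : ℕ) (t : F) : D.group F := xS h r t * xS h (P.ng r) (-t⁻¹) * xS h r t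

theorem coe_ntS (r : ℕ) (t : F) : (ntS h r t : GL D.Idx F) = h.nt r t := rfl

/-- `h_r(t)` inside the group. -/
def htS (r : ℕ) (t : F) : D.group F := ntS h r t * ntS h r (-1)

theorem coe_htS (r : ℕ) (t : F) : (htS h r t : GL D.Idx F) = h.ht r t := rfl

theorem nt_conj {j : ℕ} (hj : j < P.rank) {d : F} (hd : d ≠ 0) {r : ℕ} (hr : r < P.nroots) :
    ∃ k : F, k ≠ 0 ∧ ∀ u : F,
      h.nt (P.sim j) d * h.xG r u * (h.nt (P.sim j) d)⁻¹ = h.xG (P.w j r) (k * u) := by
  refine ⟨d ^ P.pair (P.sim j) (P.w j r) * (P.eta j r : F), mul_ne_zero (zpow_ne_zero _ hd) ?_, fun u => ?_⟩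
  · rcases h.eta_cases j r with e | e <;> simp [e]
  · rw [h.nt_eq_ht_mul, h.ht_eq (h.sim_lt hj) hd,
      show ∀ a b c : GL D.Idx F, a * b * c * (a * b)⁻¹ = a * (b * c * b⁻¹) * a⁻¹ by intros; group]
    rw [show h.nt (P.sim j) (1 : F) = h.nG j from rfl, h.nG_xG hj hr, h.dG_xG _ (h.w_lt hj hr), mul_assoc]

theorem w_ng_sim {j : ℕ} (hj : j < P.rank) : P.w j (P.ng (P.sim j)) = P.sim j := by
  rw [h.w_ng hj (h.sim_lt hj), h.w_sim hj, Ok.ng_ng (h.sim_lt hj)]

/-- Only the identity of the opposite root subgroup normalises a fundamental root subgroup. -/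
theorem no_conj {j : ℕ} (hj : j < P.rank) {c u v : F} (hu : u ≠ 0)
    (e : h.xG (P.ng (P.sim j)) c * h.xG (P.sim j) u * (h.xG (P.ng (P.sim j)) c)⁻¹ = h.xG (P.sim j) v) :
    c = 0 := by
  by_contra hc
  set d : F := -c⁻¹ with hdd
  have hd : d ≠ 0 := by simp [hdd, hc]
  have hcd : -d⁻¹ = c := by simp [hdd]
  have hx : h.xG (P.ng (P.sim j)) c = h.xG (P.sim j) (-d) * h.nt (P.sim j) d * h.xG (P.sim j) (-d) := by
    rw [Ok.nt, hcd, ← h.xG_inv]; group
  have hcomm : h.xG (P.sim j) (-d) * h.xG (P.sim j) u * (h.xG (P.sim j) (-d))⁻¹ = h.xG (P.sim j) u := by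
    rw [h.xG_inv, h.xG_add, h.xG_add]; congr 1; ring
  obtain ⟨k, hk, hn⟩ := nt_conj h hj hd (h.sim_lt hj)
  rw [hx, show ∀ a b w : GL D.Idx F, a * b * a * w * (a * b * a)⁻¹ = a * (b * (a * w * a⁻¹) * b⁻¹) * a⁻¹ by
    intros; group, hcomm, hn, h.w_sim hj] at e
  have e2 : h.xG (P.ng (P.sim j)) (k * u) = h.xG (P.sim j) v := by
    have e3 := congrArg (fun g => (h.xG (P.sim j) (-d))⁻¹ * g * h.xG (P.sim j) (-d)) e
    simp only [mul_assoc, inv_mul_cancel, mul_one, inv_mul_cancel_left] at e3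
    rw [e3, h.xG_inv, h.xG_add, h.xG_add]; congr 1; ring
  have h0 := h.nG_not_neg_mem hj (t := k * u) (by rw [e2]; exact Subgroup.mem_sup_left (h.xG_mem_pos (h.sim_pos hj) v))
  have := h.xG_inj_param (Ok.ng_lt (h.sim_lt hj)) (h0.trans (h.xG_zero _).symm)
  exact mul_ne_zero hk hu this

variable [Fintype F]

theorem phi_bijective (hp : Par h θ π φ ψ) (i : Fin P.rank) : Function.Bijective (φ i) :=
  Finite.injective_iff_bijective.1 (phi_injective h hp i)

theorem psi_bijective (hp : Par h θ π φ ψ) (i : Fin P.rank) : Function.Bijective (ψ i) :=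
  Finite.injective_iff_bijective.1 (psi_injective h hp i)

theorem psi_phi (hp : Par h θ π φ ψ) (i : Fin P.rank) {t : F} (ht : t ≠ 0) :
    ψ i (-t⁻¹) = -(φ i t)⁻¹ := by
  set y := φ i t with hydef
  have hy : y ≠ 0 := fun e => ht (phi_injective h hp i (e.trans (phi_zero h hp i).symm))
  set s := ψ i (-t⁻¹)
  set j := π i
  set A := P.sim (j : ℕ)
  set N := P.ng A
  have hA := h.sim_lt j.isLt
  have hi := h.sim_lt i.isLt
  have hθ : (θ (ntS h (P.sim i) t) : GL D.Idx F) = h.xG A y * h.xG N s * h.xG A y := by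
    rw [ntS, map_mul, map_mul, hp.pos, hp.neg]; rfl
  -- the image maps the opposite root subgroup into the root subgroup
  obtain ⟨k, hk, hconj⟩ := nt_conj h i.isLt ht (Ok.ng_lt hi)
  rw [w_ng_sim h i.isLt] at hconj
  have h1 : ∀ u : F, ∃ v : F,
      (θ (ntS h (P.sim i) t) : GL D.Idx F) * h.xG N u * (θ (ntS h (P.sim i) t) : GL D.Idx F)⁻¹ = h.xG A v := by
    intro u
    obtain ⟨u', rfl⟩ := (psi_bijective h hp i).2 u
    refine ⟨φ i (k * u'), ?_⟩
    have e : ntS h (P.sim i) t * xS h (P.ng (P.sim i)) u' * (ntS h (P.sim i) t)⁻¹ = xS h (P.sim i) (k * u') :=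
      Subtype.ext (hconj u')
    have e' := congrArg (fun g : D.group F => (θ g : GL D.Idx F)) e
    simp only [map_mul, map_inv, hp.pos, hp.neg, Subgroup.coe_mul, Subgroup.coe_inv] at e'
    exact e'
  have hfac : (θ (ntS h (P.sim i) t) : GL D.Idx F) =
      h.xG A y * h.xG N (s + y⁻¹) * (h.xG A y)⁻¹ * h.nt A y := by
    rw [hθ, Ok.nt, ← h.xG_add N s y⁻¹,
      show h.xG N (-y⁻¹) = (h.xG N y⁻¹)⁻¹ from (h.xG_inv _ _).symm]
    group
  obtain ⟨u, hu, hu'⟩ : ∃ u : F, u ≠ 0 ∧ ∀ g : GL D.Idx F,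
      g * h.nt A y * h.xG N u * (g * h.nt A y)⁻¹ = g * h.xG A 1 * g⁻¹ := by
    obtain ⟨k₂, hk₂, hn₂⟩ := nt_conj h j.isLt hy (Ok.ng_lt hA)
    rw [w_ng_sim h j.isLt] at hn₂
    refine ⟨k₂⁻¹, inv_ne_zero hk₂, fun g => ?_⟩
    rw [show ∀ a b c : GL D.Idx F, a * b * c * (a * b)⁻¹ = a * (b * c * b⁻¹) * a⁻¹ by intros; group, hn₂,
      mul_inv_cancel₀ hk₂]
  obtain ⟨v, hv⟩ := h1 u
  rw [hfac, hu'] at hv
  have hc : h.xG A y * h.xG A 1 * (h.xG A y)⁻¹ = h.xG A 1 := by
    rw [h.xG_inv, h.xG_add, h.xG_add]; congr 1; ring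
  have hv' : h.xG N (s + y⁻¹) * h.xG A 1 * (h.xG N (s + y⁻¹))⁻¹ = h.xG A v := by
    have e := congrArg (fun g => (h.xG A y)⁻¹ * g * h.xG A y) hv
    simp only [mul_inv_rev, inv_inv] at e
    have l : h.xG N (s + y⁻¹) * h.xG A 1 * (h.xG N (s + y⁻¹))⁻¹ =
        (h.xG A y)⁻¹ * (h.xG A y * h.xG N (s + y⁻¹) * (h.xG A y)⁻¹ * h.xG A 1 *
          (h.xG A y * ((h.xG N (s + y⁻¹))⁻¹ * (h.xG A y)⁻¹))) * h.xG A y := by
      have hc2 : (h.xG A y)⁻¹ * h.xG A 1 * h.xG A y = h.xG A 1 := by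
        rw [h.xG_inv, h.xG_add, h.xG_add]; congr 1; ring
      nth_rewrite 1 [← hc2]
      group
    rw [l, e, h.xG_inv, h.xG_add, h.xG_add]; congr 1; ring
  exact eq_neg_of_add_eq_zero_left (no_conj h j.isLt one_ne_zero hv')

theorem theta_ntS (hp : Par h θ π φ ψ) (i : Fin P.rank) {t : F} (ht : t ≠ 0) :
    θ (ntS h (P.sim i) t) = ntS h (P.sim (π i)) (φ i t) := by
  rw [ntS, ntS, map_mul, map_mul, hp.pos, hp.neg, psi_phi h hp i ht]

theorem theta_htS (hp : Par h θ π φ ψ) (h1 : ∀ i, φ i 1 = 1) (i : Fin P.rank) {t : F} (ht : t ≠ 0) :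
    θ (htS h (P.sim i) t) = htS h (P.sim (π i)) (φ i t) := by
  rw [htS, htS, map_mul, theta_ntS h hp i ht, theta_ntS h hp i (neg_ne_zero.2 one_ne_zero), phi_neg h hp, h1]

theorem htS_conj {i r : ℕ} (hi : i < P.rank) (hr : r < P.nroots) {t : F} (ht : t ≠ 0) (u : F) :
    htS h (P.sim i) t * xS h r u * (htS h (P.sim i) t)⁻¹ = xS h r (t ^ P.A i r * u) := by
  refine Subtype.ext ?_
  show h.ht (P.sim i) t * h.xG r u * (h.ht (P.sim i) t)⁻¹ = h.xG r _
  rw [h.ht_eq (h.sim_lt hi) ht, h.dG_xG _ hr, h.pair_sim hi]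

theorem phi_torus (hp : Par h θ π φ ψ) (h1 : ∀ i, φ i 1 = 1) (i j : Fin P.rank) {t : F} (ht : t ≠ 0) (u : F) :
    φ j (t ^ P.A i (P.sim j) * u) = φ i t ^ P.A (π i) (P.sim (π j)) * φ j u := by
  have e := congrArg θ (htS_conj h i.isLt (h.sim_lt j.isLt) ht u)
  have hy : φ i t ≠ 0 := fun e => ht (phi_injective h hp i (e.trans (phi_zero h hp i).symm))
  rw [map_mul, map_mul, map_inv, theta_htS h hp h1 i ht, hp.pos, hp.pos,
    htS_conj h (π i).isLt (h.sim_lt (π j).isLt) hy] at e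
  exact (xS_inj h (h.sim_lt (π j).isLt) e).symm

theorem phi_sq_mul (hp : Par h θ π φ ψ) (h1 : ∀ i, φ i 1 = 1) (i : Fin P.rank) (t u : F) :
    φ i (t ^ 2 * u) = φ i t ^ 2 * φ i u := by
  by_cases ht : t = 0
  · simp [ht, phi_zero h hp i]
  · have := phi_torus h hp h1 i i ht u
    rw [h.A_self i.isLt, h.A_self (π i).isLt, zpow_two, zpow_two] at this
    rw [pow_two, pow_two]
    exact this

theorem phi_mul (hp : Par h θ π φ ψ) (h1 : ∀ i, φ i 1 = 1) (i : Fin P.rank) (t u : F) :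
    φ i (t * u) = φ i t * φ i u := by
  by_cases h2 : (2 : F) = 0
  · have hsq : Function.Injective fun x : F => x ^ 2 := by
      intro a b e
      have e1 : (a - b) ^ 2 = 0 := by
        have e' : a ^ 2 = b ^ 2 := e
        linear_combination e' + (b ^ 2 - a * b) * h2
      exact sub_eq_zero.1 (pow_eq_zero_iff (by norm_num) |>.1 e1)
    obtain ⟨s, rfl⟩ := (Finite.injective_iff_bijective.1 hsq).2 t
    simp only
    have := phi_sq_mul h hp h1 i s 1
    rw [mul_one, h1, mul_one] at this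
    rw [this, phi_sq_mul h hp h1]
  · have a := phi_sq_mul h hp h1 i (t + 1) u
    have b : (t + 1) ^ 2 * u = t ^ 2 * u + (t * u + t * u) + u := by ring
    rw [b, phi_add h hp, phi_add h hp, phi_add h hp, phi_sq_mul h hp h1 i t u, phi_add h hp i t 1, h1] at a
    have c : (2 : F) * (φ i (t * u) - φ i t * φ i u) = 0 := by linear_combination a
    exact sub_eq_zero.1 ((mul_eq_zero.1 c).resolve_left h2)

/-- The parameter maps are field automorphisms tied together by the Cartan integers. -/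
theorem exists_ringEquiv (hp : Par h θ π φ ψ) (h1 : ∀ i, φ i 1 = 1) :
    ∃ τ : Fin P.rank → F ≃+* F, (∀ i t, φ i t = τ i t) ∧ (∀ i t, ψ i t = τ i t) ∧
      ∀ (i j : Fin P.rank) (t : F), t ≠ 0 → τ j (t ^ P.A i (P.sim j)) = τ i t ^ P.A (π i) (P.sim (π j)) := by
  let τ : Fin P.rank → F ≃+* F := fun i => RingEquiv.ofBijective
    ({ toFun := φ i, map_one' := h1 i, map_mul' := phi_mul h hp h1 i,
       map_zero' := phi_zero h hp i, map_add' := phi_add h hp i } : F →+* F) (phi_bijective h hp i)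
  refine ⟨τ, fun i t => rfl, fun i t => ?_, fun i j t ht => ?_⟩
  · by_cases ht : t = 0
    · rw [ht, psi_zero h hp, map_zero]
    · have := psi_phi h hp i (t := -t⁻¹) (by simpa using ht)
      rw [show -(-t⁻¹)⁻¹ = t by simp, show φ i (-t⁻¹) = τ i (-t⁻¹) from rfl, map_neg, map_inv₀] at this
      simpa using this
  · have := phi_torus h hp h1 i j ht 1
    rwa [mul_one, h1, mul_one] at this

theorem nW_diag_iff {l : List ℕ} (hl : WordOk P l) :
    h.nW (F := F) l ∈ D.diagonalSubgroup F ↔ ∀ r < P.nroots, wl P l r = r := by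
  refine ⟨fun hm r hr => ?_, fun e => h.nW_mem_diagonal hl e⟩
  have := h.wl_eq_of_mem (F := F) (l := []) (l' := l) (fun _ hx => absurd hx List.not_mem_nil) hl
    (by simpa [Ok.nW_nil] using hm) hr
  exact this.symm

theorem coe_pow_sG (i j : Fin P.rank) : ∀ k : ℕ,
    (((h.sG (F := F) i * h.sG j) ^ k : D.group F) : GL D.Idx F) = h.nW (List.replicate k [i.val, j.val]).flatten
  | 0 => by simp [Ok.nW_nil]
  | k + 1 => by
    rw [pow_succ', Subgroup.coe_mul, coe_pow_sG i j k, List.replicate_succ, List.flatten_cons, h.nW_append]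
    congr 1
    simp [Ok.nW, Ok.sG]

theorem sG_eq_ntS (i : Fin P.rank) : h.sG (F := F) i = ntS h (P.sim i) 1 := rfl

/-- The node map preserves the orders of products of two fundamental reflections. -/
theorem wl_pow_iff (hC : P.ckComm = true) (hp : Par h θ π φ ψ) (h1 : ∀ i, φ i 1 = 1) (i j : Fin P.rank)
    (k : ℕ) :
    (∀ r < P.nroots, wl P (List.replicate k [(π i).val, (π j).val]).flatten r = r) ↔
      ∀ r < P.nroots, wl P (List.replicate k [i.val, j.val]).flatten r = r := by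
  have hok : ∀ a b : Fin P.rank, WordOk P (List.replicate k [a.val, b.val]).flatten := fun a b =>
    h.wordOk_flatten (fun x hx => by
      simp at hx; rcases hx with rfl | rfl
      exacts [a.isLt, b.isLt]) k
  rw [← nW_diag_iff h (F := F) (hok _ _), ← nW_diag_iff h (F := F) (hok _ _), ← coe_pow_sG, ← coe_pow_sG]
  have hs : ∀ a : Fin P.rank, θ (h.sG a) = h.sG (π a) := fun a => by
    rw [sG_eq_ntS, sG_eq_ntS, theta_ntS h hp a one_ne_zero, h1]
  rw [← hs, ← hs, ← map_mul, ← map_pow]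
  exact pres_diagonal h hC hp.presU hp.presV _

end Cfsg.Agent.Chev.Aut
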