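/-
Graph automorphisms on all root elements, and their commutation with field automorphisms.
-/
import Cfsg.Agent.Lib.Chev.Aut.Field

set_option autoImplicit false
set_option linter.unusedSectionVars false

namespace Cfsg.Agent.Chev.Aut

open Cfsg.Agent.Chev Cfsg.Lie

variable {D : ChevalleyDatum} {P : Pk} {F : Type*} [Field F]

/-- One root length: coroot coefficients are root coefficients and the Cartan matrix is minus the bonds. -/
def ckLaced (P : Pk) : Bool :=
  (P.allRoots.all fun r => (List.range P.rank).all fun i => decide (P.co r i = P.rv r i)) &&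
    (List.range P.rank).all fun i => (List.range P.rank).all fun j =>
      Nat.beq i j || decide (P.A i (P.sim j) = -(P.A i (P.sim j) * P.A j (P.sim i)))

variable (h : Ok D P)
include h

/-- Homomorphisms agreeing on the root elements of the fundamental roots and their negatives are equal. -/
theorem hom_ext_simple {M : Type*} [Group M] {f g : D.group F →* M}
    (hpos : ∀ (i : Fin P.rank) (t : F), f (xS h (P.sim i) t) = g (xS h (P.sim i) t))
    (hneg : ∀ (i : Fin P.rank) (t : F), f (xS h (P.ng (P.sim i)) t) = g (xS h (P.ng (P.sim i)) t)) :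
    f = g := by
  have key : ∀ r < P.nroots, ∀ t : F, xS h r t ∈ f.eqLocus g := by
    intro r hr
    refine h.root_induction (Q := fun r => ∀ t : F, xS h r t ∈ f.eqLocus g)
      (fun i hi t => hpos ⟨i, hi⟩ t) (fun i hi r hr hm t => ?_) r hr
    have hn : ntS h (P.sim i) (1 : F) ∈ f.eqLocus g :=
      mul_mem (mul_mem (hpos ⟨i, hi⟩ _) (hneg ⟨i, hi⟩ _)) (hpos ⟨i, hi⟩ _)
    have hsq : (P.eta i r : F) * P.eta i r = 1 := by rw [← Int.cast_mul, Ok.eta_sq, Int.cast_one]
    have e := h.nG_xG hi hr ((P.eta i r : F) * t)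
    rw [← mul_assoc, hsq, one_mul] at e
    have e' : xS h (P.w i r) t =
        ntS h (P.sim i) 1 * xS h r ((P.eta i r : F) * t) * (ntS h (P.sim i) 1)⁻¹ := Subtype.ext e.symm
    rw [e']
    exact mul_mem (mul_mem hn (hm _)) (inv_mem hn)
  have hle : D.group F ≤ (f.eqLocus g).map (D.group F).subtype :=
    h.group_le fun r hr t => ⟨_, key r hr t, rfl⟩
  ext y
  obtain ⟨z, hz, e⟩ := hle y.2
  obtain rfl : z = y := Subtype.ext e
  exact hz

theorem field_graph_commute (f g : D.group F ≃* D.group F) (hf : D.IsFieldAut f) (hg : D.IsGraphAut g)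
    (y : D.group F) : f (g y) = g (f y) := by
  obtain ⟨σ, hσ⟩ := hf
  obtain ⟨π, -, hπ⟩ := hg
  have hfx : ∀ r < P.nroots, ∀ t, f (xS h r t) = xS h r (σ t) := fun r hr t =>
    Subtype.ext (h.eq_xG_iff.1 (hσ _ r t (h.nroots ▸ hr) (h.coe_xG r t)))
  let c : Fin D.rank ≃ Fin P.rank := finCongr h.rank
  have hcv : ∀ u : Fin D.rank, D.simple u = P.sim (c u) := fun u => h.simple_eq (c u).isLt
  set e : Fin P.rank → ℕ := fun i => D.graphExp (ringChar F) (c.symm i : Fin D.rank) (π (c.symm i))
  have hgp : ∀ (i : Fin P.rank) (t : F), g (xS h (P.sim i) t) = xS h (P.sim (c (π (c.symm i)))) (t ^ e i) := by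
    intro i t
    have := (hπ (xS h (P.sim i) t) (c.symm i) t).1 (by rw [hcv, c.apply_symm_apply]; exact h.coe_xG _ t)
    rw [hcv] at this
    exact Subtype.ext (h.eq_xG_iff.1 this)
  have hgn : ∀ (i : Fin P.rank) (t : F),
      g (xS h (P.ng (P.sim i)) t) = xS h (P.ng (P.sim (c (π (c.symm i))))) (t ^ e i) := by
    intro i t
    have := (hπ (xS h (P.ng (P.sim i)) t) (c.symm i) t).2
      (by rw [hcv, c.apply_symm_apply, h.neg_eq (h.sim_lt i.isLt)]; exact h.coe_xG _ t)
    rw [hcv, h.neg_eq (h.sim_lt (c _).isLt)] at this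
    exact Subtype.ext (h.eq_xG_iff.1 this)
  have := hom_ext_simple h (f := (g.trans f).toMonoidHom) (g := (f.trans g).toMonoidHom) (fun i t => ?_)
    (fun i t => ?_)
  · exact DFunLike.congr_fun this y
  · show f (g _) = g (f _)
    rw [hgp, hfx _ (h.sim_lt i.isLt), hgp, hfx _ (h.sim_lt (c _).isLt), map_pow]
  · show f (g _) = g (f _)
    rw [hgn, hfx _ (Ok.ng_lt (h.sim_lt i.isLt)), hgn, hfx _ (Ok.ng_lt (h.sim_lt (c _).isLt)), map_pow]

theorem graph_sign (hl : ckLaced P = true) (π : Equiv.Perm (Fin D.rank)) (hπ : D.IsDiagramSymmetry π)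
    (φ : D.group F ≃* D.group F)
    (hφ : ∀ (g : D.group F) (i : Fin D.rank) (t : F),
      (((g : GL D.Idx F) : Matrix D.Idx D.Idx F) = D.x F (D.simple i) t →
        ((φ g : GL D.Idx F) : Matrix D.Idx D.Idx F) = D.x F (D.simple (π i)) t) ∧
      (((g : GL D.Idx F) : Matrix D.Idx D.Idx F) = D.x F (D.neg (D.simple i)) t →
        ((φ g : GL D.Idx F) : Matrix D.Idx D.Idx F) = D.x F (D.neg (D.simple (π i))) t))
    {r : ℕ} (hr : r < P.nroots) :
    ∃ ε : F, (ε = 1 ∨ ε = -1) ∧ ∀ t : F, φ (xS h r t) = xS h (D.permRoot π r) (ε * t) := by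
  simp only [ckLaced, Bool.and_eq_true, List.all_eq_true, Pk.mem_allRoots, List.mem_range, Bool.or_eq_true,
    nbeq, decide_eq_true_eq] at hl
  let c : Fin D.rank ≃ Fin P.rank := finCongr h.rank
  have hcv : ∀ u : Fin D.rank, D.simple u = P.sim (c u) := fun u => h.simple_eq (c u).isLt
  let p : Equiv.Perm (Fin P.rank) := (c.symm.trans π).trans c
  have hp : ∀ (i : Fin P.rank) (t : F), φ (xS h (P.sim i) t) = xS h (P.sim (p i)) t := by
    intro i t
    have := (hφ (xS h (P.sim i) t) (c.symm i) t).1 (by rw [hcv, c.apply_symm_apply]; exact h.coe_xG _ t)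
    rw [hcv] at this
    exact Subtype.ext (h.eq_xG_iff.1 this)
  have hn : ∀ (i : Fin P.rank) (t : F),
      φ (xS h (P.ng (P.sim i)) t) = xS h (P.ng (P.sim (p i))) t := by
    intro i t
    have := (hφ (xS h (P.ng (P.sim i)) t) (c.symm i) t).2
      (by rw [hcv, c.apply_symm_apply, h.neg_eq (h.sim_lt i.isLt)]; exact h.coe_xG _ t)
    rw [hcv, h.neg_eq (h.sim_lt (c _).isLt)] at this
    exact Subtype.ext (h.eq_xG_iff.1 this)
  have hA : ∀ i k : Fin P.rank, P.A (p i) (P.sim (p k)) = P.A i (P.sim k) := by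
    intro i k
    by_cases hik : i = k
    · subst hik; rw [h.A_self i.isLt, h.A_self (p i).isLt]
    · have hb : ∀ u v : Fin P.rank, u ≠ v → P.A u (P.sim v) = -D.bonds (c.symm u) (c.symm v) := by
        intro u v huv
        rcases hl.2 u u.isLt v v.isLt with e | e
        · exact absurd (Fin.ext e) huv
        · show _ = -(D.cartan (u : ℕ) (D.simple (v : ℕ)) * D.cartan (v : ℕ) (D.simple (u : ℕ)))
          rw [h.simple_eq u.isLt, h.simple_eq v.isLt, h.cartan_eq u.isLt (h.sim_lt v.isLt),
            h.cartan_eq v.isLt (h.sim_lt u.isLt)]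
          exact e
      rw [hb _ _ hik, hb _ _ (fun e => hik (p.injective e))]
      simp only [p, Equiv.trans_apply, Equiv.symm_apply_apply]
      rw [hπ _ _ (fun e => hik (c.symm.injective e))]
  -- the images, with coordinates and signs
  obtain ⟨r', hr', hrv, ε, hε, himg⟩ :
      ∃ r' < P.nroots, (∀ k : Fin P.rank, P.rv r' (p k) = P.rv r k) ∧
        ∃ ε : F, (ε = 1 ∨ ε = -1) ∧ ∀ t, φ (xS h r t) = xS h r' (ε * t) := by
    refine h.root_induction (Q := fun r => ∃ r' < P.nroots, (∀ k : Fin P.rank, P.rv r' (p k) = P.rv r k) ∧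
        ∃ ε : F, (ε = 1 ∨ ε = -1) ∧ ∀ t, φ (xS h r t) = xS h r' (ε * t))
      (fun i hi => ⟨P.sim (p ⟨i, hi⟩), h.sim_lt (p ⟨i, hi⟩).isLt, fun k => ?_, 1, Or.inl rfl,
        fun t => by rw [one_mul]; exact hp ⟨i, hi⟩ t⟩)
      (fun i hi s hs ⟨s', hs', hrv, ε, hε, himg⟩ => ?_) r hr
    · rw [h.rv_sim (p ⟨i, hi⟩).isLt (p k).isLt, h.rv_sim hi k.isLt]
      refine if_congr ⟨fun e => ?_, fun e => ?_⟩ rfl rfl
      · exact congrArg Fin.val (p.injective (Fin.ext e))
      · exact congrArg (fun m => (p m : ℕ)) (Fin.ext e : (⟨i, hi⟩ : Fin P.rank) = k)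
    · set a : Fin P.rank := ⟨i, hi⟩
      have hAs : P.A (p a) s' = P.A a s := by
        rw [h.A_eq_sum hs' (p a).isLt, h.A_eq_sum hs hi, Finset.sum_range, Finset.sum_range,
          ← Equiv.sum_comp p]
        exact Finset.sum_congr rfl fun k _ => by rw [hrv, hA a k]
      refine ⟨P.w (p a) s', h.w_lt (p a).isLt hs', fun k => ?_,
        (P.eta (p a) s' : F) * ε * (P.eta i s : F), ?_, fun t => ?_⟩
      · rw [((h.w_spec (p a).isLt hs').2.2.2.2.2.1 _ (p k).isLt).1,
          ((h.w_spec hi hs).2.2.2.2.2.1 _ k.isLt).1, hrv, hAs]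
        by_cases hk : k = a
        · simp [hk, a]
        · rw [if_neg (fun e => hk (p.injective (Fin.ext e))), if_neg (fun e => hk (Fin.ext e))]
      · rcases hε with rfl | rfl <;> rcases h.eta_cases (p a) s' with e | e <;>
          rcases h.eta_cases i s with e' | e' <;> simp [e, e']
      · have hsq : (P.eta i s : F) * P.eta i s = 1 := by rw [← Int.cast_mul, Ok.eta_sq, Int.cast_one]
        have e' : xS h (P.w i s) t =
            ntS h (P.sim i) 1 * xS h s ((P.eta i s : F) * t) * (ntS h (P.sim i) 1)⁻¹ := by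
          refine Subtype.ext ?_
          have e := h.nG_xG hi hs ((P.eta i s : F) * t)
          rw [← mul_assoc, hsq, one_mul] at e
          exact e.symm
        have hnt : φ (ntS h (P.sim i) 1) = ntS h (P.sim (p a)) 1 := by
          rw [ntS, ntS, map_mul, map_mul, hp a, hn a]
        rw [e', map_mul, map_mul, map_inv, hnt, himg]
        refine Subtype.ext ((h.nG_xG (p a).isLt hs' _).trans ?_)
        rw [coe_xS, mul_assoc, mul_assoc]
  refine ⟨ε, hε, fun t => ?_⟩
  suffices hperm : D.permRoot π r = r' by rw [hperm]; exact himg t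
  have hco : ∀ (u : Fin D.rank) (s : ℕ), s < P.nroots →
      (D.coroot.getD s #[]).getD u.val 0 = P.rv s (c u) := fun u s hs => by
    rw [← hl.1 s hs (c u) (c u).isLt, ← h.coroot_eq hs (c u).isLt]
    rfl
  have hmatch : ((List.finRange D.rank).all fun u =>
      (D.coroot.getD r' #[]).getD (π u).val 0 == (D.coroot.getD r #[]).getD u.val 0) = true := by
    rw [List.all_eq_true]
    intro u _
    rw [beq_iff_eq, hco _ _ hr', hco _ _ hr, ← hrv (c u)]
    simp [p]
  rw [ChevalleyDatum.permRoot]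
  cases hf : (List.range D.nroots).find? fun s => (List.finRange D.rank).all fun u =>
      (D.coroot.getD s #[]).getD (π u).val 0 == (D.coroot.getD r #[]).getD u.val 0 with
  | none =>
    exact absurd hmatch (List.find?_eq_none.1 hf r' (List.mem_range.2 (h.nroots ▸ hr')))
  | some s =>
    have hs : s < P.nroots := h.nroots ▸ List.mem_range.1 (List.mem_of_find?_eq_some hf)
    have hsm := List.find?_some hf
    rw [Option.getD_some]
    refine h.rv_inj hs hr' fun m hm => ?_
    obtain ⟨k, hk⟩ := p.surjective ⟨m, hm⟩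
    have := List.all_eq_true.1 hsm (c.symm k) (List.mem_finRange _)
    rw [beq_iff_eq, hco _ _ hs, hco _ _ hr, c.apply_symm_apply] at this
    have hm' : (c (π (c.symm k)) : ℕ) = m := congrArg Fin.val hk
    rw [hm'] at this
    have h2 := hrv k
    rw [hk] at h2
    exact this.trans h2.symm

end Cfsg.Agent.Chev.Aut
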