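/-
Finite facts about the Dynkin diagrams used for the automorphism theorem.
-/
import Cfsg.Agent.Lib.Chev.Coxeter
import Cfsg.Agent.Lib.Chev.Data.B2
import Cfsg.Agent.Lib.Chev.Data.G2
import Cfsg.Agent.Lib.Chev.Data.D4
import Cfsg.Agent.Lib.Chev.Data.F4
import Cfsg.Agent.Lib.Chev.Data.E6
import Cfsg.Agent.Lib.Chev.Data.E7
import Cfsg.Agent.Lib.Chev.Data.E8

set_option autoImplicit false
set_option Elab.async false

namespace Cfsg.Agent.Chev.Aut

open Cfsg.Agent.Chev

/-- Number of bonds between two nodes. -/
def bond (P : Pk) (i j : ℕ) : ℤ := P.A i (P.sim j) * P.A j (P.sim i)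

/-- The order of the product of two fundamental reflections. -/
def mm (b : ℤ) : ℕ := bif decide (b = 1) then 3 else bif decide (b = 2) then 4 else bif decide (b = 3) then 6 else 2

/-- Long roots, computed on the packed data. -/
def lgB (P : Pk) (r : ℕ) : Bool :=
  P.allRoots.any fun s => !Nat.beq s r && !Nat.beq s (P.ng r) && decide (2 ≤ (P.pair s r).natAbs)

/-- The long nodes are as listed. -/
def ckLg (P : Pk) (L : List Bool) : Bool := (List.range P.rank).all fun i => lgB P (P.sim i) == L.getD i false

/-- Whether a node of short root goes to one of long root. -/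
def eB (L : List Bool) (i i' : ℕ) : Bool := L.getD i' false && !L.getD i false

/-- The exponents along an edge fit the Cartan integer of the image. -/
def edgeOk (a : ℤ) (eI eJ : Bool) : Bool :=
  (decide (a = -1) && (eI == eJ)) || ((decide (a = -2) || decide (a = -3)) && !eI && eJ)

/-- Bonds, orders and exponents. -/
def ckEdge (P : Pk) (L : List Bool) : Bool :=
  (List.range P.rank).all fun i => (List.range P.rank).all fun j => Nat.beq i j ||
    ((decide (bond P i j = 0) || decide (bond P i j = 1) || decide (bond P i j = 2) || decide (bond P i j = 3)) &&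
      ckOrd P [i, j] (mm (bond P i j)) &&
      (decide (bond P i j = 0) || decide (P.A i (P.sim j) = -1) || decide (P.A j (P.sim i) = -1)) &&
      (!decide (P.A i (P.sim j) = -1) || (List.range P.rank).all fun i' => (List.range P.rank).all fun j' =>
        Nat.beq i' j' || !decide (bond P i' j' = bond P i j) || edgeOk (P.A i' (P.sim j')) (eB L i i') (eB L j j')))

/-- One step of the search through the diagram. -/
def grow (P : Pk) (S : List Bool) : List Bool :=
  (List.range P.rank).map fun i => S.getD i false ||
    (List.range P.rank).any fun j => !Nat.beq i j && S.getD j false && !decide (bond P i j = 0)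

/-- The set reached from the first node. -/
def reach (P : Pk) : ℕ → List Bool
  | 0 => [true]
  | n + 1 => grow P (reach P n)

/-- The diagram is connected. -/
def ckConn (P : Pk) : Bool := (List.range P.rank).all fun i => (reach P P.rank).getD i false

/-- All checks. -/
def ckAut (P : Pk) : Prop := ∃ L : List Bool, (ckLg P L && ckEdge P L && ckConn P) = true

theorem ckAut_B2 : ckAut B2.pk :=
  ⟨(List.range B2.pk.rank).map fun i => lgB B2.pk (B2.pk.sim i), by decide +kernel⟩
theorem ckAut_G2 : ckAut G2.pk :=
  ⟨(List.range G2.pk.rank).map fun i => lgB G2.pk (G2.pk.sim i), by decide +kernel⟩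
theorem ckAut_D4 : ckAut D4.pk := ⟨[false, false, false, false], by decide +kernel⟩
theorem ckAut_F4 : ckAut F4.pk :=
  ⟨(List.range F4.pk.rank).map fun i => lgB F4.pk (F4.pk.sim i), by decide +kernel⟩
theorem ckAut_E6 : ckAut E6.pk := ⟨[], by decide +kernel⟩
theorem ckAut_E7 : ckAut E7.pk := ⟨[], by decide +kernel⟩
theorem ckAut_E8 : ckAut E8.pk := ⟨[], by decide +kernel⟩

end Cfsg.Agent.Chev.Aut
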