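/-
Diagonal automorphisms given by their values on the nodes.
-/
import Cfsg.Agent.Lib.Chev.Aut.Params
import Cfsg.Agent.Lib.Chev.RootChar

set_option autoImplicit false
set_option linter.unusedSectionVars false

namespace Cfsg.Agent.Chev.Aut

open Cfsg.Agent.Chev Cfsg.Lie

variable {D : ChevalleyDatum} {P : Pk} {F : Type*} [Field F]

/-- The character of the root lattice with given values at the nodes. -/
def rchar (P : Pk) (a : Fin P.rank → Fˣ) (r : ℕ) : Fˣ := ∏ k : Fin P.rank, a k ^ P.rv r k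

theorem rchar_mul (a b : Fin P.rank → Fˣ) (r : ℕ) : rchar P (a * b) r = rchar P a r * rchar P b r := by
  simp [rchar, mul_zpow, Finset.prod_mul_distrib]

theorem rchar_one (r : ℕ) : rchar P (1 : Fin P.rank → Fˣ) r = 1 := by simp [rchar]

theorem rchar_inv (a : Fin P.rank → Fˣ) (r : ℕ) : rchar P a⁻¹ r = (rchar P a r)⁻¹ := by
  simp [rchar, inv_zpow, Finset.prod_inv_distrib]

variable (h : Ok D P)
include h

theorem rchar_sim (a : Fin P.rank → Fˣ) (m : Fin P.rank) : rchar P a (P.sim m) = a m := by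
  rw [rchar, Finset.prod_eq_single m]
  · rw [h.rv_sim m.isLt m.isLt, if_pos rfl, zpow_one]
  · intro k _ hk
    rw [h.rv_sim m.isLt k.isLt, if_neg (fun e => hk (Fin.ext e.symm)), zpow_zero]
  · simp

theorem rchar_ng (a : Fin P.rank → Fˣ) {r : ℕ} (hr : r < P.nroots) : rchar P a (P.ng r) = (rchar P a r)⁻¹ := by
  rw [rchar, rchar, ← Finset.prod_inv_distrib]
  exact Finset.prod_congr rfl fun k _ => by rw [h.rv_ng hr k.isLt, zpow_neg]

theorem rootCharacter_rchar (a : Fin P.rank → Fˣ) : D.IsRootCharacter (rchar P a) := by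
  refine ⟨fun r hr => ?_, fun r s k hr hs e => ?_⟩
  · rw [h.nroots] at hr
    rw [h.neg_eq hr, rchar_ng h a hr]
  · rw [h.nroots] at hr hs
    rw [h.cRoot_eq hr hs, Pk.cRoot] at e
    have hl : 0 < P.len r s := by
      by_contra hne
      rw [List.getElem?_eq_none (by rw [P.entry_length]; omega)] at e
      simp at e
    rw [P.entry_getElem? hl] at e
    simp at e
    subst e
    simp only [rchar, ← Finset.prod_mul_distrib]
    refine Finset.prod_congr rfl fun i _ => ?_
    rw [h.rv_additive hr hs hl i.isLt, ← zpow_add]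
    congr 1
    push_cast
    ring

theorem isChar_rchar (a : Fin P.rank → Fˣ) : IsChar P (fun r => (rchar P a r : F)) :=
  h.isChar_of_rootCharacter (rootCharacter_rchar h a)

/-- The diagonal element. -/
def dR (a : Fin P.rank → Fˣ) : GL D.Idx F := h.dG (isChar_rchar h a)

theorem dR_mul (a b : Fin P.rank → Fˣ) : dR h a * dR h b = dR h (a * b) :=
  h.dG_mul _ _ _ fun s _ => by rw [rchar_mul, Units.val_mul]

theorem dR_one : dR h (1 : Fin P.rank → Fˣ) = 1 := by
  apply Units.ext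
  rw [dR, h.coe_dG, Units.val_one, ← dM_one (D := D)]
  congr 1
  funext s; rw [rchar_one]; rfl

theorem dR_inv (a : Fin P.rank → Fˣ) : (dR h a)⁻¹ = dR h a⁻¹ := by
  rw [inv_eq_iff_mul_eq_one, dR_mul, mul_inv_cancel, dR_one]

theorem dR_conj_xG (a : Fin P.rank → Fˣ) {r : ℕ} (hr : r < P.nroots) (t : F) :
    dR h a * h.xG r t * (dR h a)⁻¹ = h.xG r ((rchar P a r : F) * t) := h.dG_xG _ hr t

theorem dR_group (a : Fin P.rank → Fˣ) {g : GL D.Idx F} (hg : g ∈ D.group F) :
    dR h a * g * (dR h a)⁻¹ ∈ D.group F := by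
  have hle : D.group F ≤ (D.group F).comap (MulAut.conj (dR h a)).toMonoidHom :=
    h.group_le fun r hr t => by
      show dR h a * h.xG r t * (dR h a)⁻¹ ∈ D.group F
      rw [dR_conj_xG h a hr]
      exact h.mem_group_of_xG _ _
  exact hle hg

theorem dR_pos (a : Fin P.rank → Fˣ) {g : GL D.Idx F} (hg : g ∈ D.posUnipotent F) :
    dR h a * g * (dR h a)⁻¹ ∈ D.posUnipotent F := by
  have hle : D.posUnipotent F ≤ (D.posUnipotent F).comap (MulAut.conj (dR h a)).toMonoidHom :=
    h.posUnipotent_le fun r hr t => by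
      show dR h a * h.xG r t * (dR h a)⁻¹ ∈ D.posUnipotent F
      rw [dR_conj_xG h a (P.isPos_iff.1 hr).2]
      exact h.xG_mem_pos hr _
  exact hle hg

theorem dR_neg (a : Fin P.rank → Fˣ) {g : GL D.Idx F} (hg : g ∈ D.negUnipotent F) :
    dR h a * g * (dR h a)⁻¹ ∈ D.negUnipotent F := by
  have hle : D.negUnipotent F ≤ (D.negUnipotent F).comap (MulAut.conj (dR h a)).toMonoidHom :=
    h.negUnipotent_le fun r hr hp t => by
      show dR h a * h.xG r t * (dR h a)⁻¹ ∈ D.negUnipotent F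
      rw [dR_conj_xG h a hr]
      exact h.xG_mem_neg hr hp _
  exact hle hg

/-- The diagonal automorphism with given values at the nodes. -/
def dAut (a : Fin P.rank → Fˣ) : D.group F ≃* D.group F where
  toFun g := ⟨dR h a * (g : GL D.Idx F) * (dR h a)⁻¹, dR_group h a g.2⟩
  invFun g := ⟨dR h a⁻¹ * (g : GL D.Idx F) * (dR h a⁻¹)⁻¹, dR_group h a⁻¹ g.2⟩
  left_inv g := Subtype.ext (by
    show dR h a⁻¹ * (dR h a * (g : GL D.Idx F) * (dR h a)⁻¹) * (dR h a⁻¹)⁻¹ = g
    rw [← dR_inv]; group)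
  right_inv g := Subtype.ext (by
    show dR h a * (dR h a⁻¹ * (g : GL D.Idx F) * (dR h a⁻¹)⁻¹) * (dR h a)⁻¹ = g
    rw [← dR_inv]; group)
  map_mul' x y := Subtype.ext (by
    show dR h a * ((x : GL D.Idx F) * y) * (dR h a)⁻¹ = _
    simp)

theorem coe_dAut (a : Fin P.rank → Fˣ) (g : D.group F) :
    (dAut h a g : GL D.Idx F) = dR h a * (g : GL D.Idx F) * (dR h a)⁻¹ := rfl

theorem dAut_xS (a : Fin P.rank → Fˣ) {r : ℕ} (hr : r < P.nroots) (t : F) :
    dAut h a (xS h r t) = xS h r ((rchar P a r : F) * t) := Subtype.ext (dR_conj_xG h a hr t)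

theorem dAut_inv_apply (a : Fin P.rank → Fˣ) (g : D.group F) : dAut h a (dAut h a⁻¹ g) = g :=
  (dAut h a).apply_symm_apply g

theorem isDiagonalAut_dAut (a : Fin P.rank → Fˣ) : D.IsDiagonalAut (dAut h a) := by
  refine ⟨rchar P a, rootCharacter_rchar h a, fun g => ?_⟩
  rw [coe_dAut, Units.val_mul, Units.val_mul, dR_inv, dR, dR, h.coe_dG, h.coe_dG, ← Ok.charDiag_eq]
  congr 1
  rw [← Ok.charDiag_eq]
  congr 1
  funext r
  exact rchar_inv a r

theorem pres_dAut_pos (a : Fin P.rank → Fˣ) : Pres (dAut h a) (D.posUnipotent F) := by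
  intro g
  refine ⟨fun hg => ?_, fun hg => dR_pos h a hg⟩
  have := dR_pos h a⁻¹ hg
  rw [coe_dAut, ← dR_inv] at this
  group at this
  exact this

theorem pres_dAut_neg (a : Fin P.rank → Fˣ) : Pres (dAut h a) (D.negUnipotent F) := by
  intro g
  refine ⟨fun hg => ?_, fun hg => dR_neg h a hg⟩
  have := dR_neg h a⁻¹ hg
  rw [coe_dAut, ← dR_inv] at this
  group at this
  exact this

end Cfsg.Agent.Chev.Aut
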