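/-
Every automorphism of a Chevalley group over a finite field is inner-diagonal-graph-field.
-/
import Cfsg.Agent.Lib.Chev.Aut.Field
import Cfsg.Agent.Lib.Chev.Aut.Diag
import Cfsg.Agent.Lib.Chev.Aut.AutCheck
import Cfsg.Agent.Lib.Chev.FieldAut

set_option autoImplicit false
set_option linter.unusedSectionVars false

namespace Cfsg.Agent.Chev.Aut

open Cfsg.Agent.Chev Cfsg.Lie

variable {D : ChevalleyDatum} {P : Pk} {F : Type*} [Field F]

theorem pow_eq_ringChar {k : ℕ} (hk : k = 2 ∨ k = 3) (hadd : ∀ z : F, (z + 1) ^ k = z ^ k + 1) (z : F) :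
    z ^ k = z ^ ringChar F := by
  rcases hk with rfl | rfl
  · have h2 : (2 : F) = 0 := by linear_combination hadd 1
    rw [CharP.ringChar_of_prime_eq_zero Nat.prime_two (by exact_mod_cast h2)]
  · have h6 : (2 : F) * 3 = 0 := by linear_combination hadd 1
    rcases mul_eq_zero.1 h6 with h2 | h3
    · rw [CharP.ringChar_of_prime_eq_zero Nat.prime_two (by exact_mod_cast h2)]
      linear_combination z * (hadd z) - (z ^ 3 + 2 * z ^ 2) * h2
    · rw [CharP.ringChar_of_prime_eq_zero Nat.prime_three (by exact_mod_cast h3)]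

theorem mm_inj {a b : ℤ} (ha : a = 0 ∨ a = 1 ∨ a = 2 ∨ a = 3) (hb : b = 0 ∨ b = 1 ∨ b = 2 ∨ b = 3)
    (e : mm a = mm b) : a = b := by
  rcases ha with rfl | rfl | rfl | rfl <;> rcases hb with rfl | rfl | rfl | rfl <;> simp_all [mm]

variable (h : Ok D P)
include h

theorem pairing_eq {r s : ℕ} (hr : r < P.nroots) (hs : s < P.nroots) : D.pairing r s = P.pair r s := by
  rw [ChevalleyDatum.pairing, Pk.pair, h.rank]
  congr 1
  refine List.map_congr_left fun i hi => ?_
  rw [h.coroot_eq hr (List.mem_range.1 hi), h.cartan_eq (List.mem_range.1 hi) hs]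

theorem isLong_eq {r : ℕ} (hr : r < P.nroots) : D.isLong r = lgB P r := by
  rw [Bool.eq_iff_iff, ChevalleyDatum.isLong, lgB, Pk.allRoots, h.nroots]
  simp only [List.any_eq_true, List.mem_range, Bool.and_eq_true, bne_iff_ne, decide_eq_true_eq, nbeq,
    Bool.not_eq_true', decide_eq_false_iff_not]
  constructor <;> rintro ⟨s, hs, ⟨h1, h2⟩, h3⟩
  · rw [h.neg_eq hr] at h2; rw [pairing_eq h hs hr] at h3
    exact ⟨s, hs, ⟨h1, h2⟩, h3⟩
  · exact ⟨s, hs, ⟨h1, by rwa [h.neg_eq hr]⟩, by rwa [pairing_eq h hs hr]⟩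

variable {θ : D.group F ≃* D.group F} {π : Fin P.rank → Fin P.rank} {φ ψ : Fin P.rank → F → F}

/-- The facts encoded by `ckEdge`. -/
theorem edge_spec {L : List Bool} (hE : ckEdge P L = true) (i j : Fin P.rank) (hij : i ≠ j) :
    (bond P i j = 0 ∨ bond P i j = 1 ∨ bond P i j = 2 ∨ bond P i j = 3) ∧
      ckOrd P [i.val, j.val] (mm (bond P i j)) = true ∧
      (bond P i j = 0 ∨ P.A i (P.sim j) = -1 ∨ P.A j (P.sim i) = -1) ∧
      (P.A i (P.sim j) = -1 → ∀ i' j' : Fin P.rank, i' ≠ j' → bond P i' j' = bond P i j →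
        edgeOk (P.A i' (P.sim j')) (eB L i i') (eB L j j') = true) := by
  simp only [ckEdge, List.all_eq_true, List.mem_range, Bool.or_eq_true, Bool.and_eq_true, nbeq,
    decide_eq_true_eq, Bool.not_eq_true', decide_eq_false_iff_not] at hE
  rcases hE i i.isLt j j.isLt with e | ⟨⟨⟨h1, h2⟩, h3⟩, h4⟩
  · exact absurd (Fin.ext e) hij
  · refine ⟨by tauto, h2, by tauto, fun hA i' j' hne hb => ?_⟩
    rcases h4 with e | e
    · exact absurd hA e
    · rcases e i' i'.isLt j' j'.isLt with (e' | e') | e'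
      · exact absurd (Fin.ext e') hne
      · exact absurd hb e'
      · exact e'

variable [Fintype F]

theorem bond_pi (hC : P.ckComm = true) {L : List Bool} (hE : ckEdge P L = true) (hp : Par h θ π φ ψ)
    (h1 : ∀ i, φ i 1 = 1) (i j : Fin P.rank) (hij : i ≠ j) : bond P (π i) (π j) = bond P i j := by
  obtain ⟨b1, o1, -⟩ := edge_spec h hE i j hij
  obtain ⟨b2, o2, -⟩ := edge_spec h hE (π i) (π j) (fun e => hij (hp.bij.1 e))
  refine mm_inj b2 b1 ?_
  have hl : ∀ a b : Fin P.rank, WordOk P [a.val, b.val] := fun a b x hx => by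
    simp at hx; rcases hx with rfl | rfl
    exacts [a.isLt, b.isLt]
  rw [← h.orderOf_wcl (F := F) hC (hl _ _) o2, ← h.orderOf_wcl (F := F) hC (hl _ _) o1,
    orderOf_eq_orderOf_iff]
  intro n
  have key : ∀ a b : Fin P.rank, h.wcl (F := F) hC (hl a b) ^ n = 1 ↔
      ∀ r < P.nroots, wl P (List.replicate n [a.val, b.val]).flatten r = r := fun a b => by
    have hnil : WordOk P [] := fun _ hx => absurd hx List.not_mem_nil
    rw [h.wcl_pow hC (hl a b)]
    exact h.wcl_eq_iff (F := F) hC (h.wordOk_flatten (hl a b) n) hnil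
  rw [key, key]
  exact wl_pow_iff h hC hp h1 i j n

/-- One field automorphism controls all nodes. -/
theorem exists_sigma (hC : P.ckComm = true) {L : List Bool} (hE : ckEdge P L = true) (hN : ckConn P = true)
    (hp : Par h θ π φ ψ) (h1 : ∀ i, φ i 1 = 1) :
    ∃ σ : F ≃+* F, ∀ (i : Fin P.rank) (t : F),
      φ i t = σ t ^ (if eB L i (π i) = true then ringChar F else 1) ∧
      ψ i t = σ t ^ (if eB L i (π i) = true then ringChar F else 1) := by
  classical
  obtain ⟨τ, hφ, hψ, hτ⟩ := exists_ringEquiv h hp h1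
  haveI : Fact (ringChar F).Prime := ⟨CharP.char_is_prime F (ringChar F)⟩
  haveI := ringChar.charP F
  let fr : F ≃+* F := RingEquiv.ofBijective (frobenius F (ringChar F))
    (Finite.injective_iff_bijective.1 (frobenius_inj F (ringChar F)))
  have hfr : ∀ z : F, fr z = z ^ ringChar F := fun z => rfl
  set e : Fin P.rank → ℕ := fun i => if eB L i (π i) = true then ringChar F else 1 with he
  -- along an edge
  have step : ∀ i j : Fin P.rank, i ≠ j → bond P i j ≠ 0 → P.A i (P.sim j) = -1 → ∀ σ : F ≃+* F,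
      ((∀ t, τ i t = σ t ^ e i) ↔ ∀ t, τ j t = σ t ^ e j) := by
    intro i j hij hb hA σ
    have hπ : π i ≠ π j := fun e => hij (hp.bij.1 e)
    have hok := (edge_spec h hE i j hij).2.2.2 hA (π i) (π j) hπ (bond_pi h hC hE hp h1 i j hij)
    have heq : ∀ t : F, t ≠ 0 → τ j t⁻¹ = τ i t ^ P.A (π i) (P.sim (π j)) := by
      intro t ht
      have := hτ i j t ht
      rwa [hA, zpow_neg_one] at this
    simp only [edgeOk, Bool.or_eq_true, Bool.and_eq_true, decide_eq_true_eq, beq_iff_eq, Bool.not_eq_true'] at hok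
    rcases hok with ⟨ha, hee⟩ | ⟨⟨ha, hi0⟩, hj1⟩
    · have hji : ∀ t, τ j t = τ i t := by
        intro t
        by_cases ht : t = 0
        · simp [ht]
        · have := heq t⁻¹ (inv_ne_zero ht)
          rwa [inv_inv, ha, zpow_neg_one, map_inv₀, inv_inv] at this
      have hee' : e i = e j := by simp only [he, hee]
      constructor <;> intro hQ t
      · rw [hji, hQ, hee']
      · rw [← hji, hQ, hee']
    · obtain ⟨k, hk, hka⟩ : ∃ k : ℕ, (k = 2 ∨ k = 3) ∧ P.A (π i) (P.sim (π j)) = -(k : ℤ) := by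
        rcases ha with ha | ha
        exacts [⟨2, Or.inl rfl, ha⟩, ⟨3, Or.inr rfl, ha⟩]
      have hji : ∀ t, τ j t = τ i t ^ k := by
        intro t
        by_cases ht : t = 0
        · have : k ≠ 0 := by omega
          simp [ht, this]
        · have := heq t⁻¹ (inv_ne_zero ht)
          rwa [inv_inv, hka, zpow_neg, zpow_natCast, map_inv₀, inv_pow, inv_inv] at this
      have hadd : ∀ z : F, (z + 1) ^ k = z ^ k + 1 := by
        intro z
        obtain ⟨s, rfl⟩ := (τ i).surjective z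
        rw [← hji, ← map_one (τ i), ← map_add, ← hji, map_add, map_one, map_one]
      have hei : e i = 1 := by simp [he, hi0]
      have hej : e j = ringChar F := by simp [he, hj1]
      constructor <;> intro hQ t
      · rw [hji, hQ, hei, hej, pow_one, pow_eq_ringChar hk hadd]
      · have := hQ t
        rw [hji, hej, pow_eq_ringChar hk hadd, ← hfr, ← hfr] at this
        rw [hei, pow_one]
        exact fr.injective this
  -- the base node
  have hr : 0 < P.rank := by have := h.two_le_rank; omega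
  set i₀ : Fin P.rank := ⟨0, hr⟩
  obtain ⟨σ, hσ⟩ : ∃ σ : F ≃+* F, ∀ t, τ i₀ t = σ t ^ e i₀ := by
    cases hb : eB L i₀ (π i₀)
    · exact ⟨τ i₀, fun t => by simp [he, hb]⟩
    · refine ⟨(τ i₀).trans fr.symm, fun t => ?_⟩
      simp only [he, hb, if_true, RingEquiv.trans_apply]
      rw [← hfr, RingEquiv.apply_symm_apply]
  have hall : ∀ n, ∀ i : Fin P.rank, (reach P n).getD i false = true → ∀ t, τ i t = σ t ^ e i := by
    intro n
    induction n with
    | zero =>
      intro i hi
      have : i = i₀ := by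
        apply Fin.ext
        show i.val = 0
        by_contra hne
        obtain ⟨m, hm⟩ := Nat.exists_eq_succ_of_ne_zero hne
        simp [reach, hm] at hi
      subst this
      exact hσ
    | succ n ih =>
      intro i hi
      rw [reach, grow, List.getD_eq_getElem?_getD, List.getElem?_map, List.getElem?_range i.isLt] at hi
      simp only [Option.map_some, Option.getD_some, Bool.or_eq_true, List.any_eq_true, List.mem_range,
        Bool.and_eq_true, nbeq, Bool.not_eq_true', decide_eq_false_iff_not] at hi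
      rcases hi with hi | ⟨j, hj, ⟨hij, hjr⟩, hb⟩
      · exact ih i hi
      · have hQ := ih ⟨j, hj⟩ hjr
        have hne : i ≠ ⟨j, hj⟩ := fun e => hij (congrArg Fin.val e)
        rcases (edge_spec h hE i ⟨j, hj⟩ hne).2.2.1 with hb' | hA | hA
        · exact absurd hb' hb
        · exact (step i ⟨j, hj⟩ hne hb hA σ).2 hQ
        · exact (step ⟨j, hj⟩ i hne.symm (by rwa [bond, mul_comm]) hA σ).1 hQ
  have hQ : ∀ i : Fin P.rank, ∀ t, τ i t = σ t ^ e i := fun i => by
    refine hall P.rank i ?_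
    simp only [ckConn, List.all_eq_true, List.mem_range] at hN
    exact hN i i.isLt
  exact ⟨σ, fun i t => ⟨by rw [hφ]; exact hQ i t, by rw [hψ]; exact hQ i t⟩⟩

/-- Normalised parameters. -/
theorem exists_unit_par (hC : P.ckComm = true) (θ : D.group F ≃* D.group F) :
    ∃ (x : D.group F) (a : Fin P.rank → Fˣ) (θ₂ : D.group F ≃* D.group F) (π : Fin P.rank → Fin P.rank)
      (φ ψ : Fin P.rank → F → F), Par h θ₂ π φ ψ ∧ (∀ i, φ i 1 = 1) ∧
      ∀ y, θ y = x * dAut h a (θ₂ y) * x⁻¹ := by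
  classical
  haveI := ringChar.charP F
  haveI : Fact (ringChar F).Prime := ⟨CharP.char_is_prime F (ringChar F)⟩
  obtain ⟨z, hU, hV⟩ := exists_normalized h (ringChar F) hC θ
  obtain ⟨π, φ, ψ, hp⟩ := exists_par h hC hU hV
  set e := Equiv.ofBijective π hp.bij
  have hne : ∀ i, φ i 1 ≠ 0 := fun i e =>
    one_ne_zero (phi_injective h hp i (e.trans (phi_zero h hp i).symm))
  let a : Fin P.rank → Fˣ := fun m => Units.mk0 (φ (e.symm m) 1) (hne _)
  refine ⟨z⁻¹, a, (θ.trans (MulAut.conj z)).trans (dAut h a⁻¹), π,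
    fun i t => (rchar P a⁻¹ (P.sim (π i)) : F) * φ i t,
    fun i t => (rchar P a⁻¹ (P.ng (P.sim (π i))) : F) * ψ i t, ⟨?_, ?_, hp.bij, ?_, ?_⟩, ?_, ?_⟩
  · intro g
    exact (pres_dAut_pos h a⁻¹ _).trans (hU g)
  · intro g
    exact (pres_dAut_neg h a⁻¹ _).trans (hV g)
  · intro i t
    rw [MulEquiv.trans_apply, hp.pos, dAut_xS h _ (h.sim_lt (π i).isLt)]
  · intro i t
    rw [MulEquiv.trans_apply, hp.neg, dAut_xS h _ (Ok.ng_lt (h.sim_lt (π i).isLt))]
  · intro i
    show (rchar P a⁻¹ (P.sim (π i)) : F) * φ i 1 = 1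
    rw [rchar_sim h]
    have he : e.symm (π i) = i := e.symm_apply_apply i
    simp only [a, Pi.inv_apply, he, Units.val_inv_eq_inv_val, Units.val_mk0, inv_mul_cancel₀ (hne i)]
  · intro y
    rw [MulEquiv.trans_apply, MulEquiv.trans_apply, dAut_inv_apply, MulAut.conj_apply]
    group

/-- The automorphism given by a field automorphism. -/
theorem exists_fieldAut (σ : F ≃+* F) :
    ∃ f : D.group F ≃* D.group F, D.IsFieldAut f ∧ ∀ r < P.nroots, ∀ t, f (xS h r t) = xS h r (σ t) := by
  classical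
  haveI : Finite (D.group F) := Subtype.finite
  let f₀ : D.group F →* D.group F :=
    ((gmap D σ.toRingHom).comp (D.group F).subtype).codRestrict _
      fun g => h.map_group_le σ.toRingHom ⟨g, g.2, rfl⟩
  have hinj : Function.Injective f₀ := fun a b e => Subtype.ext (gmap_injective _ (congrArg Subtype.val e))
  have hx : ∀ r < P.nroots, ∀ t, f₀ (xS h r t) = xS h r (σ t) := fun r hr t =>
    Subtype.ext (h.gmap_xG σ.toRingHom hr t)
  refine ⟨MulEquiv.ofBijective f₀ (Finite.injective_iff_bijective.1 hinj), ⟨σ, fun g r t hr e => ?_⟩, hx⟩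
  have hg : g = xS h r t := Subtype.ext (h.eq_xG_iff.1 e)
  rw [hg, MulEquiv.ofBijective_apply, hx r (h.nroots ▸ hr), coe_xS, h.coe_xG]

/-- The automorphism theorem. -/
theorem steinberg_aut (hC : P.ckComm = true) (hA : ckAut P) (θ : D.group F ≃* D.group F) :
    ∃ (x : D.group F) (d g f : D.group F ≃* D.group F),
      D.IsDiagonalAut d ∧ D.IsGraphAut g ∧ D.IsFieldAut f ∧ ∀ y, θ y = x * d (g (f y)) * x⁻¹ := by
  obtain ⟨L, hL⟩ := hA
  simp only [Bool.and_eq_true] at hL
  obtain ⟨⟨hLg, hE⟩, hN⟩ := hL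
  obtain ⟨x, a, θ₂, π, φ, ψ, hp, h1, hy⟩ := exists_unit_par h hC θ
  obtain ⟨σ, hσ⟩ := exists_sigma h hC hE hN hp h1
  obtain ⟨f, hf, hfx⟩ := exists_fieldAut h (F := F) σ
  refine ⟨x, dAut h a, f.symm.trans θ₂, f, isDiagonalAut_dAut h a, ?_, hf, fun y => by
    rw [hy y, MulEquiv.trans_apply, f.symm_apply_apply]⟩
  let c : Fin D.rank ≃ Fin P.rank := finCongr h.rank
  refine ⟨(c.trans (Equiv.ofBijective π hp.bij)).trans c.symm, fun i j hij => ?_, fun g i t => ?_⟩
  · have hb : ∀ u v : Fin D.rank, D.bonds u v = bond P (c u) (c v) := fun u v => by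
      show D.cartan (c u : ℕ) (D.simple (c v : ℕ)) * D.cartan (c v : ℕ) (D.simple (c u : ℕ)) = _
      rw [bond, h.simple_eq (c u).isLt, h.simple_eq (c v).isLt,
        h.cartan_eq (c u).isLt (h.sim_lt (c v).isLt), h.cartan_eq (c v).isLt (h.sim_lt (c u).isLt)]
    rw [hb, hb]
    simp only [Equiv.trans_apply, Equiv.apply_symm_apply, Equiv.ofBijective_apply]
    exact bond_pi h hC hE hp h1 (c i) (c j) (fun e => hij (c.injective e))
  · set k := c i
    have hv : ((((c.trans (Equiv.ofBijective π hp.bij)).trans c.symm) i : Fin D.rank) : ℕ) = (π k : ℕ) := rfl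
    have hik : (i : ℕ) = (k : ℕ) := rfl
    have hl : ∀ m : Fin P.rank, D.isLong (D.simple m) = L.getD m false := fun m => by
      simp only [ckLg, List.all_eq_true, List.mem_range, beq_iff_eq] at hLg
      rw [h.simple_eq m.isLt, isLong_eq h (h.sim_lt m.isLt), hLg m m.isLt]
    have hexp : D.graphExp (ringChar F) k (π k) = if eB L k (π k) = true then ringChar F else 1 := by
      rw [ChevalleyDatum.graphExp, hl, hl]; rfl
    have hs : ∀ t, σ (σ.symm t) = t := σ.apply_symm_apply
    have hfs : ∀ r < P.nroots, ∀ t, f.symm (xS h r t) = xS h r (σ.symm t) := fun r hr t => by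
      rw [MulEquiv.symm_apply_eq, hfx r hr, hs]
    rw [hv, hik, h.simple_eq k.isLt, h.simple_eq (π k).isLt, hexp,
      h.neg_eq (h.sim_lt k.isLt), h.neg_eq (h.sim_lt (π k).isLt)]
    refine ⟨fun e => ?_, fun e => ?_⟩
    · rw [show g = xS h (P.sim k) t from Subtype.ext (h.eq_xG_iff.1 e), MulEquiv.trans_apply,
        hfs _ (h.sim_lt k.isLt), hp.pos, coe_xS, h.coe_xG, (hσ k _).1, hs]
    · rw [show g = xS h (P.ng (P.sim k)) t from Subtype.ext (h.eq_xG_iff.1 e), MulEquiv.trans_apply,
        hfs _ (Ok.ng_lt (h.sim_lt k.isLt)), hp.neg, coe_xS, h.coe_xG, (hσ k _).2, hs]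

end Cfsg.Agent.Chev.Aut
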