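/-
The diagonal, field and graph automorphisms and the relations between them.
-/
import Cfsg.Agent.Lib.Chev.Aut.Main
import Cfsg.Agent.Lib.Chev.Aut.GraphAct

set_option autoImplicit false
set_option linter.unusedSectionVars false

namespace Cfsg.Agent.Chev.Aut

open Cfsg.Agent.Chev Cfsg.Lie

variable {D : ChevalleyDatum} {P : Pk} {F : Type*} [Field F]
variable (h : Ok D P)
include h

theorem aut_ext {f g : MulAut ↥(D.group F)}
    (hpos : ∀ (i : Fin P.rank) (t : F), f (xS h (P.sim i) t) = g (xS h (P.sim i) t))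
    (hneg : ∀ (i : Fin P.rank) (t : F), f (xS h (P.ng (P.sim i)) t) = g (xS h (P.ng (P.sim i)) t)) : f = g :=
  MulEquiv.toMonoidHom_injective (hom_ext_simple h (f := f.toMonoidHom) (g := g.toMonoidHom) hpos hneg)

/-- Diagonal automorphisms as a homomorphism. -/
def dHom : (Fin P.rank → Fˣ) →* MulAut ↥(D.group F) where
  toFun a := dAut h a
  map_one' := MulEquiv.ext fun g => Subtype.ext (by
    rw [coe_dAut, dR_one]; simp)
  map_mul' a b := MulEquiv.ext fun g => Subtype.ext (by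
    show dR h (a * b) * (g : GL D.Idx F) * (dR h (a * b))⁻¹ = _
    rw [← dR_mul]
    show _ = dR h a * (dR h b * (g : GL D.Idx F) * (dR h b)⁻¹) * (dR h a)⁻¹
    group)

theorem dHom_apply (a : Fin P.rank → Fˣ) : dHom h a = dAut h a := rfl

theorem dHom_pos (a : Fin P.rank → Fˣ) (i : Fin P.rank) (t : F) :
    dHom h a (xS h (P.sim i) t) = xS h (P.sim i) ((a i : F) * t) := by
  rw [dHom_apply, dAut_xS h a (h.sim_lt i.isLt), rchar_sim h]

theorem dHom_neg (a : Fin P.rank → Fˣ) (i : Fin P.rank) (t : F) :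
    dHom h a (xS h (P.ng (P.sim i)) t) = xS h (P.ng (P.sim i)) ((a i : F)⁻¹ * t) := by
  rw [dHom_apply, dAut_xS h a (Ok.ng_lt (h.sim_lt i.isLt)), rchar_ng h a (h.sim_lt i.isLt), rchar_sim h,
    Units.val_inv_eq_inv_val]

theorem exists_of_isDiagonal {d : MulAut ↥(D.group F)} (hd : D.IsDiagonalAut d) : ∃ a, d = dHom h a := by
  obtain ⟨χ, hχ, hd⟩ := hd
  have hc := h.isChar_of_rootCharacter hχ
  have hx : ∀ r < P.nroots, ∀ t : F, d (xS h r t) = xS h r ((χ r : F) * t) := by
    intro r hr t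
    refine Subtype.ext ?_
    rw [coe_xS, ← h.dG_xG hc hr t]
    refine Units.ext ?_
    rw [hd (xS h r t), Units.val_mul, Units.val_mul, coe_xS, h.coe_dG_inv hc, h.coe_dG hc,
      ← Ok.charDiag_eq]
    congr 1
    rw [Ok.charDiag_eq]
    congr 1
    funext s
    exact Units.val_inv_eq_inv_val _
  refine ⟨fun i => χ (P.sim i), aut_ext h (fun i t => ?_) fun i t => ?_⟩
  · rw [hx _ (h.sim_lt i.isLt), dHom_pos]
  · rw [hx _ (Ok.ng_lt (h.sim_lt i.isLt)), dHom_neg]
    have := hc.neg (P.sim i) (h.sim_lt i.isLt)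
    rw [this]

/-- Field automorphisms as a homomorphism. -/
def fHom : (F ≃+* F) →* MulAut ↥(D.group F) where
  toFun σ :=
    { toFun := fun g => ⟨gmap D σ.toRingHom g, h.map_group_le σ.toRingHom ⟨g, g.2, rfl⟩⟩
      invFun := fun g => ⟨gmap D σ.symm.toRingHom g, h.map_group_le σ.symm.toRingHom ⟨g, g.2, rfl⟩⟩
      left_inv := fun g => Subtype.ext (Units.ext (by
        show ((g : GL D.Idx F).val.map σ).map σ.symm = _
        ext i j; simp))
      right_inv := fun g => Subtype.ext (Units.ext (by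
        show ((g : GL D.Idx F).val.map σ.symm).map σ = _
        ext i j; simp))
      map_mul' := fun x y => Subtype.ext (map_mul _ _ _) }
  map_one' := MulEquiv.ext fun g => Subtype.ext (Units.ext (by
    show (g : GL D.Idx F).val.map (fun t => t) = _
    ext i j; simp))
  map_mul' σ τ := MulEquiv.ext fun g => Subtype.ext (Units.ext (by
    show (g : GL D.Idx F).val.map (fun t => σ (τ t)) = ((g : GL D.Idx F).val.map τ).map σ
    ext i j; simp))

theorem fHom_xS (σ : F ≃+* F) {r : ℕ} (hr : r < P.nroots) (t : F) :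
    fHom h σ (xS h r t) = xS h r (σ t) :=
  Subtype.ext (h.gmap_xG σ.toRingHom hr t)

theorem isFieldAut_fHom (σ : F ≃+* F) : D.IsFieldAut (fHom h σ) := by
  refine ⟨σ, fun g r t hr e => ?_⟩
  rw [show g = xS h r t from Subtype.ext (h.eq_xG_iff.1 e), fHom_xS h σ (h.nroots ▸ hr), coe_xS, h.coe_xG]

theorem exists_of_isField {f : MulAut ↥(D.group F)} (hf : D.IsFieldAut f) : ∃ σ, f = fHom h σ := by
  obtain ⟨σ, hσ⟩ := hf
  have hx : ∀ r < P.nroots, ∀ t, f (xS h r t) = xS h r (σ t) := fun r hr t =>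
    Subtype.ext (h.eq_xG_iff.1 (hσ _ r t (h.nroots ▸ hr) (h.coe_xG r t)))
  exact ⟨σ, aut_ext h (fun i t => by rw [hx _ (h.sim_lt i.isLt), fHom_xS h σ (h.sim_lt i.isLt)])
    fun i t => by rw [hx _ (Ok.ng_lt (h.sim_lt i.isLt)), fHom_xS h σ (Ok.ng_lt (h.sim_lt i.isLt))]⟩

omit h in
/-- A symmetry of the diagram of the packed data. -/
def Sym (P : Pk) (p : Equiv.Perm (Fin P.rank)) : Prop :=
  ∀ i j : Fin P.rank, i ≠ j → bond P (p i) (p j) = bond P i j

omit h in
/-- The exponent of a graph automorphism at a node. -/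
noncomputable def gE (D : ChevalleyDatum) (F : Type*) [Field F] (i j : ℕ) : ℕ := D.graphExp (ringChar F) i j

/-- `g` acts on fundamental root elements through the node permutation `p`. -/
def GPar (g : MulAut ↥(D.group F)) (p : Equiv.Perm (Fin P.rank)) : Prop :=
  ∀ (i : Fin P.rank) (t : F),
    g (xS h (P.sim i) t) = xS h (P.sim (p i)) (t ^ gE D F i (p i)) ∧
      g (xS h (P.ng (P.sim i)) t) = xS h (P.ng (P.sim (p i))) (t ^ gE D F i (p i))

theorem bonds_bond (u v : Fin P.rank) : D.bonds u v = bond P u v := by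
  rw [ChevalleyDatum.bonds, bond, h.simple_eq u.isLt, h.simple_eq v.isLt,
    h.cartan_eq u.isLt (h.sim_lt v.isLt), h.cartan_eq v.isLt (h.sim_lt u.isLt)]

theorem isGraphAut_iff (g : MulAut ↥(D.group F)) : D.IsGraphAut g ↔ ∃ p, Sym P p ∧ GPar h g p := by
  let c : Fin D.rank ≃ Fin P.rank := finCongr h.rank
  have hs : ∀ u : Fin D.rank, D.simple u = P.sim (c u) := fun u => h.simple_eq (c u).isLt
  have hn : ∀ u : Fin D.rank, D.neg (D.simple u) = P.ng (P.sim (c u)) := fun u => by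
    rw [hs, h.neg_eq (h.sim_lt (c u).isLt)]
  constructor
  · rintro ⟨π, hπ, hg⟩
    refine ⟨(c.symm.trans π).trans c, fun i j hij => ?_, fun i t => ⟨?_, ?_⟩⟩
    · rw [← bonds_bond h, ← bonds_bond h]
      exact hπ (c.symm i) (c.symm j) (fun e => hij (c.symm.injective e))
    · have e := (hg (xS h (P.sim i) t) (c.symm i) t).1
        (by rw [hs, c.apply_symm_apply]; exact h.coe_xG _ t)
      rw [hs] at e
      exact Subtype.ext (h.eq_xG_iff.1 e)
    · have e := (hg (xS h (P.ng (P.sim i)) t) (c.symm i) t).2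
        (by rw [hn, c.apply_symm_apply]; exact h.coe_xG _ t)
      rw [hn] at e
      exact Subtype.ext (h.eq_xG_iff.1 e)
  · rintro ⟨p, hp, hg⟩
    refine ⟨(c.trans p).trans c.symm, fun i j hij => ?_, fun x i t => ⟨fun e => ?_, fun e => ?_⟩⟩
    · have h1 := hp (c i) (c j) (fun e => hij (c.injective e))
      rw [← bonds_bond h, ← bonds_bond h] at h1
      exact h1
    · rw [hs] at e ⊢
      rw [show x = xS h (P.sim (c i)) t from Subtype.ext (h.eq_xG_iff.1 e), (hg (c i) t).1,
        Equiv.trans_apply, Equiv.trans_apply, c.apply_symm_apply, coe_xS, h.coe_xG]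
      rfl
    · rw [hn] at e ⊢
      rw [show x = xS h (P.ng (P.sim (c i))) t from Subtype.ext (h.eq_xG_iff.1 e), (hg (c i) t).2,
        Equiv.trans_apply, Equiv.trans_apply, c.apply_symm_apply, coe_xS, h.coe_xG]
      rfl

theorem gPar_ext {g g' : MulAut ↥(D.group F)} {p : Equiv.Perm (Fin P.rank)} (hg : GPar h g p)
    (hg' : GPar h g' p) : g = g' :=
  aut_ext h (fun i t => by rw [(hg i t).1, (hg' i t).1]) fun i t => by rw [(hg i t).2, (hg' i t).2]

omit h in
theorem gE_self (D : ChevalleyDatum) (i : ℕ) : gE D F i i = 1 := by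
  simp [gE, ChevalleyDatum.graphExp]

theorem gPar_one : GPar h (1 : MulAut ↥(D.group F)) 1 := fun i t => by
  simp [gE_self]

theorem sym_one : Sym P (1 : Equiv.Perm (Fin P.rank)) := fun _ _ _ => rfl

/-- Without long roots graph automorphisms compose. -/
theorem gPar_mul (hlong : ∀ i < P.rank, D.isLong (D.simple i) = false) {g g' : MulAut ↥(D.group F)}
    {p p' : Equiv.Perm (Fin P.rank)} (hg : GPar h g p) (hg' : GPar h g' p') : GPar h (g * g') (p * p') := by
  have he : ∀ i j : Fin P.rank, gE D F i j = 1 := fun i j => by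
    simp [gE, ChevalleyDatum.graphExp, hlong j j.isLt]
  intro i t
  simp only [GPar, he, pow_one] at hg hg' ⊢
  exact ⟨by rw [MulAut.mul_apply, (hg' i t).1, (hg _ t).1]; rfl,
    by rw [MulAut.mul_apply, (hg' i t).2, (hg _ t).2]; rfl⟩

theorem fHom_dHom (σ : F ≃+* F) (a : Fin P.rank → Fˣ) :
    fHom h σ * dHom h a = dHom h (fun i => Units.map σ.toRingHom.toMonoidHom (a i)) * fHom h σ := by
  refine aut_ext h (fun i t => ?_) fun i t => ?_ <;> rw [MulAut.mul_apply, MulAut.mul_apply]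
  · rw [dHom_pos, fHom_xS h σ (h.sim_lt i.isLt), fHom_xS h σ (h.sim_lt i.isLt), dHom_pos, map_mul]
    rfl
  · rw [dHom_neg, fHom_xS h σ (Ok.ng_lt (h.sim_lt i.isLt)), fHom_xS h σ (Ok.ng_lt (h.sim_lt i.isLt)),
      dHom_neg, map_mul, map_inv₀]
    rfl

theorem gPar_dHom {g : MulAut ↥(D.group F)} {p : Equiv.Perm (Fin P.rank)} (hg : GPar h g p)
    (a : Fin P.rank → Fˣ) :
    g * dHom h a = dHom h (fun m => a (p.symm m) ^ gE D F (p.symm m) m) * g := by
  refine aut_ext h (fun i t => ?_) fun i t => ?_ <;> rw [MulAut.mul_apply, MulAut.mul_apply]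
  · rw [dHom_pos, (hg i _).1, (hg i t).1, dHom_pos, mul_pow]
    simp
  · rw [dHom_neg, (hg i _).2, (hg i t).2, dHom_neg, mul_pow]
    simp

theorem gPar_fHom {g : MulAut ↥(D.group F)} {p : Equiv.Perm (Fin P.rank)} (hs : Sym P p) (hg : GPar h g p)
    (σ : F ≃+* F) : g * fHom h σ = fHom h σ * g := by
  refine MulEquiv.ext fun y => ?_
  exact (field_graph_commute h (fHom h σ) g (isFieldAut_fHom h σ) ((isGraphAut_iff h g).2 ⟨p, hs, hg⟩) y).symm

/-- The decomposition in terms of the parameters. -/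
theorem exists_decomp [Fintype F] (hC : P.ckComm = true) (hA : ckAut P) (θ : MulAut ↥(D.group F)) :
    ∃ (x : D.group F) (a : Fin P.rank → Fˣ) (g : MulAut ↥(D.group F)) (σ : F ≃+* F),
      D.IsGraphAut g ∧ θ = MulAut.conj x * (dHom h a * g * fHom h σ) := by
  obtain ⟨x, d, g, f, hd, hg, hf, e⟩ := steinberg_aut h hC hA θ
  obtain ⟨a, rfl⟩ := exists_of_isDiagonal h hd
  obtain ⟨σ, rfl⟩ := exists_of_isField h hf
  exact ⟨x, a, g, σ, hg, MulEquiv.ext fun y => e y⟩

end Cfsg.Agent.Chev.Aut
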