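/-
Enumeration of the symmetries of the diagrams.
-/
import Cfsg.Agent.Lib.Chev.Aut.Kinds

set_option autoImplicit false
set_option Elab.async false

namespace Cfsg.Agent.Chev.Aut

open Cfsg.Agent.Chev

/-- Partial symmetries on the first nodes, as lists of images. -/
def extS (P : Pk) : ℕ → List (List ℕ)
  | 0 => [[]]
  | n + 1 => (extS P n).flatMap fun l =>
      ((List.range P.rank).filter fun v => !(l.any (Nat.beq v)) &&
        (List.range n).all fun k => decide (bond P (l.getD k 0) v = bond P k n)).map fun v => l ++ [v]

/-- All symmetries as lists of images. -/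
def symsP (P : Pk) : List (List ℕ) := extS P P.rank

/-- The image of a node under a permutation, as a number. -/
def pv {P : Pk} (p : Equiv.Perm (Fin P.rank)) (k : ℕ) : ℕ := if hk : k < P.rank then p ⟨k, hk⟩ else 0

/-- The list of images of a permutation. -/
def permList {P : Pk} (p : Equiv.Perm (Fin P.rank)) : List ℕ := (List.range P.rank).map (pv p)

theorem permList_injective {P : Pk} : Function.Injective (permList (P := P)) := by
  intro p q e
  refine Equiv.ext fun i => Fin.ext ?_
  have := congrArg (fun l => l.getD i.val 0) e
  simpa [permList, pv, List.getD_eq_getElem?_getD, List.getElem?_map, List.getElem?_range i.isLt] using this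

theorem permList_mem {P : Pk} {p : Equiv.Perm (Fin P.rank)} (hp : Sym P p) : permList p ∈ symsP P := by
  have key : ∀ n ≤ P.rank, (List.range n).map (pv p) ∈ extS P n := by
    intro n
    induction n with
    | zero => intro _; simp [extS]
    | succ n ih =>
      intro hn
      have hn' : n < P.rank := hn
      rw [extS, List.mem_flatMap]
      refine ⟨_, ih (by omega), List.mem_map.2 ⟨pv p n, List.mem_filter.2 ⟨?_, ?_⟩, ?_⟩⟩
      · simp [pv, hn']
      · simp only [Bool.and_eq_true, Bool.not_eq_true', List.all_eq_true, List.mem_range, decide_eq_true_eq,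
          List.any_eq_false, List.mem_map, nbeq, decide_eq_false_iff_not]
        refine ⟨?_, fun k hk => ?_⟩
        · rintro _ ⟨k, hk, rfl⟩ e
          have hk' : k < P.rank := by omega
          simp only [pv, hn', hk', dif_pos] at e
          have := congrArg Fin.val (p.injective (Fin.ext e))
          simp at this
          omega
        · have hk' : k < P.rank := by omega
          rw [List.getD_eq_getElem?_getD, List.getElem?_map, List.getElem?_range hk]
          simp only [Option.map_some, Option.getD_some, pv, hn', hk', dif_pos]
          exact hp ⟨k, hk'⟩ ⟨n, hn'⟩ (fun e => by simp at e; omega)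
      · rw [List.range_succ, List.map_append, List.map_singleton]
  exact key P.rank le_rfl

theorem syms_B2 : symsP B2.pk = [[0, 1], [1, 0]] := by decide +kernel
theorem syms_G2 : symsP G2.pk = [[0, 1], [1, 0]] := by decide +kernel
theorem syms_D4 : symsP D4.pk = [[0, 1, 2, 3], [0, 1, 3, 2], [2, 1, 0, 3], [2, 1, 3, 0], [3, 1, 0, 2], [3, 1, 2, 0]] := by
  decide +kernel
theorem syms_F4 : symsP F4.pk = [[0, 1, 2, 3], [3, 2, 1, 0]] := by decide +kernel
theorem syms_E6 : symsP E6.pk = [[0, 1, 2, 3, 4, 5], [5, 1, 4, 3, 2, 0]] := by decide +kernel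
theorem syms_E7 : symsP E7.pk = [[0, 1, 2, 3, 4, 5, 6]] := by decide +kernel
theorem syms_E8 : symsP E8.pk = [[0, 1, 2, 3, 4, 5, 6, 7]] := by decide +kernel

end Cfsg.Agent.Chev.Aut
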