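/-
The tabulated graph automorphisms as automorphisms with parameters.
-/
import Cfsg.Agent.Lib.Chev.Aut.Syms
import Cfsg.Agent.Lib.Chev.Graph

set_option autoImplicit false
set_option linter.unusedSectionVars false
set_option Elab.async false

namespace Cfsg.Agent.Chev.Aut

open Cfsg.Agent.Chev Cfsg.Lie

variable {D : ChevalleyDatum} {P : Pk} {F : Type*} [Field F]
variable (h : Ok D P)
include h

theorem long_false (hL : ckLg P [] = true) : ∀ i < P.rank, D.isLong (D.simple i) = false := by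
  intro i hi
  simp only [ckLg, List.all_eq_true, List.mem_range, beq_iff_eq] at hL
  rw [h.simple_eq hi, isLong_eq h (h.sim_lt hi), hL i hi]
  simp

variable {g : Gph} (hg : g.ckG P = true)
include hg

/-- The node permutation of a tabulated symmetry. -/
def gperm : Equiv.Perm (Fin P.rank) where
  toFun i := ⟨g.pp i, (h.gnode hg i.isLt).1⟩
  invFun i := ⟨g.pn i, (h.gnode hg i.isLt).2.1⟩
  left_inv i := Fin.ext (h.gnode hg i.isLt).2.2.1
  right_inv i := Fin.ext (h.gnode hg i.isLt).2.2.2.1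

theorem gperm_apply (i : Fin P.rank) : (gperm h hg i : ℕ) = g.pp i := rfl

theorem gPar_gAut (hlong : ∀ i < P.rank, D.isLong (D.simple i) = false) :
    GPar h (h.gAut (F := F) hg) (gperm h hg) := by
  intro i t
  have he : gE D F i (gperm h hg i) = 1 := by
    simp [gE, ChevalleyDatum.graphExp, hlong (gperm h hg i) (gperm h hg i).isLt]
  obtain ⟨hlt, -, -, -, h2, h3, h4⟩ := h.gnode hg i.isLt
  rw [he, pow_one]
  refine ⟨Subtype.ext ?_, Subtype.ext ?_⟩ <;> rw [h.coe_gAut, coe_xS, coe_xS]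
  · rw [h.gT_xG hg (h.sim_lt i.isLt), h2, h3, Int.cast_one, one_mul, gperm_apply]
  · rw [h.gT_xG hg (Ok.ng_lt (h.sim_lt i.isLt)), (h.groot hg (h.sim_lt i.isLt)).2.2.2.2.1, h2, h4, Int.cast_one,
      one_mul, gperm_apply]

theorem sym_gperm : Sym P (gperm h hg) := by
  intro i j _
  have key : ∀ a b : Fin P.rank, P.A (g.pp a) (P.sim (g.pp b)) = P.A a (P.sim b) := fun a b => by
    rw [← (h.gnode hg b.isLt).2.2.2.2.1]
    exact ((h.groot hg (h.sim_lt b.isLt)).2.2.2.2.2.2 a a.isLt).1
  rw [bond, bond, gperm_apply, gperm_apply, key, key]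

end Cfsg.Agent.Chev.Aut
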