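/-
The structure of the outer automorphism group.
-/
import Cfsg.Agent.Lib.Chev.Aut.Syms
import Cfsg.Agent.Lib.AutPSL.Counts
import Cfsg.Prelude.Def_KGroupFacts

set_option autoImplicit false
set_option linter.unusedSectionVars false

namespace Cfsg.Agent.Chev.Aut

open Cfsg.Agent.Chev Cfsg.Lie
open scoped commutatorElement

variable {D : ChevalleyDatum} {P : Pk} {F : Type*} [Field F]
variable (h : Ok D P)
include h

/-- Diagonal automorphisms modulo inner ones. -/
noncomputable def dOut : (Fin P.rank → Fˣ) →* Cfsg.Out ↥(D.group F) :=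
  (QuotientGroup.mk' (Cfsg.Inn ↥(D.group F))).comp (dHom h)

/-- Field automorphisms modulo inner ones. -/
noncomputable def fOut : (F ≃+* F) →* Cfsg.Out ↥(D.group F) :=
  (QuotientGroup.mk' (Cfsg.Inn ↥(D.group F))).comp (fHom h)

theorem dbar_eq : (Subgroup.closure {φ : MulAut ↥(D.group F) | D.IsDiagonalAut φ}).map
    (QuotientGroup.mk' (Cfsg.Inn ↥(D.group F))) = (dOut h).range := by
  have e : Subgroup.closure {φ : MulAut ↥(D.group F) | D.IsDiagonalAut φ} = (dHom h).range := by
    refine le_antisymm ((Subgroup.closure_le _).2 fun φ hφ => ?_) ?_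
    · obtain ⟨a, rfl⟩ := exists_of_isDiagonal h hφ
      exact ⟨a, rfl⟩
    · rintro _ ⟨a, rfl⟩
      exact Subgroup.subset_closure (isDiagonalAut_dAut h a)
  rw [e, MonoidHom.map_range]
  rfl

theorem fbar_eq : (Subgroup.closure {φ : MulAut ↥(D.group F) | D.IsFieldAut φ}).map
    (QuotientGroup.mk' (Cfsg.Inn ↥(D.group F))) = (fOut h).range := by
  have e : Subgroup.closure {φ : MulAut ↥(D.group F) | D.IsFieldAut φ} = (fHom h).range := by
    refine le_antisymm ((Subgroup.closure_le _).2 fun φ hφ => ?_) ?_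
    · obtain ⟨a, rfl⟩ := exists_of_isField h hφ
      exact ⟨a, rfl⟩
    · rintro _ ⟨a, rfl⟩
      exact Subgroup.subset_closure (isFieldAut_fHom h a)
  rw [e, MonoidHom.map_range]
  rfl

theorem mk_conj (x : D.group F) :
    (QuotientGroup.mk' (Cfsg.Inn ↥(D.group F))) (MulAut.conj x) = 1 :=
  (QuotientGroup.eq_one_iff _).2 ⟨x, rfl⟩

variable [Fintype F]

theorem out_decomp (hC : P.ckComm = true) (hA : ckAut P) (o : Cfsg.Out ↥(D.group F)) :
    ∃ (a : Fin P.rank → Fˣ) (g : MulAut ↥(D.group F)) (p : Equiv.Perm (Fin P.rank)) (σ : F ≃+* F),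
      Sym P p ∧ GPar h g p ∧ o = dOut h a * QuotientGroup.mk' (Cfsg.Inn ↥(D.group F)) g * fOut h σ := by
  obtain ⟨θ, rfl⟩ := QuotientGroup.mk'_surjective (Cfsg.Inn ↥(D.group F)) o
  obtain ⟨x, a, g, σ, hg, rfl⟩ := exists_decomp h hC hA θ
  obtain ⟨p, hp, hgp⟩ := (isGraphAut_iff h g).1 hg
  refine ⟨a, g, p, σ, hp, hgp, ?_⟩
  rw [map_mul, mk_conj h, one_mul, map_mul, map_mul]
  rfl

theorem dOut_normal (hC : P.ckComm = true) (hA : ckAut P) : (dOut (F := F) h).range.Normal := by
  refine ⟨fun n hn o => ?_⟩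
  obtain ⟨b, rfl⟩ := hn
  obtain ⟨a, g, p, σ, -, hg, rfl⟩ := out_decomp h hC hA o
  set b₁ : Fin P.rank → Fˣ := fun i => Units.map σ.toRingHom.toMonoidHom (b i)
  set b₂ : Fin P.rank → Fˣ := fun m => b₁ (p.symm m) ^ gE D F (p.symm m) m
  set q := QuotientGroup.mk' (Cfsg.Inn ↥(D.group F))
  have e1 : fOut h σ * dOut h b = dOut h b₁ * fOut h σ := by
    have := congrArg q (fHom_dHom h σ b)
    rwa [map_mul, map_mul] at this
  have e2 : q g * dOut h b₁ = dOut h b₂ * q g := by
    have := congrArg q (gPar_dHom h hg b₁)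
    rwa [map_mul, map_mul] at this
  refine ⟨a * b₂ * a⁻¹, ?_⟩
  rw [map_mul, map_mul, map_inv, mul_inv_rev, mul_inv_rev]
  calc dOut h a * dOut h b₂ * (dOut h a)⁻¹
      = dOut h a * (dOut h b₂ * q g) * (q g)⁻¹ * (dOut h a)⁻¹ := by group
    _ = dOut h a * q g * (dOut h b₁ * fOut h σ) * (fOut h σ)⁻¹ * (q g)⁻¹ * (dOut h a)⁻¹ := by
        rw [← e2]; group
    _ = _ := by rw [← e1]; group

theorem sup_normal (hC : P.ckComm = true) (hA : ckAut P) :
    ((dOut (F := F) h).range ⊔ (fOut (F := F) h).range).Normal := by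
  haveI := dOut_normal (F := F) h hC hA
  haveI := ringChar.charP F
  haveI : Fact (ringChar F).Prime := ⟨CharP.char_is_prime F (ringChar F)⟩
  haveI : IsCyclic (F ≃+* F) := AutPSL.isCyclic_ringAut (ringChar F)
  set M := (dOut (F := F) h).range ⊔ (fOut (F := F) h).range
  set q := QuotientGroup.mk' (Cfsg.Inn ↥(D.group F))
  have hfix : ∀ (o : Cfsg.Out ↥(D.group F)) (τ : F ≃+* F), o * fOut h τ * o⁻¹ ∈ M := by
    intro o τ
    obtain ⟨a, g, p, σ, hp, hg, rfl⟩ := out_decomp h hC hA o
    have e1 : fOut h σ * fOut h τ = fOut h τ * fOut h σ := by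
      letI : CommGroup (F ≃+* F) := IsCyclic.commGroup
      rw [← map_mul, ← map_mul, mul_comm]
    have e2 : q g * fOut h τ = fOut h τ * q g := by
      have := congrArg q (gPar_fHom h hp hg τ)
      rwa [map_mul, map_mul] at this
    have e3 : dOut h a * q g * fOut h σ * fOut h τ * (dOut h a * q g * fOut h σ)⁻¹ =
        dOut h a * fOut h τ * (dOut h a)⁻¹ := by
      calc dOut h a * q g * fOut h σ * fOut h τ * (dOut h a * q g * fOut h σ)⁻¹
          = dOut h a * q g * (fOut h σ * fOut h τ) * (fOut h σ)⁻¹ * (q g)⁻¹ * (dOut h a)⁻¹ := by group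
        _ = dOut h a * (q g * fOut h τ) * (q g)⁻¹ * (dOut h a)⁻¹ := by rw [e1]; group
        _ = _ := by rw [e2]; group
    rw [e3]
    have hd : dOut h a ∈ M := Subgroup.mem_sup_left ⟨a, rfl⟩
    exact mul_mem (mul_mem hd (Subgroup.mem_sup_right ⟨τ, rfl⟩)) (inv_mem hd)
  refine ⟨fun n hn o => ?_⟩
  have hle : M ≤ M.comap (MulAut.conj o).toMonoidHom := by
    refine sup_le ?_ ?_
    · rintro _ ⟨b, rfl⟩
      exact Subgroup.mem_sup_left ((dOut_normal h hC hA).conj_mem _ (MonoidHom.mem_range.2 ⟨b, rfl⟩) o)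
    · rintro _ ⟨τ, rfl⟩
      exact hfix o τ
  exact hle hn

theorem quot_surj (hC : P.ckComm = true) (hA : ckAut P)
    [((dOut (F := F) h).range ⊔ (fOut (F := F) h).range).Normal]
    (x : Cfsg.Out ↥(D.group F) ⧸ ((dOut (F := F) h).range ⊔ (fOut (F := F) h).range)) :
    ∃ (g : MulAut ↥(D.group F)) (p : Equiv.Perm (Fin P.rank)), Sym P p ∧ GPar h g p ∧
      x = QuotientGroup.mk (QuotientGroup.mk' (Cfsg.Inn ↥(D.group F)) g) := by
  obtain ⟨o, rfl⟩ := QuotientGroup.mk_surjective x
  obtain ⟨a, g, p, σ, hp, hg, rfl⟩ := out_decomp h hC hA o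
  refine ⟨g, p, hp, hg, ?_⟩
  have e1 : (QuotientGroup.mk (dOut h a) :
      Cfsg.Out ↥(D.group F) ⧸ ((dOut (F := F) h).range ⊔ (fOut (F := F) h).range)) = 1 :=
    (QuotientGroup.eq_one_iff _).2 (Subgroup.mem_sup_left ⟨a, rfl⟩)
  have e2 : (QuotientGroup.mk (fOut h σ) :
      Cfsg.Out ↥(D.group F) ⧸ ((dOut (F := F) h).range ⊔ (fOut (F := F) h).range)) = 1 :=
    (QuotientGroup.eq_one_iff _).2 (Subgroup.mem_sup_right ⟨σ, rfl⟩)
  rw [QuotientGroup.mk_mul, QuotientGroup.mk_mul, e1, e2, one_mul, mul_one]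

/-- At most two symmetries. -/
theorem index_le_two (hC : P.ckComm = true) (hA : ckAut P) {l₁ l₂ : List ℕ} (hs : symsP P ⊆ [l₁, l₂]) :
    ((dOut (F := F) h).range ⊔ (fOut (F := F) h).range).index = 1 ∨
      ((dOut (F := F) h).range ⊔ (fOut (F := F) h).range).index = 2 := by
  classical
  haveI := sup_normal (F := F) h hC hA
  haveI : Finite (D.group F) := Subtype.finite
  set M := (dOut (F := F) h).range ⊔ (fOut (F := F) h).range
  have hcard : M.index ≤ 2 := by
    rw [Subgroup.index_eq_card]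
    let T := {l : List ℕ // l ∈ [l₁, l₂]}
    have hch : ∀ x : Cfsg.Out ↥(D.group F) ⧸ M, ∃ t : T, ∃ (g : MulAut ↥(D.group F))
        (p : Equiv.Perm (Fin P.rank)), GPar h g p ∧ permList p = t.1 ∧
          x = QuotientGroup.mk (QuotientGroup.mk' (Cfsg.Inn ↥(D.group F)) g) := by
      intro x
      obtain ⟨g, p, hp, hg, e⟩ := quot_surj h hC hA x
      exact ⟨⟨permList p, hs (permList_mem hp)⟩, g, p, hg, rfl, e⟩
    choose t g p hg hl he using hch
    have hinj : Function.Injective t := by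
      intro x y e
      have hp : p x = p y := permList_injective (by rw [hl, hl, e])
      have hgg : g x = g y := gPar_ext h (hg x) (hp ▸ hg y)
      rw [he x, he y, hgg]
    haveI : Fintype T := Fintype.ofFinset [l₁, l₂].toFinset fun _ => List.mem_toFinset
    refine (Nat.card_le_card_of_injective t hinj).trans ?_
    rw [Nat.card_eq_fintype_card]
    exact (Fintype.card_of_subtype _ fun _ => List.mem_toFinset).le.trans (List.toFinset_card_le _)
  have h0 : M.index ≠ 0 := Subgroup.index_ne_zero_of_finite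
  omega

/-- The case of a triality. -/
theorem index_six (hC : P.ckComm = true) (hA : ckAut P)
    (hlong : ∀ i < P.rank, D.isLong (D.simple i) = false)
    {a s : MulAut ↥(D.group F)} {pa ps : Equiv.Perm (Fin P.rank)} (ha : GPar h a pa) (hs : GPar h s ps)
    (r1 : pa ^ 3 = 1) (r2 : ps ^ 2 = 1) (r3 : ps * pa = pa ^ 2 * ps)
    (hall : ∀ l ∈ symsP P, l ∈ [permList (1 : Equiv.Perm (Fin P.rank)), permList pa, permList (pa ^ 2),
      permList ps, permList (pa * ps), permList (pa ^ 2 * ps)]) :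
    ((dOut (F := F) h).range ⊔ (fOut (F := F) h).range).index = 1 ∨
      ((dOut (F := F) h).range ⊔ (fOut (F := F) h).range).index = 2 ∨
      (((dOut (F := F) h).range ⊔ (fOut (F := F) h).range).index = 6 ∧
        ¬ commutator (Cfsg.Out ↥(D.group F)) ≤ (dOut (F := F) h).range ⊔ (fOut (F := F) h).range) := by
  classical
  haveI := sup_normal (F := F) h hC hA
  haveI : Finite (D.group F) := Subtype.finite
  set M := (dOut (F := F) h).range ⊔ (fOut (F := F) h).range
  set Q := Cfsg.Out ↥(D.group F) ⧸ M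
  let π : MulAut ↥(D.group F) →* Q :=
    (QuotientGroup.mk' M).comp (QuotientGroup.mk' (Cfsg.Inn ↥(D.group F)))
  have mul := fun {g g' : MulAut ↥(D.group F)} {p p' : Equiv.Perm (Fin P.rank)}
      (hg : GPar h g p) (hg' : GPar h g' p') => gPar_mul h hlong hg hg'
  have ha2 : GPar h (a ^ 2) (pa ^ 2) := by rw [pow_two, pow_two]; exact mul ha ha
  have R1 : a ^ 3 = 1 := gPar_ext h (p := 1) (by
    have := mul ha2 ha
    rwa [← pow_succ, ← pow_succ, r1] at this) (gPar_one h)
  have R2 : s ^ 2 = 1 := gPar_ext h (p := 1) (by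
    have := mul hs hs
    rwa [← pow_two, ← pow_two, r2] at this) (gPar_one h)
  have R3 : s * a = a ^ 2 * s := gPar_ext h (mul hs ha) (r3 ▸ mul ha2 hs)
  set A := π a with hAdef
  set S := π s with hSdef
  have A3 : A ^ 3 = 1 := by rw [hAdef, ← map_pow, R1, map_one]
  have S2 : S ^ 2 = 1 := by rw [hSdef, ← map_pow, R2, map_one]
  have SA : S * A = A ^ 2 * S := by rw [hAdef, hSdef, ← map_mul, R3, map_mul, map_pow]
  let L : List Q := [1, A, A ^ 2, S, A * S, A ^ 2 * S]
  have hL : ∀ x : Q, x ∈ L := by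
    intro x
    obtain ⟨g, p, hp, hg, rfl⟩ := quot_surj h hC hA x
    show π g ∈ L
    have hcase := hall _ (permList_mem hp)
    simp only [List.mem_cons, List.not_mem_nil, or_false, permList_injective.eq_iff] at hcase
    rcases hcase with rfl | rfl | rfl | rfl | rfl | rfl
    · rw [gPar_ext h hg (gPar_one h), map_one]; simp [L]
    · rw [gPar_ext h hg ha]; simp [L, hAdef]
    · rw [gPar_ext h hg ha2, map_pow]; simp [L, hAdef]
    · rw [gPar_ext h hg hs]; simp [L, hSdef]
    · rw [gPar_ext h hg (mul ha hs), map_mul]; simp [L, hAdef, hSdef]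
    · rw [gPar_ext h hg (mul ha2 hs), map_mul, map_pow]; simp [L, hAdef, hSdef]
  have h0 : M.index ≠ 0 := Subgroup.index_ne_zero_of_finite
  rw [Subgroup.index_eq_card] at h0 ⊢
  haveI : Fintype Q := ⟨L.toFinset, fun x => List.mem_toFinset.2 (hL x)⟩
  have hQ : Nat.card Q = Nat.card (Cfsg.Out ↥(D.group F) ⧸ M) := rfl
  have hle : ∀ L' : List Q, (∀ x, x ∈ L') → Nat.card Q ≤ L'.length := fun L' hL' => by
    rw [Nat.card_eq_fintype_card, ← Finset.card_univ,
      ← Finset.eq_univ_iff_forall.2 (fun x => List.mem_toFinset.2 (hL' x))]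
    exact List.toFinset_card_le L'
  by_cases hA1 : A = 1
  · have := hle [1, S] fun x => by simpa [L, hA1] using hL x
    simp only [List.length_cons, List.length_nil] at this
    omega
  · refine Or.inr (Or.inr ⟨?_, ?_⟩)
    · have hne : S ≠ 1 := by
        intro e
        rw [e, one_mul, mul_one, pow_two] at SA
        exact hA1 (mul_left_cancel (SA.symm.trans (mul_one A).symm))
      have oA : orderOf A = 3 := orderOf_eq_prime A3 hA1
      have oS : orderOf S = 2 := orderOf_eq_prime S2 hne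
      have d6 : 6 ∣ Nat.card Q := ((show Nat.Coprime 3 2 by norm_num).mul_dvd_of_dvd_of_dvd
        (oA ▸ orderOf_dvd_natCard A) (oS ▸ orderOf_dvd_natCard S))
      have := hle L hL
      simp only [L, List.length_cons, List.length_nil] at this
      have := Nat.le_of_dvd (Nat.pos_of_ne_zero h0) d6
      omega
    · intro hcomm
      have hm : ⁅QuotientGroup.mk' (Cfsg.Inn ↥(D.group F)) s, QuotientGroup.mk' (Cfsg.Inn ↥(D.group F)) a⁆ ∈ M :=
        hcomm (by
          rw [commutator_def]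
          exact Subgroup.commutator_mem_commutator (Subgroup.mem_top _) (Subgroup.mem_top _))
      rw [← QuotientGroup.eq_one_iff, ← QuotientGroup.mk'_apply, map_commutatorElement,
        commutatorElement_eq_one_iff_mul_comm] at hm
      have e : S * A = A * S := hm
      rw [SA, pow_two, mul_assoc] at e
      exact hA1 (mul_eq_right.1 e)

end Cfsg.Agent.Chev.Aut
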