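/-
Counting the outer automorphisms.
-/
import Cfsg.Agent.Lib.Chev.Aut.OutStruct
import Cfsg.Agent.Lib.Chev.Order

set_option autoImplicit false
set_option linter.unusedSectionVars false

namespace Cfsg.Agent.Chev.Aut

open Cfsg.Agent.Chev Cfsg.Lie

variable {D : ChevalleyDatum} {P : Pk} {F : Type*} [Field F]

/-- The Cartan matrix on the nodes. -/
def nodeM (P : Pk) : Matrix (Fin P.rank) (Fin P.rank) ℤ := Matrix.of fun i k => P.A i (P.sim k)

theorem Pres.mul {f g : MulAut ↥(D.group F)} {S : Subgroup (GL D.Idx F)} (hf : Pres f S) (hg : Pres g S) :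
    Pres (f * g) S := fun x => (hf (g x)).trans (hg x)

variable (h : Ok D P)
include h

theorem coe_mhom_nodeM (c : Fin P.rank → Fˣ) (k : Fin P.rank) :
    ((mhom (nodeM P) c k : Fˣ) : F) = hchar P c (P.sim k) := by
  rw [mhom_apply, Units.coe_prod]
  simp [hchar, nodeM, Units.val_zpow_eq_zpow_val]

/-- An element of `H` inside the group. -/
def hS (c : Fin P.rank → Fˣ) : D.group F :=
  ⟨h.hHom c, h.diagonal_le_group (h.mem_diagonal_iff.2 ⟨c, rfl⟩)⟩

theorem conj_hS (c : Fin P.rank → Fˣ) : MulAut.conj (hS h c) = dHom h (mhom (nodeM P) c) := by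
  refine aut_ext h (fun i t => ?_) fun i t => ?_
  · rw [dHom_pos, coe_mhom_nodeM h]
    exact Subtype.ext (h.hHom_xG c (h.sim_lt i.isLt) t)
  · rw [dHom_neg, coe_mhom_nodeM h]
    refine Subtype.ext ((h.hHom_xG c (Ok.ng_lt (h.sim_lt i.isLt)) t).trans ?_)
    rw [(h.isChar_hchar c).neg _ (h.sim_lt i.isLt)]
    rfl

variable [Fintype F]

theorem pres_of_maps {g : MulAut ↥(D.group F)}
    (hx : ∀ r < P.nroots, ∀ t : F, ∃ r' u, r' < P.nroots ∧ P.isPos r' = P.isPos r ∧
      g (xS h r t) = xS h r' u) :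
    Pres g (D.posUnipotent F) ∧ Pres g (D.negUnipotent F) := by
  haveI : Finite (D.group F) := Subtype.finite
  have fin : ∀ (S : Subgroup (GL D.Idx F)), (∀ w : D.group F, (w : GL D.Idx F) ∈ S → (g w : GL D.Idx F) ∈ S) →
      Pres g S := by
    intro S hS w
    refine ⟨fun hw => ?_, hS w⟩
    have hpow : ∀ n : ℕ, ∀ w : D.group F, (w : GL D.Idx F) ∈ S → ((g ^ n) w : GL D.Idx F) ∈ S := by
      intro n
      induction n with
      | zero => intro w hw; simpa using hw
      | succ n ih => intro w hw; rw [pow_succ, MulAut.mul_apply]; exact ih _ (hS w hw)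
    have := hpow (orderOf g - 1) (g w) hw
    rwa [← MulAut.mul_apply, ← pow_succ, Nat.sub_add_cancel (orderOf_pos g), pow_orderOf_eq_one,
      MulAut.one_apply] at this
  constructor
  · refine fin _ fun w hw => ?_
    have hle : D.posUnipotent F ≤
        (((D.posUnipotent F).subgroupOf (D.group F)).comap g.toMonoidHom).map (D.group F).subtype :=
      h.posUnipotent_le fun r hr t => by
        obtain ⟨r', u, -, hp, e⟩ := hx r (P.isPos_iff.1 hr).2 t
        refine ⟨xS h r t, ?_, rfl⟩
        show (g (xS h r t) : GL D.Idx F) ∈ D.posUnipotent F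
        rw [e]
        exact h.xG_mem_pos (hp.trans hr) u
    obtain ⟨w', hw', e⟩ := hle hw
    obtain rfl : w' = w := Subtype.ext e
    exact hw'
  · refine fin _ fun w hw => ?_
    have hle : D.negUnipotent F ≤
        (((D.negUnipotent F).subgroupOf (D.group F)).comap g.toMonoidHom).map (D.group F).subtype :=
      h.negUnipotent_le fun r hr hrp t => by
        obtain ⟨r', u, hr', hp, e⟩ := hx r hr t
        refine ⟨xS h r t, ?_, rfl⟩
        show (g (xS h r t) : GL D.Idx F) ∈ D.negUnipotent F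
        rw [e]
        exact h.xG_mem_neg hr' (hp.trans hrp) u
    obtain ⟨w', hw', e⟩ := hle hw
    obtain rfl : w' = w := Subtype.ext e
    exact hw'

theorem pres_fHom (σ : F ≃+* F) :
    Pres (fHom h σ) (D.posUnipotent F) ∧ Pres (fHom h σ) (D.negUnipotent F) :=
  pres_of_maps h fun r hr t => ⟨r, σ t, hr, rfl, fHom_xS h σ hr t⟩

theorem normal_unique (hC : P.ckComm = true) {z : D.group F} {a b : Fin P.rank → Fˣ}
    {g g' : MulAut ↥(D.group F)} {p p' : Equiv.Perm (Fin P.rank)} {σ τ : F ≃+* F}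
    (hg : GPar h g p) (hgU : Pres g (D.posUnipotent F)) (hgV : Pres g (D.negUnipotent F))
    (hg' : GPar h g' p') (hgU' : Pres g' (D.posUnipotent F)) (hgV' : Pres g' (D.negUnipotent F))
    (e : MulAut.conj z * (dHom h a * g * fHom h σ) = dHom h b * g' * fHom h τ) :
    p = p' ∧ σ = τ ∧ ∃ c, mhom (nodeM P) c * a = b := by
  set A := dHom h a * g * fHom h σ
  set B := dHom h b * g' * fHom h τ
  have hz : ∀ (S : Subgroup (GL D.Idx F)), Pres A S → Pres B S → S ≤ D.group F → ∀ u ∈ S,
      (z : GL D.Idx F) * u * (z : GL D.Idx F)⁻¹ ∈ S := by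
    intro S hA hB hS u hu
    obtain ⟨w, hw⟩ := A.surjective ⟨u, hS hu⟩
    have hw' : (w : GL D.Idx F) ∈ S := (hA w).1 (by rw [hw]; exact hu)
    have := (hB w).2 hw'
    rw [← e, MulAut.mul_apply, MulAut.conj_apply, hw] at this
    exact this
  have hdiag : (z : GL D.Idx F) ∈ D.diagonalSubgroup F := mem_diagonal_of_normalizes h hC z.2
    (hz _ (Pres.mul (Pres.mul (pres_dAut_pos h a) hgU) (pres_fHom h σ).1)
      (Pres.mul (Pres.mul (pres_dAut_pos h b) hgU') (pres_fHom h τ).1) (pos_le_group h))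
    (hz _ (Pres.mul (Pres.mul (pres_dAut_neg h a) hgV) (pres_fHom h σ).2)
      (Pres.mul (Pres.mul (pres_dAut_neg h b) hgV') (pres_fHom h τ).2) (neg_le_group h))
  obtain ⟨c, hc⟩ := h.mem_diagonal_iff.1 hdiag
  obtain rfl : z = hS h c := Subtype.ext hc.symm
  have main : ∀ (i : Fin P.rank) (t : F),
      xS h (P.sim (p i)) (((mhom (nodeM P) c * a) (p i) : F) * σ t ^ gE D F i (p i)) =
        xS h (P.sim (p' i)) ((b (p' i) : F) * τ t ^ gE D F i (p' i)) := by
    intro i t
    have h1 := DFunLike.congr_fun e (xS h (P.sim i) t)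
    simp only [A, B, MulAut.mul_apply, fHom_xS h _ (h.sim_lt i.isLt), (hg i _).1, (hg' i _).1, dHom_pos,
      conj_hS h c] at h1
    rw [Pi.mul_apply, Units.val_mul, mul_assoc]
    exact h1
  have hpp : p = p' := by
    refine Equiv.ext fun i => Fin.ext ?_
    have h1 := congrArg Subtype.val (main i 1)
    rw [map_one, map_one, one_pow, one_pow, mul_one, mul_one, coe_xS, coe_xS] at h1
    have h2 := h.xG_index_inj (h.sim_lt (p i).isLt) (h.sim_lt (p' i).isLt) (Units.ne_zero _) h1
    have h3 := congrArg (fun r => P.rv r (p i)) h2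
    simp only [h.rv_sim (p i).isLt (p i).isLt, h.rv_sim (p' i).isLt (p i).isLt, ↓reduceIte] at h3
    by_contra hne
    rw [if_neg (fun e => hne e.symm)] at h3
    exact one_ne_zero h3
  subst hpp
  have main' : ∀ (i : Fin P.rank) (t : F),
      ((mhom (nodeM P) c * a) (p i) : F) * σ t ^ gE D F i (p i) = (b (p i) : F) * τ t ^ gE D F i (p i) :=
    fun i t => xS_inj h (h.sim_lt (p i).isLt) (main i t)
  have hcab : mhom (nodeM P) c * a = b := by
    funext m
    obtain ⟨i, rfl⟩ := p.surjective m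
    have h1 := main' i 1
    rw [map_one, map_one, one_pow, mul_one, mul_one] at h1
    exact Units.ext h1
  refine ⟨rfl, RingEquiv.ext fun t => ?_, c, hcab⟩
  haveI := ringChar.charP F
  haveI : Fact (ringChar F).Prime := ⟨CharP.char_is_prime F (ringChar F)⟩
  have hr : 0 < P.rank := by have := h.two_le_rank; omega
  have h1 := main' ⟨0, hr⟩ t
  rw [hcab] at h1
  have h2 := mul_left_cancel₀ (Units.ne_zero _) h1
  simp only [gE, ChevalleyDatum.graphExp] at h2
  split_ifs at h2
  · exact frobenius_inj F (ringChar F) h2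
  · simpa using h2

/-- The number of outer automorphisms. -/
theorem card_out (hC : P.ckComm = true) (hA : ckAut P) {m : ℕ} (gs : Fin m → MulAut ↥(D.group F))
    (ps : Fin m → Equiv.Perm (Fin P.rank)) (hg : ∀ k, GPar h (gs k) (ps k))
    (hU : ∀ k, Pres (gs k) (D.posUnipotent F)) (hV : ∀ k, Pres (gs k) (D.negUnipotent F))
    (hinj : Function.Injective ps)
    (hall : ∀ (g : MulAut ↥(D.group F)) (p : Equiv.Perm (Fin P.rank)), Sym P p → GPar h g p → ∃ k, ps k = p) :
    Nat.card (Cfsg.Out ↥(D.group F)) =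
      m * ((mhom (A := Fˣ) (nodeM P)).range.index * Nat.card (F ≃+* F)) := by
  classical
  set R := (mhom (A := Fˣ) (nodeM P)).range
  set q := QuotientGroup.mk' (Cfsg.Inn ↥(D.group F))
  let Φ : Fin m × ((Fin P.rank → Fˣ) ⧸ R) × (F ≃+* F) → Cfsg.Out ↥(D.group F) := fun x =>
    q (dHom h x.2.1.out * gs x.1 * fHom h x.2.2)
  have hΦ : Function.Bijective Φ := by
    constructor
    · rintro ⟨k, u, σ⟩ ⟨k', u', τ⟩ e
      obtain ⟨w, hw⟩ : (dHom h u.out * gs k * fHom h σ)⁻¹ * (dHom h u'.out * gs k' * fHom h τ) ∈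
          Cfsg.Inn ↥(D.group F) := QuotientGroup.eq.1 e
      rw [eq_inv_mul_iff_mul_eq] at hw
      have e1 : MulAut.conj ((dHom h u.out * gs k * fHom h σ) w) * (dHom h u.out * gs k * fHom h σ) =
          dHom h u'.out * gs k' * fHom h τ := by
        rw [← hw]
        refine MulEquiv.ext fun y => ?_
        simp [MulAut.mul_apply]
      obtain ⟨hp, hσ, c, hc⟩ := normal_unique h hC (hg k) (hU k) (hV k) (hg k') (hU k') (hV k') e1
      obtain rfl := hinj hp
      have hu : u = u' := by
        rw [← QuotientGroup.out_eq' u, ← QuotientGroup.out_eq' u', QuotientGroup.eq]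
        refine ⟨c, ?_⟩
        rw [← hc, mul_comm (mhom _ c), inv_mul_cancel_left]
      rw [hσ, hu]
    · intro o
      obtain ⟨θ, rfl⟩ := QuotientGroup.mk'_surjective (Cfsg.Inn ↥(D.group F)) o
      obtain ⟨x, a, g, σ, hgr, rfl⟩ := exists_decomp h hC hA θ
      obtain ⟨p, hp, hgp⟩ := (isGraphAut_iff h g).1 hgr
      obtain ⟨k, rfl⟩ := hall g p hp hgp
      obtain rfl := gPar_ext h hgp (hg k)
      obtain ⟨⟨_, c, rfl⟩, hr⟩ := QuotientGroup.mk_out_eq_mul R a
      refine ⟨⟨k, QuotientGroup.mk a, σ⟩, ?_⟩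
      show q (dHom h (QuotientGroup.mk a : (Fin P.rank → Fˣ) ⧸ R).out * gs k * fHom h σ) = _
      rw [hr, show a * (mhom (nodeM P) c) = mhom (nodeM P) c * a from mul_comm _ _, map_mul (dHom h),
        ← conj_hS h c, mul_assoc (MulAut.conj (hS h c)), mul_assoc (MulAut.conj (hS h c)), map_mul q,
        map_mul q (MulAut.conj x), mk_conj h, mk_conj h]
  rw [← Nat.card_congr (Equiv.ofBijective Φ hΦ), Nat.card_prod, Nat.card_prod, Nat.card_fin,
    Subgroup.index_eq_card]

/-- The cokernel of the Cartan matrix from a Smith certificate. -/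
theorem index_smith {U U' V V' : List (List ℤ)} {d : List ℤ} (hck : ckSmith P U U' V V' d = true) :
    (mhom (A := Fˣ) (nodeM P)).range.index =
      ((List.range P.rank).map fun k => (Fintype.card F - 1).gcd (d.getD k 0).natAbs).prod := by
  classical
  rw [← List.prod_toFinset _ List.nodup_range, List.toFinset_range,
    ← Fin.prod_univ_eq_prod_range (fun k => (Fintype.card F - 1).gcd (d.getD k 0).natAbs)]
  let mk : List (List ℤ) → Matrix (Fin P.rank) (Fin P.rank) ℤ := fun X =>
    Matrix.of fun i j => (X.getD i.val []).getD j.val 0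
  have hsum : ∀ f : ℕ → ℤ, ((List.range P.rank).map f).sum = ∑ k : Fin P.rank, f k.val := fun f => by
    rw [← List.sum_toFinset _ List.nodup_range, List.toFinset_range, Fin.sum_univ_eq_sum_range]
  simp only [ckSmith, List.all_eq_true, List.mem_range, Bool.and_eq_true, beq_iff_eq, hsum, nbeq] at hck
  have hU : mk U * mk U' = 1 := by
    ext i j
    rw [Matrix.mul_apply, Matrix.one_apply]
    simp only [mk, Matrix.of_apply, (hck i i.isLt j j.isLt).1.1, Fin.ext_iff]
    by_cases e : i.val = j.val <;> simp [e]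
  have hV : mk V * mk V' = 1 := by
    ext i j
    rw [Matrix.mul_apply, Matrix.one_apply]
    simp only [mk, Matrix.of_apply, (hck i i.isLt j j.isLt).1.2, Fin.ext_iff]
    by_cases e : i.val = j.val <;> simp [e]
  have hM : mk U * nodeM P * mk V = Matrix.diagonal fun k : Fin P.rank => d.getD k.val 0 := by
    ext i j
    rw [Matrix.diagonal_apply]
    simp only [mk, nodeM, Matrix.mul_apply, Matrix.of_apply, (hck i i.isLt j j.isLt).2, Fin.ext_iff]
    by_cases e : i.val = j.val <;> simp [e]
  set f := mhom (A := Fˣ) (nodeM P)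
  have h1 := Subgroup.card_mul_index f.ker
  have h2 := Subgroup.card_mul_index f.range
  rw [Subgroup.index_ker] at h1
  have h3 : f.range.index = Nat.card f.ker := by
    have h0 : 0 < Nat.card f.range := Nat.card_pos
    exact Nat.eq_of_mul_eq_mul_left h0 (by rw [h2, ← h1, mul_comm])
  rw [h3, card_mhom_ker hU hV hM, Nat.card_eq_fintype_card, Fintype.card_units]

end Cfsg.Agent.Chev.Aut
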