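/-
The triality data of D₄.
-/
import Cfsg.Agent.Lib.Chev.Aut.GraphAuts
import Cfsg.Agent.Lib.Chev.Aut.OutStruct
import Cfsg.Agent.Lib.Chev.All
import Cfsg.Agent.Lib.Chev.AllC

set_option autoImplicit false
set_option Elab.async false

namespace Cfsg.Agent.Chev.Aut

open Cfsg.Agent.Chev Cfsg.Lie

theorem ckLg_D4 : ckLg D4.pk [] = true := by decide +kernel

/-- The permutation of order three. -/
def d4a : Equiv.Perm (Fin D4.pk.rank) := gperm D4.ok ckG_D4a

/-- The permutation of order two. -/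
def d4s : Equiv.Perm (Fin D4.pk.rank) := gperm D4.ok ckG_D4s

theorem d4_rel : (∀ i, (d4a ^ 3) i = i) ∧ (∀ i, (d4s ^ 2) i = i) ∧ (∀ i, (d4s * d4a) i = (d4a ^ 2 * d4s) i) ∧
    ((symsP D4.pk).all fun l => [permList (1 : Equiv.Perm (Fin D4.pk.rank)), permList d4a, permList (d4a ^ 2),
      permList d4s, permList (d4a * d4s), permList (d4a ^ 2 * d4s)].contains l) = true := by decide +kernel

theorem index_D4 {F : Type*} [Field F] [Fintype F] :
    ((dOut (F := F) D4.ok).range ⊔ (fOut (F := F) D4.ok).range).index = 1 ∨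
      ((dOut (F := F) D4.ok).range ⊔ (fOut (F := F) D4.ok).range).index = 2 ∨
      (((dOut (F := F) D4.ok).range ⊔ (fOut (F := F) D4.ok).range).index = 6 ∧
        ¬ commutator (Cfsg.Out ↥(chevD4.group F)) ≤
          (dOut (F := F) D4.ok).range ⊔ (fOut (F := F) D4.ok).range) := by
  have hlong := long_false D4.ok ckLg_D4
  obtain ⟨r1, r2, r3, r4⟩ := d4_rel
  refine index_six D4.ok ckComm_D4 ckAut_D4 hlong (gPar_gAut D4.ok ckG_D4a hlong)
    (gPar_gAut D4.ok ckG_D4s hlong) (Equiv.ext r1) (Equiv.ext r2) (Equiv.ext r3) fun l hl => ?_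
  exact List.contains_iff_mem.1 (List.all_eq_true.1 r4 l hl)

end Cfsg.Agent.Chev.Aut
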