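/-
The outer automorphism group of D₄ as a product.
-/
import Cfsg.Agent.Lib.Chev.Aut.OutD4
import Cfsg.Agent.Lib.Chev.Aut.OutCount
import Cfsg.Agent.Lib.Chev.Smith
import Cfsg.Agent.Lib.AutPSL.Counts
import Mathlib.GroupTheory.Perm.Basic

set_option autoImplicit false
set_option linter.unusedSectionVars false
set_option Elab.async false
set_option maxHeartbeats 1000000

namespace Cfsg.Agent.Chev.Aut

open Cfsg.Agent.Chev Cfsg.Lie

section Generic

variable {G : Type*} [Group G]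

/-- A group with a corefree subgroup of index `n` and order `n!` is symmetric. -/
theorem perm_of_core [Finite G] (H : Subgroup G) {n : ℕ} (hi : H.index = n) (hcore : H.normalCore = ⊥)
    (hc : Nat.card G = n.factorial) : Nonempty (G ≃* Equiv.Perm (Fin n)) := by
  classical
  haveI : Fintype (G ⧸ H) := Fintype.ofFinite _
  have hcard : Fintype.card (G ⧸ H) = n := by rw [← Nat.card_eq_fintype_card, ← Subgroup.index_eq_card, hi]
  have hinj : Function.Injective (MulAction.toPermHom G (G ⧸ H)) := by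
    rw [← MonoidHom.ker_eq_bot_iff, ← Subgroup.normalCore_eq_ker, hcore]
  have hbij : Function.Bijective (MulAction.toPermHom G (G ⧸ H)) :=
    (Nat.bijective_iff_injective_and_card _).2 ⟨hinj, by
      rw [hc, Nat.card_eq_fintype_card, Fintype.card_perm, hcard]⟩
  exact ⟨(MulEquiv.ofBijective _ hbij).trans (Fintype.equivFinOfCardEq hcard).permCongrHom⟩

end Generic

/-- The permutations of the outer nodes. -/
def outerPerm4 : Equiv.Perm (Fin 3) →* Equiv.Perm (Fin 4) :=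
  Equiv.Perm.extendDomainHom (finSuccAboveEquiv (1 : Fin 4))

/-- The same on the tabulated nodes. -/
def outerPerm : Equiv.Perm (Fin 3) →* Equiv.Perm (Fin D4.pk.rank) := outerPerm4

theorem outerPerm_tables :
    (∀ π, permList (outerPerm π) ∈ [permList (1 : Equiv.Perm (Fin D4.pk.rank)), permList d4a, permList (d4a ^ 2),
      permList d4s, permList (d4a * d4s), permList (d4a ^ 2 * d4s)]) ∧
    (∀ l ∈ symsP D4.pk, ∃ π, permList (outerPerm π) = l) ∧
    (∀ π, (∀ i : Fin 3, outerPerm4 π ((1 : Fin 4).succAbove i) = (1 : Fin 4).succAbove i) → π = 1) ∧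
    (∀ π, Sym D4.pk (outerPerm π)) := by
  unfold Sym
  decide +kernel

variable {F : Type*} [Field F]

theorem gpar_outer (π : Equiv.Perm (Fin 3)) :
    ∃ g : MulAut ↥(chevD4.group F), GPar D4.ok g (outerPerm π) := by
  have hlong := long_false D4.ok ckLg_D4
  have ha := gPar_gAut (F := F) D4.ok ckG_D4a hlong
  have hs := gPar_gAut (F := F) D4.ok ckG_D4s hlong
  have ha2 : GPar D4.ok (D4.ok.gAut (F := F) ckG_D4a ^ 2) (d4a ^ 2) := by
    rw [pow_two, pow_two]; exact gPar_mul D4.ok hlong ha ha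
  have h := outerPerm_tables.1 π
  simp only [List.mem_cons, List.not_mem_nil, or_false, permList_injective.eq_iff] at h
  rcases h with e | e | e | e | e | e <;> rw [e]
  · exact ⟨_, gPar_one D4.ok⟩
  · exact ⟨_, ha⟩
  · exact ⟨_, ha2⟩
  · exact ⟨_, hs⟩
  · exact ⟨_, gPar_mul D4.ok hlong ha hs⟩
  · exact ⟨_, gPar_mul D4.ok hlong ha2 hs⟩

/-- The triality group as automorphisms. -/
noncomputable def triHom : Equiv.Perm (Fin 3) →* MulAut ↥(chevD4.group F) :=
  MonoidHom.mk' (fun π => (gpar_outer π).choose) fun π ρ =>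
    gPar_ext D4.ok (gpar_outer (π * ρ)).choose_spec (by
      rw [map_mul]
      exact gPar_mul D4.ok (long_false D4.ok ckLg_D4) (gpar_outer π).choose_spec (gpar_outer ρ).choose_spec)

theorem triHom_par (π : Equiv.Perm (Fin 3)) : GPar D4.ok (triHom (F := F) π) (outerPerm π) :=
  (gpar_outer π).choose_spec

/-- The triality group as outer automorphisms. -/
noncomputable def tOut : Equiv.Perm (Fin 3) →* Cfsg.Out ↥(chevD4.group F) :=
  (QuotientGroup.mk' (Cfsg.Inn ↥(chevD4.group F))).comp triHom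

variable [Fintype F]

theorem pres_tri (π : Equiv.Perm (Fin 3)) :
    Pres (triHom (F := F) π) (chevD4.posUnipotent F) ∧ Pres (triHom (F := F) π) (chevD4.negUnipotent F) := by
  have hlong := long_false D4.ok ckLg_D4
  have P0 : ∀ {g : Gph} (hg : g.ckG D4.pk = true), Pres (D4.ok.gAut (F := F) hg) (chevD4.posUnipotent F) ∧
      Pres (D4.ok.gAut (F := F) hg) (chevD4.negUnipotent F) := fun {g} hg =>
    pres_of_maps D4.ok fun r hr t => ⟨g.rr r, (g.eps r : F) * t, (D4.ok.groot hg hr).1,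
      (D4.ok.groot hg hr).2.2.2.2.2.1, Subtype.ext (D4.ok.gT_xG hg hr t)⟩
  have ha := gPar_gAut (F := F) D4.ok ckG_D4a hlong
  have hs := gPar_gAut (F := F) D4.ok ckG_D4s hlong
  obtain ⟨A1, A2⟩ := P0 (g := gD4a) ckG_D4a
  obtain ⟨S1, S2⟩ := P0 (g := gD4s) ckG_D4s
  have ha2 : GPar D4.ok (D4.ok.gAut (F := F) ckG_D4a ^ 2) (d4a ^ 2) := by
    rw [pow_two, pow_two]; exact gPar_mul D4.ok hlong ha ha
  have h := outerPerm_tables.1 π
  have hp := triHom_par (F := F) π
  simp only [List.mem_cons, List.not_mem_nil, or_false, permList_injective.eq_iff] at h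
  rcases h with e | e | e | e | e | e <;> rw [e] at hp
  · rw [gPar_ext D4.ok hp (gPar_one D4.ok)]; exact ⟨fun _ => Iff.rfl, fun _ => Iff.rfl⟩
  · rw [gPar_ext D4.ok hp ha]; exact ⟨A1, A2⟩
  · rw [gPar_ext D4.ok hp ha2, pow_two]; exact ⟨A1.mul A1, A2.mul A2⟩
  · rw [gPar_ext D4.ok hp hs]; exact ⟨S1, S2⟩
  · rw [gPar_ext D4.ok hp (gPar_mul D4.ok hlong ha hs)]; exact ⟨A1.mul S1, A2.mul S2⟩
  · rw [gPar_ext D4.ok hp (gPar_mul D4.ok hlong ha2 hs), pow_two]; exact ⟨(A1.mul A1).mul S1, (A2.mul A2).mul S2⟩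

theorem dOut_eq_one_iff (a : Fin D4.pk.rank → Fˣ) :
    dOut D4.ok a = 1 ↔ ∃ c, mhom (nodeM D4.pk) c = a := by
  constructor
  · intro e
    obtain ⟨w, hw⟩ := (QuotientGroup.eq_one_iff _).1 e
    have e1 : MulAut.conj w⁻¹ * (dHom D4.ok a * 1 * fHom D4.ok 1) =
        dHom D4.ok 1 * (1 : MulAut ↥(chevD4.group F)) * fHom D4.ok 1 := by
      rw [map_one, map_one, mul_one, mul_one, ← hw, map_inv, inv_mul_cancel, mul_one, mul_one]
    obtain ⟨-, -, c, hc⟩ := normal_unique D4.ok ckComm_D4 (gPar_one D4.ok) (fun _ => Iff.rfl) (fun _ => Iff.rfl)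
      (gPar_one D4.ok) (fun _ => Iff.rfl) (fun _ => Iff.rfl) e1
    exact ⟨c⁻¹, by rw [map_inv, inv_eq_iff_mul_eq_one, hc]⟩
  · rintro ⟨c, rfl⟩
    show QuotientGroup.mk' _ _ = 1
    rw [← conj_hS D4.ok c, mk_conj D4.ok]

theorem triple_eq_one {a : Fin D4.pk.rank → Fˣ} {π : Equiv.Perm (Fin 3)} {σ : F ≃+* F}
    (e : dOut D4.ok a * tOut π * fOut D4.ok σ = 1) : dOut D4.ok a = 1 ∧ π = 1 ∧ σ = 1 := by
  have e' : QuotientGroup.mk' (Cfsg.Inn ↥(chevD4.group F)) (dHom D4.ok a * triHom π * fHom D4.ok σ) = 1 := by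
    rw [map_mul, map_mul]; exact e
  obtain ⟨w, hw⟩ := (QuotientGroup.eq_one_iff _).1 e'
  have e1 : MulAut.conj w⁻¹ * (dHom D4.ok a * triHom π * fHom D4.ok σ) =
      dHom D4.ok 1 * (1 : MulAut ↥(chevD4.group F)) * fHom D4.ok 1 := by
    rw [map_one, map_one, ← hw, map_inv, inv_mul_cancel, mul_one, mul_one]
  obtain ⟨hp, hσ, c, hc⟩ := normal_unique D4.ok ckComm_D4 (triHom_par π) (pres_tri π).1 (pres_tri π).2
    (gPar_one D4.ok) (fun _ => Iff.rfl) (fun _ => Iff.rfl) e1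
  refine ⟨(dOut_eq_one_iff a).2 ⟨c⁻¹, by rw [map_inv, inv_eq_iff_mul_eq_one, hc]⟩, ?_, hσ⟩
  exact outerPerm_tables.2.2.1 π fun i => by
    rw [show outerPerm4 π = (1 : Equiv.Perm (Fin 4)) from hp]; rfl

theorem tOut_dOut (π : Equiv.Perm (Fin 3)) (a : Fin D4.pk.rank → Fˣ) :
    tOut π * dOut D4.ok a = dOut D4.ok (fun m => a ((outerPerm π).symm m)) * tOut (F := F) π := by
  have he : ∀ i j : Fin D4.pk.rank, gE chevD4 F i j = 1 := fun i j => by
    simp [gE, ChevalleyDatum.graphExp, long_false D4.ok ckLg_D4 j j.isLt]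
  have := congrArg (QuotientGroup.mk' (Cfsg.Inn ↥(chevD4.group F))) (gPar_dHom D4.ok (triHom_par (F := F) π) a)
  simp only [he, pow_one, map_mul] at this
  exact this

theorem tOut_fOut (π : Equiv.Perm (Fin 3)) (σ : F ≃+* F) :
    Commute (fOut D4.ok σ) (tOut π) := by
  have hs : Sym D4.pk (outerPerm π) := outerPerm_tables.2.2.2 π
  have := congrArg (QuotientGroup.mk' (Cfsg.Inn ↥(chevD4.group F))) (gPar_fHom D4.ok hs (triHom_par (F := F) π) σ)
  rw [map_mul, map_mul] at this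
  exact this.symm

theorem fOut_dOut (σ : F ≃+* F) (a : Fin D4.pk.rank → Fˣ) :
    fOut D4.ok σ * dOut D4.ok a = dOut D4.ok (fun i => Units.map σ.toRingHom.toMonoidHom (a i)) * fOut D4.ok σ := by
  have := congrArg (QuotientGroup.mk' (Cfsg.Inn ↥(chevD4.group F))) (fHom_dHom D4.ok σ a)
  rwa [map_mul, map_mul] at this

/-- Squares vanish modulo the image of the Cartan matrix. -/
theorem dOut_sq (a : Fin D4.pk.rank → Fˣ) : dOut D4.ok a * dOut D4.ok a = 1 := by
  rw [← map_mul]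
  let M : Matrix (Fin D4.pk.rank) (Fin D4.pk.rank) ℤ := Matrix.of fun i k =>
    (([[2, 2, 1, 1], [2, 4, 2, 2], [1, 2, 2, 1], [1, 2, 1, 2]] : List (List ℤ)).getD i.val []).getD k.val 0
  refine (dOut_eq_one_iff _).2 ⟨mhom M a, ?_⟩
  rw [← mhom_mul]
  have hM : M * nodeM D4.pk = Matrix.diagonal fun _ => (2 : ℤ) := by
    decide +kernel
  refine (congrArg (fun M => mhom (A := Fˣ) M a) hM).trans (funext fun k => ?_)
  rw [mhom_apply, Finset.prod_eq_single k]
  · simp [sq]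
  · intro i _ hi; simp [Matrix.diagonal_apply_ne _ hi]
  · simp

theorem fOut_central (σ : F ≃+* F) (a : Fin D4.pk.rank → Fˣ) : Commute (fOut D4.ok σ) (dOut D4.ok a) := by
  classical
  have hsq : ∀ u : Fˣ, ∃ v : Fˣ, Units.map σ.toRingHom.toMonoidHom u = u * (v * v) := fun u => by
    have hq : IsSquare ((u : F)⁻¹ * σ (u : F)) := by
      by_cases h : IsSquare (u : F)
      · exact h.inv.mul (h.map σ)
      · have h2 : (2 : F) ≠ 0 := fun e => h (FiniteField.isSquare_of_char_two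
          (CharP.ringChar_of_prime_eq_zero Nat.prime_two (by exact_mod_cast e)) _)
        have h' : ¬ IsSquare (σ (u : F)) := fun e => h (by simpa using e.map σ.symm)
        have hχ : ringChar F ≠ 2 := fun e => h (FiniteField.isSquare_of_char_two e _)
        have hc := (quadraticChar_one_iff_isSquare (F := F)
          (mul_ne_zero (inv_ne_zero u.ne_zero) ((map_ne_zero σ).2 u.ne_zero))).1
        refine hc ?_
        rw [map_mul, quadraticChar_neg_one_iff_not_isSquare.2 h',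
          quadraticChar_neg_one_iff_not_isSquare.2 (fun e => h (by simpa using e.inv))]
        norm_num
    obtain ⟨v, hv⟩ := hq
    have hv0 : v ≠ 0 := fun e => mul_ne_zero (inv_ne_zero u.ne_zero) ((map_ne_zero σ).2 u.ne_zero) (by simp [hv, e])
    refine ⟨Units.mk0 v hv0, Units.ext ?_⟩
    simp [← hv]
  choose v hv using hsq
  have e : dOut D4.ok (fun i => Units.map σ.toRingHom.toMonoidHom (a i)) = dOut D4.ok a := by
    rw [show (fun i => Units.map σ.toRingHom.toMonoidHom (a i)) = a * ((fun i => v (a i)) * fun i => v (a i))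
      from funext fun i => hv (a i), map_mul, map_mul, dOut_sq, mul_one]
  show _ * _ = _ * _
  rw [fOut_dOut, e]

theorem out_surj (o : Cfsg.Out ↥(chevD4.group F)) :
    ∃ a π σ, o = dOut D4.ok a * tOut π * fOut D4.ok σ := by
  obtain ⟨a, g, p, σ, hp, hg, rfl⟩ := out_decomp D4.ok ckComm_D4 ckAut_D4 o
  obtain ⟨π, hπ⟩ := outerPerm_tables.2.1 _ (permList_mem hp)
  obtain rfl := permList_injective hπ
  exact ⟨a, π, σ, by rw [gPar_ext D4.ok hg (triHom_par π)]; rfl⟩

/-- The diagonal and triality parts. -/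
noncomputable def dtGroup : Subgroup (Cfsg.Out ↥(chevD4.group F)) :=
  (dOut (F := F) D4.ok).range ⊔ (tOut (F := F)).range

theorem mem_dtGroup {o : Cfsg.Out ↥(chevD4.group F)} :
    o ∈ dtGroup ↔ ∃ a π, o = dOut D4.ok a * tOut π := by
  haveI := dOut_normal (F := F) D4.ok ckComm_D4 ckAut_D4
  rw [dtGroup, ← SetLike.mem_coe, Subgroup.normal_mul, Set.mem_mul]
  constructor
  · rintro ⟨_, ⟨a, rfl⟩, _, ⟨π, rfl⟩, rfl⟩; exact ⟨a, π, rfl⟩
  · rintro ⟨a, π, rfl⟩; exact ⟨_, ⟨a, rfl⟩, _, ⟨π, rfl⟩, rfl⟩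

theorem fOut_commute_dt (σ : F ≃+* F) {o : Cfsg.Out ↥(chevD4.group F)} (ho : o ∈ dtGroup) :
    Commute (fOut D4.ok σ) o := by
  obtain ⟨a, π, rfl⟩ := mem_dtGroup.1 ho
  exact (fOut_central σ a).mul_right (tOut_fOut π σ)

/-- The outer automorphism group as a product. -/
theorem out_prod : Nonempty (Cfsg.Out ↥(chevD4.group F) ≃* ↥(dtGroup (F := F)) × (F ≃+* F)) := by
  let Φ : ↥(dtGroup (F := F)) × (F ≃+* F) →* Cfsg.Out ↥(chevD4.group F) :=
    (dtGroup (F := F)).subtype.noncommCoprod (fOut D4.ok) fun o σ => (fOut_commute_dt σ o.2).symm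
  refine ⟨(MulEquiv.ofBijective Φ ⟨?_, fun o => ?_⟩).symm⟩
  · rw [injective_iff_map_eq_one]
    rintro ⟨⟨o, ho⟩, σ⟩ e
    obtain ⟨a, π, rfl⟩ := mem_dtGroup.1 ho
    obtain ⟨h1, h2, h3⟩ := triple_eq_one (show dOut D4.ok a * tOut π * fOut D4.ok σ = 1 from e)
    refine Prod.ext (Subtype.ext ?_) h3
    show dOut D4.ok a * tOut π = 1
    rw [h1, h2, map_one, one_mul]
  · obtain ⟨a, π, σ, rfl⟩ := out_surj o
    exact ⟨(⟨_, mem_dtGroup.2 ⟨a, π, rfl⟩⟩, σ), rfl⟩

theorem card_dOut : Nat.card (dOut (F := F) D4.ok).range = (Nat.gcd (Fintype.card F - 1) 2) ^ 2 := by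
  have hk : (dOut (F := F) D4.ok).ker = (mhom (A := Fˣ) (nodeM D4.pk)).range := by
    ext a
    rw [MonoidHom.mem_ker, dOut_eq_one_iff]
    rfl
  rw [← Subgroup.index_ker, hk, index_smith D4.ok smith_D4]
  simp [D4.pk, List.range_succ, pow_two]

theorem card_dtGroup : Nat.card ↥(dtGroup (F := F)) = Nat.card (dOut (F := F) D4.ok).range * 6 := by
  let Ψ : ↥(dOut (F := F) D4.ok).range × Equiv.Perm (Fin 3) → ↥(dtGroup (F := F)) := fun x =>
    ⟨x.1.1 * tOut x.2, by
      obtain ⟨a, ha⟩ := x.1.2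
      exact mem_dtGroup.2 ⟨a, x.2, by rw [ha]⟩⟩
  have hΨ : Function.Bijective Ψ := by
    constructor
    · rintro ⟨⟨_, a, rfl⟩, π⟩ ⟨⟨_, b, rfl⟩, ρ⟩ e
      have e' : dOut D4.ok a * tOut π = dOut D4.ok b * tOut (F := F) ρ := congrArg Subtype.val e
      have e'' : dOut D4.ok (b⁻¹ * a) * tOut (π * ρ⁻¹) * fOut D4.ok (1 : F ≃+* F) = 1 := by
        rw [map_one, mul_one, map_mul, map_mul, map_inv, map_inv, ← mul_assoc, mul_assoc _ _ (tOut π), e',
          inv_mul_cancel_left, mul_inv_cancel]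
      obtain ⟨h1, h2, -⟩ := triple_eq_one e''
      rw [map_mul, map_inv, inv_mul_eq_one] at h1
      exact Prod.ext (Subtype.ext h1.symm) (mul_inv_eq_one.1 h2)
    · rintro ⟨o, ho⟩
      obtain ⟨a, π, rfl⟩ := mem_dtGroup.1 ho
      exact ⟨(⟨_, a, rfl⟩, π), rfl⟩
  rw [← Nat.card_congr (Equiv.ofBijective Ψ hΨ), Nat.card_prod, Nat.card_perm, Nat.card_fin]
  rfl

/-- Without diagonal classes the outer group is the triality group. -/
theorem dtGroup_two (h2 : Nat.gcd (Fintype.card F - 1) 2 = 1) :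
    Nonempty (↥(dtGroup (F := F)) ≃* Equiv.Perm (Fin 3)) := by
  have hd : (dOut (F := F) D4.ok).range = ⊥ := Subgroup.eq_bot_of_card_eq _ (by rw [card_dOut, h2]; rfl)
  have hinj : Function.Injective (tOut (F := F)) := (injective_iff_map_eq_one _).2 fun π e =>
    (triple_eq_one (a := 1) (σ := (1 : F ≃+* F)) (by rw [map_one, map_one, one_mul, mul_one, e])).2.1
  exact ⟨(MulEquiv.subgroupCongr (by rw [dtGroup, hd, bot_sup_eq])).trans (MonoidHom.ofInjective hinj).symm⟩

/-- A node invariant of diagonal classes. -/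
theorem sq_of_dOut_eq_one {a : Fin D4.pk.rank → Fˣ} (e : dOut D4.ok a = 1) :
    IsSquare ((a ⟨0, by decide⟩ * a ⟨2, by decide⟩ : Fˣ) : F) ∧
      IsSquare ((a ⟨0, by decide⟩ * a ⟨3, by decide⟩ : Fˣ) : F) := by
  obtain ⟨c, rfl⟩ := (dOut_eq_one_iff a).1 e
  have hA : ∀ i : Fin D4.pk.rank, Even (nodeM D4.pk i ⟨0, by decide⟩ + nodeM D4.pk i ⟨2, by decide⟩) ∧
      Even (nodeM D4.pk i ⟨0, by decide⟩ + nodeM D4.pk i ⟨3, by decide⟩) := by decide +kernel
  constructor <;>
  · simp only [mhom_apply, ← Finset.prod_mul_distrib, ← zpow_add]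
    rw [Units.coe_prod]
    refine Finset.prod_induction _ IsSquare (fun _ _ => IsSquare.mul) IsSquare.one fun i _ => ?_
    first
    | (obtain ⟨w, hw⟩ := (hA i).1
       exact ⟨((c i ^ w : Fˣ) : F), by rw [hw, zpow_add, Units.val_mul]⟩)
    | (obtain ⟨w, hw⟩ := (hA i).2
       exact ⟨((c i ^ w : Fˣ) : F), by rw [hw, zpow_add, Units.val_mul]⟩)

/-- With diagonal classes the outer group is symmetric of degree four. -/
theorem dtGroup_odd (h2 : Nat.gcd (Fintype.card F - 1) 2 = 2) :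
    Nonempty (↥(dtGroup (F := F)) ≃* Equiv.Perm (Fin 4)) := by
  classical
  obtain ⟨c, hc⟩ : ∃ c : F, ¬ IsSquare c := FiniteField.exists_nonsquare fun e => by
    have := FiniteField.even_card_of_char_two e
    have := Fintype.one_lt_card (α := F)
    have : Even (Fintype.card F - 1) := by
      rw [even_iff_two_dvd]; exact h2 ▸ Nat.gcd_dvd_left _ _
    rw [Nat.even_iff] at this
    omega
  have hc0 : c ≠ 0 := fun e => hc (e ▸ IsSquare.zero)
  let j : Fin 3 → Fin D4.pk.rank := fun i => (1 : Fin 4).succAbove i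
  let v : Fin 3 → Cfsg.Out ↥(chevD4.group F) := fun i =>
    dOut D4.ok (Pi.mulSingle (j i) (Units.mk0 c hc0))
  have hv : Function.Injective v := by
    intro i k e
    by_contra hne
    have e' : dOut D4.ok (Pi.mulSingle (j i) (Units.mk0 c hc0) * Pi.mulSingle (j k) (Units.mk0 c hc0)) = 1 := by
      rw [map_mul, show dOut D4.ok (Pi.mulSingle (j i) _) = dOut D4.ok (Pi.mulSingle (j k) _) from e, dOut_sq]
    obtain ⟨s1, s2⟩ := sq_of_dOut_eq_one e'
    have j0 : (j 0 : ℕ) = 0 := rfl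
    have j1 : (j 1 : ℕ) = 2 := rfl
    have j2 : (j 2 : ℕ) = 3 := rfl
    simp only [Pi.mul_apply, Pi.mulSingle_apply, Fin.ext_iff] at s1 s2
    revert hne s1 s2
    fin_cases i <;> fin_cases k <;> simp [j0, j1, j2] <;> intro h1 <;> exact hc h1
  have hperm : ∀ (π : Equiv.Perm (Fin 3)) (i : Fin 3), tOut π * v i * (tOut (F := F) π)⁻¹ = v (π i) := by
    intro π i
    have hj : outerPerm π (j i) = j (π i) := by
      show Equiv.Perm.extendDomainHom (finSuccAboveEquiv (1 : Fin 4)) π ((finSuccAboveEquiv (1 : Fin 4) i : Fin 4)) = _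
      rw [Equiv.Perm.extendDomainHom_apply, Equiv.Perm.extendDomain_apply_image]
      rfl
    rw [tOut_dOut, mul_inv_cancel_right]
    refine congrArg (dOut D4.ok) (funext fun m => ?_)
    rw [Pi.mulSingle_apply, Pi.mulSingle_apply]
    refine if_congr ?_ rfl rfl
    rw [← hj, Equiv.symm_apply_eq]
  let H : Subgroup ↥(dtGroup (F := F)) := ((tOut (F := F)).range).subgroupOf dtGroup
  have hinj : Function.Injective (tOut (F := F)) := (injective_iff_map_eq_one _).2 fun π e =>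
    (triple_eq_one (a := 1) (σ := (1 : F ≃+* F)) (by rw [map_one, map_one, one_mul, mul_one, e])).2.1
  have hHc : Nat.card H = 6 := by
    rw [Nat.card_congr (Subgroup.subgroupOfEquivOfLe (show (tOut (F := F)).range ≤ dtGroup from le_sup_right)).toEquiv,
      ← Nat.card_congr (MonoidHom.ofInjective hinj).toEquiv, Nat.card_perm, Nat.card_fin]
    rfl
  have hG : Nat.card ↥(dtGroup (F := F)) = 24 := by rw [card_dtGroup, card_dOut, h2]; rfl
  haveI : Finite ↥(dtGroup (F := F)) := Nat.finite_of_card_ne_zero (by rw [hG]; norm_num)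
  refine perm_of_core H ?_ ?_ (by rw [hG]; rfl)
  · have := Subgroup.card_mul_index H
    rw [hHc, hG] at this
    omega
  · rw [Subgroup.eq_bot_iff_forall]
    intro x hx
    obtain ⟨π, hπ⟩ : (x : Cfsg.Out ↥(chevD4.group F)) ∈ (tOut (F := F)).range :=
      Subgroup.mem_subgroupOf.1 (Subgroup.normalCore_le H hx)
    suffices hπ1 : π = 1 by exact Subtype.ext (by rw [← hπ, hπ1, map_one]; rfl)
    refine Equiv.ext fun i => ?_
    have hvi : v i ∈ dtGroup (F := F) := mem_dtGroup.2 ⟨Pi.mulSingle (j i) (Units.mk0 c hc0), 1, by rw [map_one, mul_one]⟩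
    obtain ⟨ρ, hρ⟩ : ((⟨v i, hvi⟩ * x * ⟨v i, hvi⟩⁻¹ * x⁻¹ : ↥(dtGroup (F := F))) :
        Cfsg.Out ↥(chevD4.group F)) ∈ (tOut (F := F)).range := by
      refine Subgroup.mem_subgroupOf.1 (Subgroup.normalCore_le H ?_)
      exact mul_mem (H.normalCore_normal.conj_mem x hx _) (inv_mem hx)
    simp only [Subgroup.coe_mul, Subgroup.coe_inv, ← hπ] at hρ
    have e1 : v i * tOut π * (v i)⁻¹ * (tOut π)⁻¹ = v i * (v (π i))⁻¹ := by
      rw [← hperm π i]; group
    rw [e1, show v i * (v (π i))⁻¹ = dOut D4.ok (Pi.mulSingle (j i) (Units.mk0 c hc0) *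
      (Pi.mulSingle (j (π i)) (Units.mk0 c hc0))⁻¹) by rw [map_mul, map_inv]] at hρ
    obtain ⟨h1, -, -⟩ := triple_eq_one (π := ρ⁻¹) (σ := (1 : F ≃+* F)) (a := Pi.mulSingle (j i) (Units.mk0 c hc0) *
      (Pi.mulSingle (j (π i)) (Units.mk0 c hc0))⁻¹) (by rw [map_one, mul_one, map_inv, hρ, mul_inv_cancel])
    rw [map_mul, map_inv, mul_inv_eq_one] at h1
    exact (hv h1).symm

end Cfsg.Agent.Chev.Aut
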