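/-
The seven tabulated types satisfy the hypotheses of the automorphism theorem.
-/
import Cfsg.Agent.Lib.Chev.Aut.Main
import Cfsg.Agent.Lib.Chev.All
import Cfsg.Agent.Lib.Chev.AllC

set_option autoImplicit false

namespace Cfsg.Agent.Chev.Aut

open Cfsg.Agent.Chev Cfsg.Lie

theorem exists_ok_aut {D : ChevalleyDatum}
    (hD : D ∈ [chevG2, chevB2, chevD4, chevF4, chevE6, chevE7, chevE8]) :
    ∃ P, Ok D P ∧ P.ckComm = true ∧ ckAut P := by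
  simp only [List.mem_cons, List.not_mem_nil, or_false] at hD
  rcases hD with rfl | rfl | rfl | rfl | rfl | rfl | rfl
  · exact ⟨_, G2.ok, ckComm_G2, ckAut_G2⟩
  · exact ⟨_, B2.ok, ckComm_B2, ckAut_B2⟩
  · exact ⟨_, D4.ok, ckComm_D4, ckAut_D4⟩
  · exact ⟨_, F4.ok, ckComm_F4, ckAut_F4⟩
  · exact ⟨_, E6.ok, ckComm_E6, ckAut_E6⟩
  · exact ⟨_, E7.ok, ckComm_E7, ckAut_E7⟩
  · exact ⟨_, E8.ok, ckComm_E8, ckAut_E8⟩

end Cfsg.Agent.Chev.Aut
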