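/-
The types with one root length used in the sign lemma.
-/
import Cfsg.Agent.Lib.Chev.Aut.GraphAct
import Cfsg.Agent.Lib.Chev.Data.D4
import Cfsg.Agent.Lib.Chev.Data.E6

set_option autoImplicit false
set_option Elab.async false

namespace Cfsg.Agent.Chev.Aut

theorem ckLaced_D4 : ckLaced D4.pk = true := by decide +kernel
theorem ckLaced_E6 : ckLaced E6.pk = true := by decide +kernel

end Cfsg.Agent.Chev.Aut
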