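/-
The outer automorphism groups of the exceptional types.
-/
import Cfsg.Agent.Lib.Chev.Aut.GraphAuts
import Cfsg.Agent.Lib.Chev.Aut.OutCount
import Cfsg.Agent.Lib.Chev.SpecialTwist
import Cfsg.Agent.Lib.Chev.Smith
import Cfsg.Agent.Lib.Chev.All
import Cfsg.Agent.Lib.Chev.AllC

set_option autoImplicit false
set_option linter.unusedSectionVars false
set_option Elab.async false

namespace Cfsg.Agent.Chev.Aut

open Cfsg.Agent.Chev Cfsg.Lie

variable {D : ChevalleyDatum} {P : Pk} {F : Type*} [Field F] [Fintype F]

theorem permList_one : permList (1 : Equiv.Perm (Fin P.rank)) = List.range P.rank := by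
  refine (List.map_congr_left fun k hk => ?_).trans (List.map_id _)
  simp [pv, List.mem_range.1 hk]

theorem pres_one (S : Subgroup (GL D.Idx F)) : Pres (1 : MulAut ↥(D.group F)) S := fun _ => Iff.rfl

/-- No symmetry besides the identity is realised. -/
theorem card_out_one (h : Ok D P) (hC : P.ckComm = true) (hA : ckAut P)
    (hall : ∀ (g : MulAut ↥(D.group F)) (p : Equiv.Perm (Fin P.rank)), Sym P p → GPar h g p → p = 1) :
    Nat.card (Cfsg.Out ↥(D.group F)) = (mhom (A := Fˣ) (nodeM P)).range.index * Nat.card (F ≃+* F) := by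
  rw [card_out h hC hA (m := 1) (fun _ => 1) (fun _ => 1) (fun _ => gPar_one h) (fun _ => pres_one _)
    (fun _ => pres_one _) (fun a b _ => Subsingleton.elim a b) (fun g p hp hg => ⟨0, (hall g p hp hg).symm⟩),
    one_mul]

/-- One further symmetry, realised by `g`. -/
theorem card_out_two (h : Ok D P) (hC : P.ckComm = true) (hA : ckAut P) {g : MulAut ↥(D.group F)}
    {p : Equiv.Perm (Fin P.rank)} (hg : GPar h g p)
    (hU : Pres g (D.posUnipotent F) ∧ Pres g (D.negUnipotent F)) (hp : p ≠ 1)
    (hs : symsP P ⊆ [List.range P.rank, permList p]) :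
    Nat.card (Cfsg.Out ↥(D.group F)) =
      2 * ((mhom (A := Fˣ) (nodeM P)).range.index * Nat.card (F ≃+* F)) := by
  refine card_out h hC hA (m := 2) ![1, g] ![1, p] ?_ ?_ ?_ ?_ fun g' p' hp' _ => ?_
  · intro k; fin_cases k <;> simp <;> first | exact gPar_one h | exact hg
  · intro k; fin_cases k <;> simp <;> first | exact pres_one _ | exact hU.1
  · intro k; fin_cases k <;> simp <;> first | exact pres_one _ | exact hU.2
  · intro a b e
    fin_cases a <;> fin_cases b <;> simp_all
  · have := hs (permList_mem hp')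
    simp only [List.mem_cons, List.not_mem_nil, or_false, ← permList_one, permList_injective.eq_iff] at this
    rcases this with e | e
    · exact ⟨0, e.symm⟩
    · exact ⟨1, e.symm⟩

theorem eq_one_of_syms {p : Equiv.Perm (Fin P.rank)} (hp : Sym P p) (hs : symsP P = [List.range P.rank]) :
    p = 1 := by
  have := permList_mem hp
  rw [hs, List.mem_singleton, ← permList_one] at this
  exact permList_injective this

/-- A symmetry exchanging root lengths forces the characteristic. -/
theorem swap_additive (h : Ok D P) {g : MulAut ↥(D.group F)} {p : Equiv.Perm (Fin P.rank)} (hg : GPar h g p)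
    {i j : Fin P.rank} {k : ℕ} (hk : k ≠ 0) (hA : P.A i (P.sim j) = -(k : ℤ))
    (hA' : P.A (p i) (P.sim (p j)) = -1) (hi : gE D F i (p i) = ringChar F) (hj : gE D F j (p j) = 1) (z : F) :
    (z + 1) ^ k = z ^ k + 1 := by
  haveI := ringChar.charP F
  haveI : Fact (ringChar F).Prime := ⟨CharP.char_is_prime F (ringChar F)⟩
  have hc := (Fact.out : (ringChar F).Prime)
  set c := ringChar F
  have hne : ∀ t : F, t ≠ 0 → g (htS h (P.sim i) t) = htS h (P.sim (p i)) (t ^ c) := by
    intro t ht
    have hneg : ((-1 : F)) ^ c = -1 := by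
      have := map_neg (frobenius F c) (1 : F)
      rwa [map_one, frobenius_def] at this
    have hn : ∀ s : F, g (ntS h (P.sim i) s) = ntS h (P.sim (p i)) (s ^ c) := by
      intro s
      rw [ntS, ntS, map_mul, map_mul, (hg i _).1, (hg i _).2, hi,
        show (-s⁻¹) ^ c = -(s ^ c)⁻¹ by rw [← inv_pow, neg_pow, hneg, neg_one_mul]]
    rw [htS, htS, map_mul, hn, hn, hneg]
  have key : ∀ t : F, t ^ k = t ^ c := by
    intro t
    by_cases ht : t = 0
    · simp [ht, hk, hc.ne_zero]
    · have e := congrArg g (htS_conj h i.isLt (h.sim_lt j.isLt) ht 1)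
      rw [map_mul, map_mul, map_inv, hne t ht, (hg j _).1, (hg j _).1, hj, pow_one, pow_one,
        htS_conj h (p i).isLt (h.sim_lt (p j).isLt) (pow_ne_zero _ ht), hA, hA', mul_one, mul_one] at e
      have e' := xS_inj h (h.sim_lt (p j).isLt) e
      rw [zpow_neg_one, zpow_neg, zpow_natCast, inv_inj] at e'
      exact e'.symm
  rw [key, key, ← frobenius_def, ← frobenius_def, map_add, map_one]

variable {g : Sp}

/-- The node permutation of an exchange of root lengths. -/
def spPerm (h : Ok D P) (hg : g.ckSp P = true) : Equiv.Perm (Fin P.rank) where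
  toFun i := ⟨g.pp i, (h.sp_node hg i.isLt).1⟩
  invFun i := ⟨g.pp i, (h.sp_node hg i.isLt).1⟩
  left_inv i := Fin.ext (h.pp_pp hg i.isLt)
  right_inv i := Fin.ext (h.pp_pp hg i.isLt)

/-- The long nodes of the exchange data are the long nodes. -/
def ckSpL (g : Sp) (P : Pk) : Bool := (List.range P.rank).all fun i => lgB P (P.sim i) == g.lon (P.sim i)

theorem exists_special (h : Ok D P) (hg : g.ckSp P = true) (hC : P.ckComm = true) (hL : ckSpL g P = true)
    (hp : g.p.Prime) [CharP F g.p] :
    ∃ α : MulAut ↥(D.group F), GPar h α (spPerm h hg) ∧ Pres α (D.posUnipotent F) ∧ Pres α (D.negUnipotent F) := by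
  haveI := Fact.mk hp
  obtain ⟨α, hα⟩ := h.spAut_spec (F := F) hg hC hp fun x =>
    (Finite.injective_iff_bijective.1 (frobenius_inj F g.p)).2 x
  have hx : ∀ r < P.nroots, ∀ t : F, α (xS h r t) = xS h (g.rr r) (t ^ g.lam r) := fun r hr t =>
    Subtype.ext (h.eq_xG_iff.1 (hα _ r t hr (h.coe_xG r t)))
  refine ⟨α, fun i t => ?_, pres_of_maps h fun r hr t =>
    ⟨g.rr r, t ^ g.lam r, (h.sp_root hg hr).1, (h.sp_root hg hr).2.2.2.1, hx r hr t⟩⟩
  have hi := h.sim_lt i.isLt
  obtain ⟨hpl, hr⟩ := h.sp_node hg i.isLt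
  simp only [ckSpL, List.all_eq_true, List.mem_range, beq_iff_eq] at hL
  have hl : ∀ m < P.rank, D.isLong (D.simple m) = g.lon (P.sim m) := fun m hm => by
    rw [h.simple_eq hm, isLong_eq h (h.sim_lt hm), hL m hm]
  have hlam : g.lam (P.sim i) = gE D F i (spPerm h hg i) := by
    show g.lam (P.sim i) = gE D F i (g.pp i)
    rw [gE, ChevalleyDatum.graphExp, hl _ i.isLt, hl _ hpl, ← hr, (h.sp_root hg hi).2.2.2.2.1,
      ringChar.eq F g.p, Sp.lam]
    cases g.lon (P.sim i) <;> simp
  have hlam' : g.lam (P.ng (P.sim i)) = g.lam (P.sim i) := by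
    rw [Sp.lam, Sp.lam, (h.sp_root hg hi).2.2.2.2.2]
  rw [hx _ hi, hx _ (Ok.ng_lt hi), (h.sp_root hg hi).2.2.1, hlam', hr, hlam]
  exact ⟨rfl, rfl⟩

theorem index_units (h : Ok D P) {U U' V V' : List (List ℤ)} {d : List ℤ}
    (hck : ckSmith P U U' V V' d = true)
    (hd : ((List.range P.rank).all fun k => Nat.beq (d.getD k 0).natAbs 1) = true) :
    (mhom (A := Fˣ) (nodeM P)).range.index = 1 := by
  rw [index_smith h hck]
  refine List.prod_eq_one fun x hx => ?_
  obtain ⟨k, hk, rfl⟩ := List.mem_map.1 hx
  simp only [List.all_eq_true, nbeq, decide_eq_true_eq] at hd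
  rw [hd k hk, Nat.gcd_one_right]

theorem ckSpL_G2 : ckSpL spG2 G2.pk = true := by decide +kernel
theorem ckSpL_F4 : ckSpL spF4 F4.pk = true := by decide +kernel
theorem ckLg_E6 : ckLg E6.pk [] = true := by decide +kernel

theorem out_E8 : Nat.card (Cfsg.Out ↥(chevE8.group F)) = Nat.card (F ≃+* F) := by
  rw [card_out_one E8.ok ckComm_E8 ckAut_E8 fun g p hp _ => eq_one_of_syms hp (by rw [syms_E8]; rfl),
    index_units E8.ok smith_E8 (by decide +kernel), one_mul]

theorem out_E7 :
    Nat.card (Cfsg.Out ↥(chevE7.group F)) = Nat.gcd 2 (Fintype.card F - 1) * Nat.card (F ≃+* F) := by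
  rw [card_out_one E7.ok ckComm_E7 ckAut_E7 fun g p hp _ => eq_one_of_syms hp (by rw [syms_E7]; rfl),
    index_smith E7.ok smith_E7]
  congr 1
  rw [Nat.gcd_comm]
  simp [E7.pk, List.range_succ]

theorem out_E6 :
    Nat.card (Cfsg.Out ↥(chevE6.group F)) = 2 * Nat.gcd 3 (Fintype.card F - 1) * Nat.card (F ≃+* F) := by
  have hlong := long_false E6.ok ckLg_E6
  have hg := gPar_gAut (F := F) E6.ok ckG_E6 hlong
  rw [card_out_two E6.ok ckComm_E6 ckAut_E6 hg (pres_of_maps E6.ok fun r hr t =>
      ⟨gE6.rr r, (gE6.eps r : F) * t, (E6.ok.groot ckG_E6 hr).1, (E6.ok.groot ckG_E6 hr).2.2.2.2.2.1,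
        Subtype.ext (E6.ok.gT_xG ckG_E6 hr t)⟩)
    (fun e => by
      have := congrArg (fun p => ((p ⟨0, by decide⟩ : Fin E6.pk.rank) : ℕ)) e
      revert this; decide +kernel)
    (by
      rw [syms_E6, show permList (gperm E6.ok ckG_E6) = [5, 1, 4, 3, 2, 0] by decide +kernel]
      exact List.Subset.refl _),
    index_smith E6.ok smith_E6, Nat.mul_assoc]
  congr 2
  rw [Nat.gcd_comm]
  simp [E6.pk, List.range_succ]

theorem out_G2 (p : ℕ) [Fact p.Prime] [CharP F p] (hq : 3 ≤ Fintype.card F) :
    Nat.card (Cfsg.Out ↥(chevG2.group F)) = (if p = 3 then 2 else 1) * Nat.card (F ≃+* F) := by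
  have hperm : permList (spPerm G2.ok ckSp_G2) = [1, 0] := by decide +kernel
  by_cases hp : p = 3
  · subst hp
    haveI : CharP F spG2.p := ‹CharP F 3›
    obtain ⟨α, hα, hU⟩ := exists_special (F := F) G2.ok ckSp_G2 ckComm_G2 ckSpL_G2 Nat.prime_three
    rw [card_out_two G2.ok ckComm_G2 ckAut_G2 hα hU (fun e => by
        have := congrArg permList e
        rw [hperm, permList_one] at this
        revert this; decide +kernel)
      (by rw [syms_G2, hperm]; exact List.Subset.refl _),
      index_units G2.ok smith_G2 (by decide +kernel), one_mul, if_pos rfl]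
  · rw [if_neg hp, card_out_one G2.ok ckComm_G2 ckAut_G2 fun g p' hp' hg => ?_,
      index_units G2.ok smith_G2 (by decide +kernel)]
    have := permList_mem hp'
    rw [syms_G2] at this
    simp only [List.mem_cons, List.not_mem_nil, or_false] at this
    rcases this with e | e
    · exact permList_injective (e.trans (by rw [permList_one]; rfl))
    · exfalso
      rw [← hperm] at e
      obtain rfl := permList_injective e
      have hlo : ∀ m < G2.pk.rank, chevG2.isLong (chevG2.simple m) = spG2.lon (G2.pk.sim m) := fun m hm => by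
        have hL := ckSpL_G2
        simp only [ckSpL, List.all_eq_true, List.mem_range, beq_iff_eq] at hL
        rw [G2.ok.simple_eq hm, isLong_eq G2.ok (G2.ok.sim_lt hm), hL m hm]
      have hz := swap_additive G2.ok hg (i := ⟨0, by decide⟩) (j := ⟨1, by decide⟩) (k := 3) (by norm_num)
        (by decide +kernel) (by decide +kernel)
        (by
          show chevG2.graphExp (ringChar F) 0 1 = _
          rw [ChevalleyDatum.graphExp, hlo 0 (by decide), hlo 1 (by decide), if_pos (by decide +kernel)])
        (by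
          show chevG2.graphExp (ringChar F) 1 0 = _
          rw [ChevalleyDatum.graphExp, hlo 0 (by decide), hlo 1 (by decide), if_neg (by decide +kernel)])
      have h6 : (2 : F) * 3 = 0 := by linear_combination hz 1
      rcases mul_eq_zero.1 h6 with h2 | h3
      · obtain ⟨z, hz0, hz1⟩ : ∃ z : F, z ≠ 0 ∧ z ≠ 1 := by
          by_contra hno
          push Not at hno
          classical
          have : (Finset.univ : Finset F) ⊆ {0, 1} := fun z _ => by
            by_cases hz0 : z = 0
            · simp [hz0]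
            · simp [hno z hz0]
          have h5 := (Finset.card_le_card this).trans Finset.card_le_two
          rw [Finset.card_univ] at h5
          omega
        have e1 : z * (z - 1) = 0 := by linear_combination hz z - (2 * z + z ^ 2) * h2
        exact hz1 (sub_eq_zero.1 ((mul_eq_zero.1 e1).resolve_left hz0))
      · exact hp ((ringChar.eq F p).symm.trans
          (CharP.ringChar_of_prime_eq_zero Nat.prime_three (by exact_mod_cast h3)))

theorem out_F4 (p : ℕ) [Fact p.Prime] [CharP F p] :
    Nat.card (Cfsg.Out ↥(chevF4.group F)) = Nat.gcd 2 p * Nat.card (F ≃+* F) := by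
  have hperm : permList (spPerm F4.ok ckSp_F4) = [3, 2, 1, 0] := by decide +kernel
  by_cases hp : p = 2
  · subst hp
    haveI : CharP F spF4.p := ‹CharP F 2›
    obtain ⟨α, hα, hU⟩ := exists_special (F := F) F4.ok ckSp_F4 ckComm_F4 ckSpL_F4 Nat.prime_two
    rw [card_out_two F4.ok ckComm_F4 ckAut_F4 hα hU (fun e => by
        have := congrArg permList e
        rw [hperm, permList_one] at this
        revert this; decide +kernel)
      (by rw [syms_F4, hperm]; exact List.Subset.refl _),
      index_units F4.ok smith_F4 (by decide +kernel), one_mul, Nat.gcd_self]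
  · have hg1 : Nat.gcd 2 p = 1 :=
      (Nat.coprime_primes Nat.prime_two (Fact.out : p.Prime)).2 (Ne.symm hp)
    rw [hg1, card_out_one F4.ok ckComm_F4 ckAut_F4 fun g p' hp' hg => ?_,
      index_units F4.ok smith_F4 (by decide +kernel)]
    have := permList_mem hp'
    rw [syms_F4] at this
    simp only [List.mem_cons, List.not_mem_nil, or_false] at this
    rcases this with e | e
    · exact permList_injective (e.trans (by rw [permList_one]; rfl))
    · exfalso
      rw [← hperm] at e
      obtain rfl := permList_injective e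
      have hlo : ∀ m < F4.pk.rank, chevF4.isLong (chevF4.simple m) = spF4.lon (F4.pk.sim m) := fun m hm => by
        have hL := ckSpL_F4
        simp only [ckSpL, List.all_eq_true, List.mem_range, beq_iff_eq] at hL
        rw [F4.ok.simple_eq hm, isLong_eq F4.ok (F4.ok.sim_lt hm), hL m hm]
      have hz := swap_additive F4.ok hg (i := ⟨1, by decide⟩) (j := ⟨2, by decide⟩) (k := 2) (by norm_num)
        (by decide +kernel) (by decide +kernel)
        (by
          show chevF4.graphExp (ringChar F) 1 2 = _
          rw [ChevalleyDatum.graphExp, hlo 1 (by decide), hlo 2 (by decide), if_pos (by decide +kernel)])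
        (by
          show chevF4.graphExp (ringChar F) 2 1 = _
          rw [ChevalleyDatum.graphExp, hlo 1 (by decide), hlo 2 (by decide), if_neg (by decide +kernel)])
      have h2 : (2 : F) = 0 := by linear_combination hz 1
      exact hp ((ringChar.eq F p).symm.trans
        (CharP.ringChar_of_prime_eq_zero Nat.prime_two (by exact_mod_cast h2)))

end Cfsg.Agent.Chev.Aut
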