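/-
The generalised Fitting subgroup of a proper parabolic subgroup.
-/
import Cfsg.Agent.Lib.Chev.Parabolic
import Cfsg.Agent.Lib.Chev.Order
import Cfsg.Agent.Lib.Chev.All
import Cfsg.Agent.Lib.Chev.AllC
import Cfsg.Agent.Lib.Components.PTimesQ

set_option autoImplicit false
set_option linter.unusedSectionVars false
set_option Elab.async false

namespace Cfsg.Agent.Chev.Aut

open Cfsg.Agent.Chev Cfsg.Lie

/-- Roots outside a maximal parabolic moved down by a given reflection, and differing by a given root. -/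
def ckFit (P : Pk) : Bool :=
  (List.range P.rank).all fun k => (List.range P.rank).all fun m => Nat.beq k m ||
    ((P.allRoots.any fun r => decide (0 < P.rv r m) && decide (0 < P.A k r)) &&
     (P.allRoots.any fun r => decide (0 < P.rv r m) && Nat.blt 0 (P.len (P.sim k) r)))

theorem ckFit_B2 : ckFit B2.pk = true := by decide +kernel
theorem ckFit_G2 : ckFit G2.pk = true := by decide +kernel
theorem ckFit_D4 : ckFit D4.pk = true := by decide +kernel
theorem ckFit_F4 : ckFit F4.pk = true := by decide +kernel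
theorem ckFit_E6 : ckFit E6.pk = true := by decide +kernel
theorem ckFit_E7 : ckFit E7.pk = true := by decide +kernel
theorem ckFit_E8 : ckFit E8.pk = true := by decide +kernel

theorem exists_ok_fit {D : ChevalleyDatum}
    (hD : D ∈ [chevG2, chevB2, chevD4, chevF4, chevE6, chevE7, chevE8]) :
    ∃ P, Ok D P ∧ P.ckComm = true ∧ ckFit P = true := by
  simp only [List.mem_cons, List.not_mem_nil, or_false] at hD
  rcases hD with rfl | rfl | rfl | rfl | rfl | rfl | rfl
  · exact ⟨_, G2.ok, ckComm_G2, ckFit_G2⟩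
  · exact ⟨_, B2.ok, ckComm_B2, ckFit_B2⟩
  · exact ⟨_, D4.ok, ckComm_D4, ckFit_D4⟩
  · exact ⟨_, F4.ok, ckComm_F4, ckFit_F4⟩
  · exact ⟨_, E6.ok, ckComm_E6, ckFit_E6⟩
  · exact ⟨_, E7.ok, ckComm_E7, ckFit_E7⟩
  · exact ⟨_, E8.ok, ckComm_E8, ckFit_E8⟩

variable {D : ChevalleyDatum} {P : Pk} {F : Type*} [Field F]
variable (h : Ok D P)
include h

theorem prod_filter (q : ℕ → Bool) (f : ℕ → F) : ∀ L : List ℕ,
    (L.map fun r => h.xG r (if q r then f r else 0)).prod = ((L.filter q).map fun r => h.xG r (f r)).prod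
  | [] => rfl
  | a :: L => by
    cases e : q a <;> simp [e, prod_filter q f L, h.xG_zero]

/-- A root element of small height is not in the deeper part of the filtration. -/
theorem uFil_xG (hC : P.ckComm = true) {r : ℕ} (hr : P.isPos r = true) {m : ℤ} (hm : P.ht r < m) {t : F}
    (ht : h.xG r t ∈ h.uFil (F := F) m) : t = 0 := by
  classical
  let q : ℕ → Bool := fun s => decide (m ≤ P.ht s)
  set L := (posL P).filter q with hL
  have hmem : ∀ s, s ∈ L ↔ P.isPos s = true ∧ m ≤ P.ht s := fun s => by simp [hL, q, mem_posL]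
  have hcl : ClosedL P L := by
    intro a ha b hb k hk
    obtain ⟨ha1, ha2⟩ := (hmem a).1 ha
    obtain ⟨hb1, hb2⟩ := (hmem b).1 hb
    refine (hmem _).2 ⟨(h.pos_tgt ha1 hb1 hk).1, ?_⟩
    have := h.ht_pos ha1
    rw [h.ht_tgt (P.isPos_iff.1 ha1).2 (P.isPos_iff.1 hb1).2 hk]
    nlinarith
  obtain ⟨f, hf⟩ := h.exists_prod hC L (posL_sorted.filter _) (fun s hs => ((hmem s).1 hs).1) hcl (h.xG r t)
    (h.genR_mono (fun s hs => (hmem s).2 hs) ht)
  have hsingle : ∀ L' : List ℕ, L'.Nodup →
      (L'.map fun s => h.xG s (if s = r then t else 0)).prod = if r ∈ L' then h.xG r t else 1 := by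
    intro L'
    induction L' with
    | nil => simp
    | cons a L' ih =>
      intro hn
      rw [List.map_cons, List.prod_cons, ih (List.nodup_cons.1 hn).2]
      by_cases e : a = r
      · subst e; simp [(List.nodup_cons.1 hn).1]
      · simp [e, h.xG_zero, Ne.symm e]
  have e1 : ((posL P).map fun s => h.xG s (if q s then f s else 0)).prod =
      ((posL P).map fun s => h.xG s (if s = r then t else 0)).prod := by
    rw [prod_filter h, hsingle _ (posL_sorted.imp fun h' => Nat.ne_of_lt h'), if_pos (mem_posL.2 hr), ← hL, ← hf]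
  have := h.prod_unique _ posL_sorted (fun s hs => mem_posL.1 hs) _ _ e1 r (mem_posL.2 hr)
  rw [if_pos rfl, if_neg (by simp [q]; omega)] at this
  exact this.symm

theorem mem_pos_of_centralizes (hC : P.ckComm = true) (hck : ckFit P = true) (J : Set ℕ)
    (hJ : ∃ i, i < D.rank ∧ i ∉ J) {c : GL D.Idx F} (hc : c ∈ D.parabolicSubgroup F J)
    (hcen : ∀ u ∈ D.unipotentRadical F J, c * u = u * c) : c ∈ D.posUnipotent F := by
  classical
  obtain ⟨m, hm, hmJ⟩ := hJ
  rw [h.rank] at hm
  simp only [ckFit, List.all_eq_true, List.mem_range, Bool.or_eq_true, Bool.and_eq_true, List.any_eq_true,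
    Pk.mem_allRoots, nbeq, decide_eq_true_eq, Nat.blt_eq] at hck
  have hout : ∀ r < P.nroots, 0 < P.rv r m → ∀ t : F, h.xG r t ∈ D.unipotentRadical F J := by
    intro r hr hp t
    rw [h.radical_eq]
    exact h.xG_mem_genR ⟨hr, m, hm, hmJ, hp⟩ t
  have hPN : D.parabolicSubgroup F J ≤ Subgroup.normalizer (D.unipotentRadical F J : Set (GL D.Idx F)) :=
    h.radical_normal hC J
  set C : Subgroup (GL D.Idx F) :=
    D.parabolicSubgroup F J ⊓ Subgroup.centralizer (D.unipotentRadical F J : Set (GL D.Idx F))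
  have hcC : c ∈ C := Subgroup.mem_inf.2 ⟨hc, Subgroup.mem_centralizer_iff.2 fun u hu => (hcen u hu).symm⟩
  have hPC : D.parabolicSubgroup F J ≤ Subgroup.normalizer (C : Set (GL D.Idx F)) := by
    have step : ∀ g ∈ D.parabolicSubgroup F J, ∀ x ∈ C, g * x * g⁻¹ ∈ C := by
      intro g hg x hx
      obtain ⟨hxP, hxc⟩ := Subgroup.mem_inf.1 hx
      refine Subgroup.mem_inf.2 ⟨mul_mem (mul_mem hg hxP) (inv_mem hg), Subgroup.mem_centralizer_iff.2 fun u hu => ?_⟩
      have hu' := (Subgroup.mem_normalizer_iff.1 (inv_mem (hPN hg)) u).1 hu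
      rw [inv_inv] at hu'
      have := Subgroup.mem_centralizer_iff.1 hxc _ hu'
      calc u * (g * x * g⁻¹) = g * ((g⁻¹ * u * g) * x) * g⁻¹ := by group
        _ = g * x * g⁻¹ * u := by rw [this]; group
    intro g hg
    refine Subgroup.mem_normalizer_iff.2 fun x => ⟨step g hg x, fun hx => ?_⟩
    have := step g⁻¹ (inv_mem hg) _ hx
    simpa [mul_assoc] using this
  have hBP : D.borelSubgroup F ≤ D.parabolicSubgroup F J := le_sup_left
  have hPG : D.parabolicSubgroup F J ≤ D.group F := by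
    rw [← h.normalizer_radical hC J]; exact inf_le_right
  -- `c` lies in the Borel subgroup
  have hcB : c ∈ D.borelSubgroup F := by
    by_contra hcB
    set B := h.bnPair (F := F) hC
    set M : Subgroup (D.group F) := (C ⊔ D.borelSubgroup F).subgroupOf (D.group F)
    have hBM : B.B ≤ M := fun x hx =>
      Subgroup.mem_subgroupOf.2 (Subgroup.mem_sup_right (Subgroup.mem_subgroupOf.1 hx))
    have hcM : (⟨c, hPG hc⟩ : D.group F) ∈ M := Subgroup.mem_subgroupOf.2 (Subgroup.mem_sup_left hcC)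
    obtain ⟨k, hkM⟩ : ∃ k : Fin P.rank, h.sG k ∈ M := by
      by_contra hno
      have hMB := Cfsg.Agent.BN.eq_parabolic B hBM
      have e : B.S ∩ (M : Set (D.group F)) = B.S ∩ (B.B : Set (D.group F)) := by
        ext y
        simp only [Set.mem_inter_iff, and_congr_right_iff]
        rintro ⟨k, rfl⟩
        exact iff_of_false (fun hy => hno ⟨k, hy⟩) (Cfsg.Agent.BN.s_not_mem B ⟨h.sG k, ⟨k, rfl⟩⟩)
      rw [e, ← Cfsg.Agent.BN.eq_parabolic B le_rfl] at hMB
      rw [hMB] at hcM
      exact hcB (Subgroup.mem_subgroupOf.1 hcM)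
    have hk1 : h.nG k.val ∈ C ⊔ D.borelSubgroup F := Subgroup.mem_subgroupOf.1 hkM
    have hkP : h.nG k.val ∈ D.parabolicSubgroup F J := sup_le inf_le_left hBP hk1
    rw [← SetLike.mem_coe, Subgroup.coe_mul_of_right_le_normalizer_left _ _ (hBP.trans hPC)] at hk1
    obtain ⟨x, hx, b, hb, hxb⟩ := hk1
    have hkJ : k.val ≠ m := by
      intro e
      have hU : h.xG (P.sim k.val) (1 : F) ∈ D.unipotentRadical F J :=
        hout _ (h.sim_lt k.isLt) (by rw [← e, h.rv_sim k.isLt k.isLt, if_pos rfl]; omega) 1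
      have h2 := (Subgroup.mem_normalizer_iff.1 (hPN hkP) _).1 hU
      refine h.nG_not_conj (F := F) k.isLt (Subgroup.mem_sup_left ?_)
      rw [h.radical_eq] at h2
      exact h.genR_le (fun r hr t => h.xG_mem_pos ((h.out_iff J r).1 hr).1 t) h2
    rcases hck k k.isLt m hm with e | ⟨⟨r, hr, hrm, hA⟩, -⟩
    · exact hkJ e
    have hp : P.isPos r = true := h.pos_of_rv hr hm hrm
    have hrv := h.w_spec k.isLt hr
    have hrm' : 0 < P.rv (P.w k r) m := by
      rw [(hrv.2.2.2.2.2.1 m hm).1, if_neg (fun e => hkJ e.symm), sub_zero]; exact hrm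
    have hp' : P.isPos (P.w k r) = true := h.pos_of_rv hrv.1 hm hrm'
    have hht : P.ht (P.w k r) < P.ht r := by
      have e : P.ht (P.w k r) = P.ht r - P.A k r := by
        unfold Pk.ht
        have hset : (List.range P.rank).toFinset = Finset.range P.rank := by ext; simp
        rw [← List.sum_toFinset _ List.nodup_range, ← List.sum_toFinset _ List.nodup_range, hset,
          Finset.sum_congr rfl fun j hj => (hrv.2.2.2.2.2.1 j (Finset.mem_range.1 hj)).1,
          Finset.sum_sub_distrib, Finset.sum_ite_eq' (Finset.range P.rank) k.val fun _ => P.A k r,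
          if_pos (Finset.mem_range.2 k.isLt)]
      omega
    have hbr : b * h.xG r 1 * b⁻¹ ∈ D.unipotentRadical F J :=
      (Subgroup.mem_normalizer_iff.1 (hPN (hBP hb)) _).1 (hout r hr hrm 1)
    have hconj : h.nG k.val * h.xG r 1 * (h.nG k.val)⁻¹ = b * h.xG r 1 * b⁻¹ := by
      have e := Subgroup.mem_centralizer_iff.1 (Subgroup.mem_inf.1 hx).2 _ hbr
      rw [← hxb]
      calc x * b * h.xG r 1 * (x * b)⁻¹ = x * (b * h.xG r 1 * b⁻¹) * x⁻¹ := by group
        _ = b * h.xG r 1 * b⁻¹ := by rw [← e]; group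
    obtain ⟨v, hv, d, hd, rfl⟩ := h.mem_borel hb
    obtain ⟨a, rfl⟩ := h.mem_diagonal_iff.1 hd
    have hin : v * h.hHom a * h.xG r 1 * (v * h.hHom a)⁻¹ ∈ h.uFil (F := F) (P.ht r) := by
      rw [show v * h.hHom a * h.xG r 1 * (v * h.hHom a)⁻¹ = v * (h.hHom a * h.xG r 1 * (h.hHom a)⁻¹) * v⁻¹ by
        group, h.hHom_xG a hr]
      exact (Subgroup.mem_normalizer_iff.1 (h.pos_normalizes_uFil hC _ hv) _).1 (h.xG_mem_genR ⟨hp, le_rfl⟩ _)
    rw [← hconj, h.nG_xG k.isLt hr, mul_one] at hin
    have h0 := uFil_xG h hC hp' hht hin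
    rcases h.eta_cases k r with e | e <;> simp [e] at h0
  obtain ⟨v, hv, d, hd, rfl⟩ := h.mem_borel hcB
  obtain ⟨a, rfl⟩ := h.mem_diagonal_iff.1 hd
  have hch := h.isChar_hchar (F := F) a
  have hone : ∀ r < P.nroots, 0 < P.rv r m → hchar P a r = 1 := by
    intro r hr hrm
    have hp := h.pos_of_rv hr hm hrm
    have e := hcen _ (hout r hr hrm 1)
    have e1 : v * h.xG r (hchar P a r) * v⁻¹ = h.xG r 1 := by
      have e2 := h.hHom_xG a hr (1 : F)
      rw [mul_one] at e2
      calc v * h.xG r (hchar P a r) * v⁻¹ = (v * h.hHom a * h.xG r 1) * (v * h.hHom a)⁻¹ := by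
            rw [← e2]; group
        _ = h.xG r 1 := by rw [e]; group
    have hk := h.uFil_comm (F := F) hC (P.ht r)
      (Subgroup.commutator_mem_commutator (g₁ := h.xG r (hchar P a r)) (g₂ := v) (h.xG_mem_genR ⟨hp, le_rfl⟩ _) hv)
    rw [commutatorElement_def] at hk
    have e3 : h.xG r (hchar P a r) * v * (h.xG r (hchar P a r))⁻¹ * v⁻¹ = h.xG r (hchar P a r - 1) := by
      have e4 : v * (h.xG r (hchar P a r))⁻¹ * v⁻¹ = (h.xG r 1)⁻¹ := by rw [← e1]; group
      rw [show h.xG r (hchar P a r) * v * (h.xG r (hchar P a r))⁻¹ * v⁻¹ =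
        h.xG r (hchar P a r) * (v * (h.xG r (hchar P a r))⁻¹ * v⁻¹) by group, e4, h.xG_inv, h.xG_add,
        sub_eq_add_neg]
    rw [e3] at hk
    exact sub_eq_zero.1 (uFil_xG h hC hp (by omega) hk)
  have hsim : ∀ i < P.rank, hchar P a (P.sim i) = 1 := by
    intro i hi
    by_cases e : i = m
    · subst e; exact hone _ (h.sim_lt hi) (by rw [h.rv_sim hi hi, if_pos rfl]; omega)
    rcases hck i hi m hm with e' | ⟨-, r, hr, hrm, hl⟩
    · exact absurd e' e
    have hs := h.sim_lt hi
    have hrm' : 0 < P.rv (P.tgt (P.sim i) r 0) m := by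
      rw [h.rv_additive hs hr hl hm, h.rv_sim hi hm, if_neg e]; simpa using hrm
    have hch' := hch.chain (P.sim i) hs r ((h.mem_keys hs).2 ⟨hr, hl⟩) 0 hl
    rw [hone _ (h.tgt_lt hs hr hl) hrm', hone r hr hrm, mul_one, pow_one] at hch'
    exact hch'.symm
  have hall : ∀ r < P.nroots, hchar P a r = 1 := by
    refine h.root_induction (Q := fun r => hchar P a r = 1) hsim fun i hi r hr hQ => ?_
    have e : hchar P a (P.w i r) = hchar P a r / hchar P a (P.sim i) ^ P.A i r := by
      unfold hchar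
      rw [← Finset.prod_zpow, ← Finset.prod_div_distrib]
      refine Finset.prod_congr rfl fun j _ => ?_
      rw [h.A_w hi j.isLt hr, zpow_sub₀ (Units.ne_zero _), mul_comm (P.A i r), zpow_mul]
    rw [e, hQ, hsim i hi, one_zpow, div_one]
  have h1 : h.hHom (F := F) a = 1 := by
    apply Units.ext
    rw [h.coe_hHom, Units.val_one, ← dM_one (D := D), dM, dM]
    congr 1
    funext x
    rcases x with i | s
    · rfl
    · exact hall _ (h.slt s)
  rw [h1, mul_one]
  exact hv

theorem fStar_parabolic [Fintype F] (p : ℕ) [Fact p.Prime] [CharP F p] (hC : P.ckComm = true)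
    (hck : ckFit P = true) (J : Set ℕ) (hJ : ∃ i, i < D.rank ∧ i ∉ J) :
    IsPGroup p ↥(Cfsg.generalizedFittingSubgroup ↥(D.parabolicSubgroup F J)) := by
  classical
  set H := D.parabolicSubgroup F J
  haveI : Finite H := Subtype.finite
  have hU : IsPGroup p (D.posUnipotent F) := by
    obtain ⟨n, -, hn⟩ := FiniteField.card F p
    refine IsPGroup.of_card (n := (n : ℕ) * (posL P).length) ?_
    have := h.card_genR_list (F := F) hC posL_sorted (fun r hr => mem_posL.1 hr) h.posL_closed
    rw [h.genR_posL] at this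
    rw [this, pow_mul, ← hn]
  have hsub : (D.unipotentRadical F J) ≤ D.posUnipotent F := by
    rw [h.radical_eq]
    exact h.genR_le fun r hr t => h.xG_mem_pos ((h.out_iff J r).1 hr).1 t
  set N := (D.unipotentRadical F J).subgroupOf H
  haveI : N.Normal := Subgroup.normal_subgroupOf_iff_le_normalizer
    (hsub.trans (le_trans le_sup_left le_sup_left)) |>.2 (h.radical_normal hC J)
  have hNp : IsPGroup p N := ((hU.to_le hsub).comap_of_injective H.subtype H.subtype_injective)
  have hCp : IsPGroup p (Subgroup.centralizer (N : Set H)) := by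
    refine (hU.comap_of_injective H.subtype H.subtype_injective).to_le fun x hx => ?_
    show (x : GL D.Idx F) ∈ D.posUnipotent F
    refine mem_pos_of_centralizes h hC hck J hJ x.2 fun u hu => ?_
    have hu' : u ∈ H := (hsub.trans (le_trans le_sup_left le_sup_left)) hu
    exact (congrArg Subtype.val (Subgroup.mem_centralizer_iff.1 hx ⟨u, hu'⟩
      (Subgroup.mem_subgroupOf.2 hu))).symm
  haveI hCn : (Subgroup.centralizer (N : Set H)).Normal := inferInstance
  have h1 : N ≤ Cfsg.pCore p H := Components.le_pCore inferInstance hNp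
  have h2 : Subgroup.centralizer (Cfsg.pCore p H : Set H) ≤ Cfsg.pCore p H :=
    (Subgroup.centralizer_le h1).trans (Components.le_pCore hCn hCp)
  rw [Components.fStar_eq_pCore_iff.2 h2]
  exact Components.sSup_isPGroup_of_normal

end Cfsg.Agent.Chev.Aut
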