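/-
Automorphisms of twisted groups of relative rank two: normal form with respect to the root subgroups.
-/
import Cfsg.Agent.Lib.Chev.TwistExtra
import Cfsg.Agent.Lib.Chev.Aut.Basics

set_option autoImplicit false
set_option linter.unusedSectionVars false

namespace Cfsg.Agent.Chev.TwistGrp

open Cfsg.Agent.Chev Cfsg.Lie
open scoped Pointwise

variable {D : ChevalleyDatum} {P : Pk} {h : Ok D P} {F : Type*} [Field F] {T : Twist h F} (G : TwistGrp T)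

/-- The positive unipotent part. -/
def Up : Subgroup (GL D.Idx F) := D.posUnipotent F ⊓ G.G1

/-- The negative unipotent part. -/
def Um : Subgroup (GL D.Idx F) := D.negUnipotent F ⊓ G.G1

/-- An automorphism stabilises a subgroup. -/
def Stab (α : ↥G.G1 ≃* ↥G.G1) (S : Subgroup (GL D.Idx F)) : Prop :=
  ∀ x : ↥G.G1, ((α x : ↥G.G1) : GL D.Idx F) ∈ S ↔ (x : GL D.Idx F) ∈ S

variable {G}

theorem Stab.symm {α : ↥G.G1 ≃* ↥G.G1} {S : Subgroup (GL D.Idx F)} (hS : G.Stab α S) : G.Stab α.symm S :=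
  fun x => by rw [← hS (α.symm x), MulEquiv.apply_symm_apply]

variable (hC : P.ckComm = true)
include hC

theorem Uw_le_Up {o : List ℕ × List ℕ} (ho : o ∈ G.O.orbs) : G.Uw o.2 ≤ G.Up := fun _ hx =>
  ⟨h.negS_le_pos _ hx.1, G.root_mem o ho hx⟩

theorem fixed_of_mem {x : GL D.Idx F} (hx : x ∈ G.G1) : x ∈ T.fixed := G.le_fixed hx

/-- All simple roots of an orbit have images of the same sign. -/
theorem orbit_sign {o : List ℕ × List ℕ} (ho : o ∈ G.O.orbs) {l : List ℕ} (hl : WordOk P l) (hc : T.Comm l)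
    {i : ℕ} (hi : i ∈ o.1) {b : Bool} (hb : P.isPos (wl P l (P.sim i)) = b) :
    ∀ j ∈ o.1, P.isPos (wl P l (P.sim j)) = b := by
  obtain ⟨-, hJ, -, -⟩ := G.O.spec ho
  have hiter : ∀ m, T.π^[m] i < P.rank ∧ P.isPos (wl P l (P.sim (T.π^[m] i))) = b := by
    intro m
    induction m with
    | zero => exact ⟨(hJ i hi).1, by simpa using hb⟩
    | succ m ihm =>
      rw [Function.iterate_succ_apply']
      exact ⟨T.π_lt _ ihm.1, (Twist.Comm.sim T hl hc ihm.1).trans ihm.2⟩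
  intro j hj
  obtain ⟨m, rfl⟩ := (hJ i hi).2.2 j hj
  exact (hiter m).2

/-- If a Weyl element makes every simple root of an orbit negative, it makes the root subgroup negative. -/
theorem orbit_neg {o : List ℕ × List ℕ} (ho : o ∈ G.O.orbs) {l : List ℕ} (hl : WordOk P l)
    (hneg : ∀ j ∈ o.1, P.isPos (wl P l (P.sim j)) = false) {d : GL D.Idx F} (hd : d ∈ D.diagonalSubgroup F)
    {a : GL D.Idx F} (ha : a ∈ G.Uw o.2) : h.nW l * d * a * (h.nW l * d)⁻¹ ∈ D.negUnipotent F := by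
  obtain ⟨hw, -, -, -⟩ := G.O.spec ho
  refine h.uminus_conj hl hd (h.genR_mono (fun r hr => ⟨hr.1, ?_⟩) ha.1)
  exact h.neg_of_simple hl (fun j hj _ => hneg j hj)
    (h.inJ_of_flip hw (P.isPos_iff.1 hr.1).2 (by rw [hr.2, hr.1]; rfl)) hr.1

theorem mem_borel_of_norm (hp : G.Proper) {g : GL D.Idx F} (hg : g ∈ G.G1)
    (hn : ∀ x ∈ G.Up, g * x * g⁻¹ ∈ D.posUnipotent F) : g ∈ D.borelSubgroup F := by
  obtain ⟨l, hl, hc, n, hn1, d, hd, en, b, hb, u, hu, rfl⟩ := G.decomp hC (G.le_fixed hg)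
  have huU : u ∈ G.Up := ⟨h.negS_le_pos _ hu.1, G.Uw_le hC hl hc hu⟩
  have key : ∀ x ∈ G.Up, n * x * n⁻¹ ∈ D.posUnipotent F := by
    intro x hx
    have h1 := hn (u⁻¹ * x * u) (mul_mem (mul_mem (inv_mem huU) hx) huU)
    have h2 := (Subgroup.mem_normalizer_iff.1 (inv_mem (Aut.borel_normalizes h hb.1)) _).1 h1
    convert h2 using 1
    group
  have hpos : ∀ i < P.rank, P.isPos (wl P l (P.sim i)) = true := by
    intro i hi
    by_contra hneg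
    simp only [Bool.not_eq_true] at hneg
    obtain ⟨o, ho, hio⟩ := G.O.cover hi
    obtain ⟨a, ha, hane⟩ := Subgroup.nontrivial_iff_exists_ne_one _ |>.1
      ((Subgroup.nontrivial_iff_ne_bot _).2 (hp.ne_bot o ho))
    have h1 := key a (Uw_le_Up hC ho ha)
    have h2 := orbit_neg hC ho hl (orbit_sign hC ho hl hc hio hneg) hd ha
    rw [← en] at h2
    have h3 := Subgroup.mem_inf.2 ⟨(Subgroup.mem_sup_left h1 : n * a * n⁻¹ ∈ D.borelSubgroup F), h2⟩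
    erw [h.borel_inf_neg, Subgroup.mem_bot, conj_eq_one_iff] at h3
    exact hane h3
  have htriv := h.wl_eq_id l.length l le_rfl hl hpos
  rw [en]
  exact mul_mem (mul_mem hb.1 (Subgroup.mem_sup_right (mul_mem (h.nW_mem_diagonal hl htriv) hd)))
    (Subgroup.mem_sup_left (h.negS_le_pos _ hu.1))

variable {l0 : List ℕ} (hl0 : Aut.Longest P l0) (hn0 : h.nW l0 ∈ G.G1)
include hl0

theorem conj_pos {x : GL D.Idx F} (hx : x ∈ D.posUnipotent F) :
    h.nW l0 * x * (h.nW l0)⁻¹ ∈ D.negUnipotent F ∧ (h.nW l0)⁻¹ * x * h.nW l0 ∈ D.negUnipotent F := by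
  refine ⟨Aut.conj_longest_neg h hl0 hx, ?_⟩
  have hr := Aut.longest_reverse h hl0
  have hd : h.nW (F := F) l0.reverse * h.nW l0 ∈ D.diagonalSubgroup F := by
    rw [← h.nW_append]
    exact h.nW_mem_diagonal (fun x hx => by
        rcases List.mem_append.1 hx with a | a
        exacts [hl0.1 x (List.mem_reverse.1 a), hl0.1 x a])
      (fun r hr => by rw [wl_append, h.wl_reverse l0 hl0.1 r hr])
  have h3 := (Subgroup.mem_normalizer_iff.1 (inv_mem (h.neg_normalized hd)) _).1 (Aut.conj_longest_neg h hr hx)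
  convert h3 using 1
  group

theorem conj_neg {x : GL D.Idx F} (hx : x ∈ D.negUnipotent F) :
    h.nW l0 * x * (h.nW l0)⁻¹ ∈ D.posUnipotent F ∧ (h.nW l0)⁻¹ * x * h.nW l0 ∈ D.posUnipotent F :=
  ⟨Aut.conj_longest_pos h hl0 hx, Aut.conj_longest_inv_pos h hl0 hx⟩

include hn0

theorem swap (x : GL D.Idx F) :
    (h.nW l0 * x * (h.nW l0)⁻¹ ∈ G.Up ↔ x ∈ G.Um) ∧ ((h.nW l0)⁻¹ * x * h.nW l0 ∈ G.Up ↔ x ∈ G.Um) ∧
    (h.nW l0 * x * (h.nW l0)⁻¹ ∈ G.Um ↔ x ∈ G.Up) ∧ ((h.nW l0)⁻¹ * x * h.nW l0 ∈ G.Um ↔ x ∈ G.Up) := by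
  set n := h.nW (F := F) l0
  have e1 : n⁻¹ * (n * x * n⁻¹) * n = x := by group
  have e2 : n * (n⁻¹ * x * n) * n⁻¹ = x := by group
  have m1 : x ∈ G.G1 → n * x * n⁻¹ ∈ G.G1 := fun hx => mul_mem (mul_mem hn0 hx) (inv_mem hn0)
  have m2 : x ∈ G.G1 → n⁻¹ * x * n ∈ G.G1 := fun hx => mul_mem (mul_mem (inv_mem hn0) hx) hn0
  refine ⟨⟨fun hx => ?_, fun hx => ?_⟩, ⟨fun hx => ?_, fun hx => ?_⟩, ⟨fun hx => ?_, fun hx => ?_⟩,
    ⟨fun hx => ?_, fun hx => ?_⟩⟩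
  · exact Subgroup.mem_inf.2 ⟨e1 ▸ (conj_pos hC hl0 hx.1).2, e1 ▸ mul_mem (mul_mem (inv_mem hn0) hx.2) hn0⟩
  · exact ⟨(conj_neg hC hl0 hx.1).1, m1 hx.2⟩
  · exact Subgroup.mem_inf.2 ⟨e2 ▸ (conj_pos hC hl0 hx.1).1, e2 ▸ mul_mem (mul_mem hn0 hx.2) (inv_mem hn0)⟩
  · exact ⟨(conj_neg hC hl0 hx.1).2, m2 hx.2⟩
  · exact Subgroup.mem_inf.2 ⟨e1 ▸ (conj_neg hC hl0 hx.1).2, e1 ▸ mul_mem (mul_mem (inv_mem hn0) hx.2) hn0⟩
  · exact ⟨(conj_pos hC hl0 hx.1).1, m1 hx.2⟩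
  · exact Subgroup.mem_inf.2 ⟨e2 ▸ (conj_neg hC hl0 hx.1).1, e2 ▸ mul_mem (mul_mem hn0 hx.2) (inv_mem hn0)⟩
  · exact ⟨(conj_pos hC hl0 hx.1).2, m2 hx.2⟩

theorem Up_inf_Um {x : GL D.Idx F} (h1 : x ∈ G.Up) (h2 : x ∈ G.Um) : x = 1 := by
  have := Subgroup.mem_inf.2 ⟨(Subgroup.mem_sup_left h1.1 : x ∈ D.borelSubgroup F), h2.1⟩
  erw [h.borel_inf_neg, Subgroup.mem_bot] at this
  exact this

theorem opposite (hp : G.Proper) {g : GL D.Idx F} (hg : g ∈ G.G1)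
    (hdis : ∀ x ∈ G.Up, g⁻¹ * x * g ∈ G.Up → x = 1) :
    ∃ v ∈ G.Up, ∀ x, g⁻¹ * x * g ∈ G.Up ↔ v⁻¹ * x * v ∈ G.Um := by
  obtain ⟨l, hl, hc, n, hn1, d, hd, en, b, hb, u, hu, eg⟩ := G.decomp hC (G.le_fixed hg)
  have huU : u ∈ G.Up := ⟨h.negS_le_pos _ hu.1, G.Uw_le hC hl hc hu⟩
  obtain ⟨v, hv, k, hk, ebv⟩ := borel_fixed hC hb.1 (T.mem_fixed.1 hb.2).2
  have hvU : v ∈ G.Up := ⟨hv.1, G.pos_fixed_le hC hv⟩
  have hkG : k ∈ G.G1 := G.diag_mem hk
  have hbG : b ∈ G.G1 := ebv ▸ mul_mem hvU.2 hkG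
  have hnm : n ∈ D.monomialSubgroup F ⊓ G.G1 := ⟨en ▸ h.nW_mul_mem hl hd, hn1⟩
  obtain ⟨l', hl', hc', d', hd', en'⟩ := G.monomial_comm (inv_mem hnm)
  have hbU : ∀ x, x ∈ G.Up → b * x * b⁻¹ ∈ G.Up := fun x hx =>
    ⟨(Subgroup.mem_normalizer_iff.1 (Aut.borel_normalizes h hb.1) _).1 hx.1,
      G.G1.mul_mem (G.G1.mul_mem hbG hx.2) (G.G1.inv_mem hbG)⟩
  have hneg : ∀ i < P.rank, P.isPos (wl P l' (P.sim i)) = false := by
    intro i hi
    by_contra hne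
    simp only [Bool.not_eq_false] at hne
    obtain ⟨o, ho, hio⟩ := G.O.cover hi
    obtain ⟨a, ha, hane⟩ := Subgroup.nontrivial_iff_exists_ne_one _ |>.1
      ((Subgroup.nontrivial_iff_ne_bot _).2 (hp.ne_bot o ho))
    have haU := Uw_le_Up hC ho ha
    obtain ⟨hw, -, -, -⟩ := G.O.spec ho
    have hall := orbit_sign hC ho hl' hc' hio hne
    have h1 : n⁻¹ * a * n ∈ G.Up := by
      refine ⟨?_, G.G1.mul_mem (G.G1.mul_mem (G.G1.inv_mem hn1) haU.2) hn1⟩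
      rw [show n⁻¹ * a * n = n⁻¹ * a * (n⁻¹)⁻¹ by group, en']
      refine h.uplus_conj hl' hd' (h.genR_mono (fun r hr => ⟨hr.1, ?_⟩) ha.1)
      exact h.pos_of_simple hl' (fun j hj _ => hall j hj)
        (h.inJ_of_flip hw (P.isPos_iff.1 hr.1).2 (by rw [hr.2, hr.1]; rfl)) hr.1
    have h2 := hdis _ (hbU a haU) (by
      rw [eg, show (b * n * u)⁻¹ * (b * a * b⁻¹) * (b * n * u) = u⁻¹ * (n⁻¹ * a * n) * u by group]
      exact mul_mem (mul_mem (inv_mem huU) h1) huU)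
    rw [conj_eq_one_iff] at h2
    exact hane h2
  have hlong : Aut.Longest P l' := ⟨hl', fun r hr =>
    h.neg_of_simple (J := List.range P.rank) hl' (fun j _ hj => hneg j hj)
      (inJ_iff.2 fun q hq hqJ => absurd (List.mem_range.2 hq) hqJ) hr⟩
  -- the conjugate of `U` by `n` is the negative part
  have hswap : ∀ x, n⁻¹ * x * n ∈ G.Up ↔ x ∈ G.Um := by
    intro x
    have conjd : ∀ (e y : GL D.Idx F), e ∈ D.diagonalSubgroup F → y ∈ D.posUnipotent F →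
        e * y * e⁻¹ ∈ D.posUnipotent F := fun e y he hy =>
      (Subgroup.mem_normalizer_iff.1 (h.diagonal_normalizes he) y).1 hy
    have conjdn : ∀ (e y : GL D.Idx F), e ∈ D.diagonalSubgroup F → y ∈ D.negUnipotent F →
        e * y * e⁻¹ ∈ D.negUnipotent F := fun e y he hy =>
      (Subgroup.mem_normalizer_iff.1 (h.neg_normalized he) y).1 hy
    constructor
    · intro hx
      refine ⟨?_, ?_⟩
      · have h1 := conjdn d'⁻¹ _ (inv_mem hd') ((conj_pos (h := h) hC hlong (x := n⁻¹ * x * n) hx.1).2)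
        rw [show x = d'⁻¹ * ((h.nW l')⁻¹ * (n⁻¹ * x * n) * h.nW l') * d'⁻¹⁻¹ by
          rw [show n = (n⁻¹)⁻¹ by group, en']; group]
        exact h1
      · rw [show x = n * (n⁻¹ * x * n) * n⁻¹ by group]
        exact G.G1.mul_mem (G.G1.mul_mem hn1 hx.2) (G.G1.inv_mem hn1)
    · intro hx
      refine ⟨?_, G.G1.mul_mem (G.G1.mul_mem (G.G1.inv_mem hn1) hx.2) hn1⟩
      rw [show n⁻¹ * x * n = n⁻¹ * x * (n⁻¹)⁻¹ by group, en']
      have h1 := (conj_neg (h := h) hC hlong (conjdn d' x hd' hx.1)).1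
      rw [show h.nW l' * d' * x * (h.nW l' * d')⁻¹ = h.nW l' * (d' * x * d'⁻¹) * (h.nW l')⁻¹ by group]
      exact h1
  refine ⟨v, hvU, fun x => ?_⟩
  have e : g⁻¹ * x * g = u⁻¹ * (n⁻¹ * (k⁻¹ * (v⁻¹ * x * v) * k) * n) * u := by rw [eg, ebv]; group
  have hkm : ∀ y, k⁻¹ * y * k ∈ G.Um ↔ y ∈ G.Um := by
    intro y
    have h1 := (Subgroup.mem_normalizer_iff.1 (inv_mem (h.neg_normalized hk.1)) y)
    rw [inv_inv] at h1
    constructor
    · intro hy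
      exact ⟨h1.2 hy.1, by
        rw [show y = k * (k⁻¹ * y * k) * k⁻¹ by group]; exact G.G1.mul_mem (G.G1.mul_mem hkG hy.2) (G.G1.inv_mem hkG)⟩
    · intro hy
      exact ⟨h1.1 hy.1, G.G1.mul_mem (G.G1.mul_mem (G.G1.inv_mem hkG) hy.2) hkG⟩
  rw [e, ← hkm (v⁻¹ * x * v), ← hswap]
  constructor
  · intro hx
    have := mul_mem (mul_mem huU hx) (inv_mem huU)
    convert this using 1
    group
  · intro hx
    exact mul_mem (mul_mem (inv_mem huU) hx) huU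

theorem mem_diag_iff (hp : G.Proper) {g : GL D.Idx F} (hg : g ∈ G.G1) :
    g ∈ D.diagonalSubgroup F ↔
      (∀ x ∈ G.Up, g * x * g⁻¹ ∈ G.Up) ∧ ∀ x ∈ G.Um, g * x * g⁻¹ ∈ G.Um := by
  constructor
  · intro hd
    exact ⟨fun x hx => ⟨(Subgroup.mem_normalizer_iff.1 (h.diagonal_normalizes hd) x).1 hx.1,
      G.G1.mul_mem (G.G1.mul_mem hg hx.2) (G.G1.inv_mem hg)⟩,
      fun x hx => ⟨(Subgroup.mem_normalizer_iff.1 (h.neg_normalized hd) x).1 hx.1,
      G.G1.mul_mem (G.G1.mul_mem hg hx.2) (G.G1.inv_mem hg)⟩⟩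
  · rintro ⟨h1, h2⟩
    obtain ⟨v, hv, d, hd, rfl⟩ := borel_fixed hC (mem_borel_of_norm hC hp hg fun x hx => (h1 x hx).1) (G.fix hg)
    have hvG : v ∈ G.G1 := G.pos_fixed_le hC hv
    have hdG : d ∈ G.G1 := G.diag_mem hd
    set n := h.nW (F := F) l0
    have hw : n * v * n⁻¹ ∈ D.borelSubgroup F := by
      refine mem_borel_of_norm hC hp (mul_mem (mul_mem hn0 hvG) (inv_mem hn0)) fun x hx => ?_
      have hy : n⁻¹ * x * n ∈ G.Um := (swap hC hl0 hn0 x).2.2.2.2 hx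
      have hy' : d⁻¹ * (n⁻¹ * x * n) * d ∈ G.Um := by
        refine ⟨?_, G.G1.mul_mem (G.G1.mul_mem (G.G1.inv_mem hdG) hy.2) hdG⟩
        have := (Subgroup.mem_normalizer_iff.1 (inv_mem (h.neg_normalized hd.1)) _).1 hy.1
        rwa [inv_inv] at this
      have h3 := ((swap hC hl0 hn0 _).1.2 (h2 _ hy')).1
      have h5 : (n * v * n⁻¹) * x * (n * v * n⁻¹)⁻¹ =
          n * (v * d * (d⁻¹ * (n⁻¹ * x * n) * d) * (v * d)⁻¹) * n⁻¹ := by group
      rw [h5]; exact h3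
    have h4 := Subgroup.mem_inf.2 ⟨hw, Aut.conj_longest_neg h hl0 hv.1⟩
    erw [h.borel_inf_neg, Subgroup.mem_bot, conj_eq_one_iff] at h4
    rw [h4, one_mul]
    exact hd.1

omit hn0 hl0
/-- The orbit data used to recognise root subgroups. -/
structure OrbData (G : TwistGrp T) (l0 : List ℕ) (o : List ℕ × List ℕ) (L : List ℕ) : Prop where
  mem : o ∈ G.O.orbs
  neg : ckNeg P o.2 L = true
  lt : ∀ r ∈ L, r < P.nroots
  top : ∀ r ∈ L, wl P l0 r ∈ L.map P.ng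
  flip : ∀ r ∈ L, wl P o.2 r ∈ L.map P.ng

include hl0 hn0

/-- The negative root subgroup of an orbit. -/
def Xm (G : TwistGrp T) (l0 : List ℕ) (o : List ℕ × List ℕ) : Subgroup (GL D.Idx F) :=
  (G.Uw o.2).map (MulAut.conj (h.nW (F := F) l0)⁻¹).toMonoidHom

omit hC hl0 hn0 in
theorem mem_Xm {o : List ℕ × List ℕ} {y : GL D.Idx F} :
    y ∈ Xm G l0 o ↔ h.nW l0 * y * (h.nW l0)⁻¹ ∈ G.Uw o.2 := by
  constructor
  · rintro ⟨x, hx, rfl⟩
    simpa [mul_assoc] using hx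
  · intro hy
    exact ⟨_, hy, by simp [mul_assoc]⟩

theorem Xm_le {o : List ℕ × List ℕ} (ho : o ∈ G.O.orbs) : Xm G l0 o ≤ G.Um := fun y hy =>
  ((swap hC hl0 hn0 y).1).1 (Uw_le_Up hC ho (mem_Xm.1 hy))

theorem conj_orb_le {o : List ℕ × List ℕ} {L : List ℕ} (hd : OrbData G l0 o L) {x : GL D.Idx F}
    (hx : x ∈ G.Uw o.2) : h.nW o.2 * x * (h.nW o.2)⁻¹ ∈ Xm G l0 o := by
  have hwo := (G.O.spec hd.mem).1.1
  have hnG := G.nW_mem o hd.mem
  rw [mem_Xm]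
  refine ⟨?_, G.le_fixed (mul_mem (mul_mem hn0 (mul_mem (mul_mem hnG (G.root_mem o hd.mem hx)) (inv_mem hnG)))
    (inv_mem hn0))⟩
  have hle : h.genR (F := F) (negS P o.2) ≤
      (h.genR (negS P o.2)).comap (MulAut.conj (h.nW (F := F) l0 * h.nW o.2)).toMonoidHom := by
    refine h.genR_le fun r hr t => ?_
    have hrL : r ∈ L := by
      have := hr
      rwa [h.negS_eq hd.neg hd.lt] at this
    obtain ⟨s0, hs0, e⟩ := List.mem_map.1 (hd.flip r hrL)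
    obtain ⟨s, hs, e'⟩ := List.mem_map.1 (hd.top s0 hs0)
    have hrn := hd.lt r hrL
    have hlw : wl P (l0 ++ o.2) r = s := by
      rw [wl_append, ← e, h.wl_ng l0 hl0.1 s0 (hd.lt s0 hs0), ← e', Ok.ng_ng (hd.lt s hs)]
    obtain ⟨ε, -, hx⟩ := h.nW_xG (F := F) (l0 ++ o.2)
      (fun z hz => by rcases List.mem_append.1 hz with a | a; exacts [hl0.1 z a, hwo z a]) r hrn
    rw [Subgroup.mem_comap, MulEquiv.toMonoidHom_eq_coe, MonoidHom.coe_coe, MulAut.conj_apply, ← h.nW_append,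
      (hx t).1, hlw]
    refine h.xG_mem_genR ?_ _
    rw [h.negS_eq hd.neg hd.lt]
    exact hs
  have := hle hx.1
  rw [Subgroup.mem_comap, MulEquiv.toMonoidHom_eq_coe, MonoidHom.coe_coe, MulAut.conj_apply] at this
  rw [show h.nW l0 * (h.nW o.2 * x * (h.nW o.2)⁻¹) * (h.nW l0)⁻¹ =
    h.nW l0 * h.nW o.2 * x * (h.nW l0 * h.nW o.2)⁻¹ by group]
  exact this

theorem exists_conj_orb [Finite F] {o : List ℕ × List ℕ} {L : List ℕ} (hd : OrbData G l0 o L) {y : GL D.Idx F}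
    (hy : y ∈ Xm G l0 o) : ∃ x ∈ G.Uw o.2, y = h.nW o.2 * x * (h.nW o.2)⁻¹ := by
  have hle : (G.Uw o.2).map (MulAut.conj (h.nW (F := F) o.2)).toMonoidHom ≤ Xm G l0 o := by
    rintro _ ⟨x, hx, rfl⟩
    exact conj_orb_le hC hl0 hn0 hd hx
  have e := Subgroup.eq_of_le_of_card_ge hle (le_of_eq (by
    rw [Xm, Subgroup.card_map_of_injective (MulEquiv.injective _),
      Subgroup.card_map_of_injective (MulEquiv.injective _)]))
  rw [← e] at hy
  obtain ⟨x, hx, rfl⟩ := hy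
  exact ⟨x, hx, rfl⟩

omit hl0 hn0 in
/-- The minimal parabolic subgroup of an orbit. -/
def Pm (G : TwistGrp T) (o : List ℕ × List ℕ) : Subgroup (GL D.Idx F) :=
  G.G1 ⊓ (D.borelSubgroup F ⊔ Subgroup.closure ((fun i => h.nG i) '' {i | i ∈ o.1 ∧ i < P.rank}))

omit hl0 hn0 hC in
theorem nW_mem_Pm {o : List ℕ × List ℕ} (ho : o ∈ G.O.orbs) : h.nW o.2 ∈ Pm G o := by
  refine ⟨G.nW_mem o ho, Subgroup.mem_sup_right (list_prod_mem fun x hx => ?_)⟩
  obtain ⟨q, hq, rfl⟩ := List.mem_map.1 hx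
  obtain ⟨hw, -⟩ := G.O.spec ho
  exact Subgroup.subset_closure ⟨q, ⟨hw.2 q hq, hw.1 q hq⟩, rfl⟩

theorem Um_inf_Pm [Finite F] {o : List ℕ × List ℕ} {L : List ℕ} (hd : OrbData G l0 o L) {p : ℕ}
    [Fact p.Prime] (hpm : IsPGroup p G.Um) (hXne : G.Uw o.2 ≠ ⊥) : G.Um ⊓ Pm G o = Xm G l0 o := by
  classical
  set M := G.Um ⊓ Pm G o with hM
  have hle : Xm G l0 o ≤ M := fun y hy => by
    refine ⟨Xm_le hC hl0 hn0 hd.mem hy, ?_⟩
    obtain ⟨x, hx, rfl⟩ := exists_conj_orb hC hl0 hn0 hd hy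
    have hn := nW_mem_Pm (G := G) hd.mem
    refine (Pm G o).mul_mem ((Pm G o).mul_mem hn ⟨G.root_mem o hd.mem hx, ?_⟩) ((Pm G o).inv_mem hn)
    exact Subgroup.mem_sup_left (Subgroup.mem_sup_left (h.negS_le_pos _ hx.1))
  symm
  refine Subgroup.eq_of_le_of_card_ge hle ?_
  have hcell : ∀ y : M, ∃ e : Option (G.Uw o.2), (e = none → (y : GL D.Idx F) ∈ D.borelSubgroup F) ∧
      ∀ u, e = some u → ∃ b ∈ D.borelSubgroup F ⊓ G.G1, ∃ k ∈ D.diagonalSubgroup F ⊓ G.G1,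
        (y : GL D.Idx F) = b * h.nW o.2 * k * (u : GL D.Idx F) := by
    intro y
    rcases G.orbit_cell hC hd.mem y.2.2.2 y.2.2.1 with hB | ⟨b, hb, k, hk, u, hu, e⟩
    · exact ⟨none, fun _ => hB.1, by simp⟩
    · refine ⟨some ⟨u, hu⟩, by simp, fun u' e' => ?_⟩
      obtain rfl : (⟨u, hu⟩ : ↥(G.Uw o.2)) = u' := Option.some.inj e'
      exact ⟨b, hb, k, hk, e⟩
  choose f hf0 hf1 using hcell
  have hinj : Function.Injective f := by
    intro y y' e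
    have key : (y' : GL D.Idx F) * (y : GL D.Idx F)⁻¹ ∈ D.borelSubgroup F := by
      cases e0 : f y with
      | none => exact mul_mem (hf0 y' (e ▸ e0)) (inv_mem (hf0 y e0))
      | some u =>
        obtain ⟨b, hb, k, hk, ey⟩ := hf1 y u e0
        obtain ⟨b', hb', k', hk', ey'⟩ := hf1 y' u (e ▸ e0)
        rw [ey, ey', show b' * h.nW o.2 * k' * (u : GL D.Idx F) * (b * h.nW o.2 * k * (u : GL D.Idx F))⁻¹ =
          b' * (h.nW o.2 * (k' * k⁻¹) * (h.nW o.2)⁻¹) * b⁻¹ by group]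
        refine mul_mem (mul_mem hb'.1 (Subgroup.mem_sup_right ?_)) (inv_mem hb.1)
        exact (Subgroup.mem_normalizer_iff.1 (h.nW_normalizer _ (G.O.spec hd.mem).1.1) _).1
          (mul_mem hk'.1 (inv_mem hk.1))
    have h2 := Subgroup.mem_inf.2 ⟨key, mul_mem y'.2.1.1 (inv_mem y.2.1.1)⟩
    erw [h.borel_inf_neg, Subgroup.mem_bot, mul_inv_eq_one] at h2
    exact Subtype.ext h2.symm
  have hcM : Nat.card M ≤ Nat.card (G.Uw o.2) + 1 := by
    have := Nat.card_le_card_of_injective f hinj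
    rwa [Finite.card_option] at this
  have hcX : Nat.card (Xm G l0 o) = Nat.card (G.Uw o.2) :=
    Subgroup.card_map_of_injective (MulEquiv.injective _)
  obtain ⟨a, ha⟩ := IsPGroup.iff_card.1 (hpm.to_le (inf_le_left : M ≤ G.Um))
  obtain ⟨b, hb⟩ := IsPGroup.iff_card.1 (hpm.to_le (Xm_le hC hl0 hn0 hd.mem))
  have h2 : 1 < Nat.card (G.Uw o.2) := Finite.one_lt_card_iff_nontrivial.2 ((Subgroup.nontrivial_iff_ne_bot _).2 hXne)
  have e1 : Nat.card ↥M = p ^ a := ha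
  have e2 : Nat.card ↥(G.Uw o.2) = p ^ b := hcX.symm.trans hb
  rw [hcX, e2]
  rw [e1, e2] at hcM
  rw [e2] at h2
  change Nat.card ↥M ≤ _
  rw [e1]
  have hp2 := (Fact.out : p.Prime).two_le
  by_contra hlt
  push Not at hlt
  have hba : b < a := (Nat.pow_lt_pow_iff_right hp2).1 hlt
  have : p ^ (b + 1) ≤ p ^ a := Nat.pow_le_pow_right (by omega) hba
  rw [pow_succ] at this
  have := Nat.mul_le_mul_left (p ^ b) hp2
  omega

/-- Two orbits of different size, and a longest element. -/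
structure Rank2 (G : TwistGrp T) (l0 : List ℕ) (oa ob : List ℕ × List ℕ) (La Lb : List ℕ) (p : ℕ) : Prop where
  proper : G.Proper
  long : Aut.Longest P l0
  n0 : h.nW (F := F) l0 ∈ G.G1
  orbs : G.O.orbs = [oa, ob]
  da : OrbData G l0 oa La
  db : OrbData G l0 ob Lb
  sep : ∀ r ∈ Lb, P.isPos (wl P oa.2 r) = true
  card : Nat.card (G.Uw oa.2) < Nat.card (G.Uw ob.2)
  sylow : ∃ S : Sylow p ↥G.G1, (S : Subgroup ↥G.G1) = G.Up.subgroupOf G.G1

omit hl0 hn0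
variable {oa ob : List ℕ × List ℕ} {La Lb : List ℕ} {p : ℕ} [Fact p.Prime] [Finite F]

theorem Rank2.isPGroup_Um (R : Rank2 G l0 oa ob La Lb p) : IsPGroup p G.Um := by
  obtain ⟨S, hS⟩ := R.sylow
  have h1 : IsPGroup p G.Up := by
    have := S.isPGroup'
    rw [hS] at this
    exact this.of_equiv (Subgroup.subgroupOfEquivOfLe inf_le_right)
  have e : G.Um = G.Up.map (MulAut.conj (h.nW (F := F) l0)).toMonoidHom := by
    ext y
    constructor
    · intro hy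
      exact ⟨_, ((swap hC R.long R.n0 y).2.1).2 hy, by simp [mul_assoc]⟩
    · rintro ⟨x, hx, rfl⟩
      simpa [mul_assoc] using ((swap hC R.long R.n0 x).2.2.1).2 hx
  rw [e]
  exact h1.map _

theorem Rank2.stab_Xm (R : Rank2 G l0 oa ob La Lb p) {α : ↥G.G1 ≃* ↥G.G1} (hU : G.Stab α G.Up)
    (hV : G.Stab α G.Um) :
    (∀ x : ↥G.G1, (x : GL D.Idx F) ∈ Xm G l0 oa → ((α x : ↥G.G1) : GL D.Idx F) ∈ Xm G l0 oa) ∧
      ∀ x : ↥G.G1, (x : GL D.Idx F) ∈ Xm G l0 ob → ((α x : ↥G.G1) : GL D.Idx F) ∈ Xm G l0 ob := by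
  classical
  have hp := R.proper
  have hpm := R.isPGroup_Um hC
  have hna := hp.ne_bot oa R.da.mem
  have hnb := hp.ne_bot ob R.db.mem
  have ea := Um_inf_Pm hC R.long R.n0 R.da hpm hna
  have eb := Um_inf_Pm hC R.long R.n0 R.db hpm hnb
  have hB : ∀ x : ↥G.G1, (x : GL D.Idx F) ∈ D.borelSubgroup F ↔ ((α x : ↥G.G1) : GL D.Idx F) ∈ D.borelSubgroup F := by
    have one : ∀ (β : ↥G.G1 ≃* ↥G.G1), G.Stab β G.Up → ∀ x : ↥G.G1, (x : GL D.Idx F) ∈ D.borelSubgroup F →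
        ((β x : ↥G.G1) : GL D.Idx F) ∈ D.borelSubgroup F := by
      intro β hβ x hx
      refine mem_borel_of_norm hC hp (β x).2 fun y hy => ?_
      have hy' : ((β.symm ⟨y, hy.2⟩ : ↥G.G1) : GL D.Idx F) ∈ G.Up := (hβ.symm ⟨y, hy.2⟩).2 hy
      have h1 : ((x * β.symm ⟨y, hy.2⟩ * x⁻¹ : ↥G.G1) : GL D.Idx F) ∈ G.Up :=
        ⟨(Subgroup.mem_normalizer_iff.1 (Aut.borel_normalizes h hx) _).1 hy'.1, (x * β.symm ⟨y, hy.2⟩ * x⁻¹).2⟩
      have h2 := ((hβ _).2 h1).1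
      simpa using h2
    exact fun x => ⟨one α hU x, fun hx => by simpa using one α.symm hU.symm _ hx⟩
  let Bsg : Subgroup ↥G.G1 := (D.borelSubgroup F ⊓ G.G1).subgroupOf G.G1
  let bn := G.bnPair hC hp
  have hBn : bn.B = Bsg := rfl
  -- the image of a minimal parabolic subgroup contains one of the negative root subgroups
  have hmain : ∀ o, o ∈ G.O.orbs → ∀ L, OrbData G l0 o L → G.Um ⊓ Pm G o = Xm G l0 o →
      ∃ o' ∈ G.O.orbs, ∀ y : ↥G.G1, (y : GL D.Idx F) ∈ Xm G l0 o' →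
        ((α.symm y : ↥G.G1) : GL D.Idx F) ∈ Xm G l0 o := by
    intro o ho L hd hoX
    let M : Subgroup ↥G.G1 := ((Pm G o).subgroupOf G.G1).map α.toMonoidHom
    have hBM : bn.B ≤ M := fun x hx => by
      refine ⟨α.symm x, ⟨(α.symm x).2, Subgroup.mem_sup_left ?_⟩, by simp⟩
      exact (hB (α.symm x)).2 (by simpa using (Subgroup.mem_subgroupOf.1 hx).1)
    have hne : (bn.S ∩ (M : Set ↥G.G1)).Nonempty := by
      rw [Set.nonempty_iff_ne_empty]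
      intro he
      have hMB : M ≤ bn.B := by
        conv_lhs => rw [BN.eq_parabolic bn hBM]
        rw [he]
        exact sup_le le_rfl ((Subgroup.closure_le _).2 (Set.empty_subset _))
      have h1 : (α ⟨h.nW o.2, G.nW_mem o ho⟩ : ↥G.G1) ∈ bn.B :=
        hMB ⟨_, Subgroup.mem_subgroupOf.2 (nW_mem_Pm (G := G) ho), rfl⟩
      have h2 := (hB _).2 (Subgroup.mem_subgroupOf.1 h1).1
      obtain ⟨a, ha, hane⟩ := Subgroup.nontrivial_iff_exists_ne_one _ |>.1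
        ((Subgroup.nontrivial_iff_ne_bot _).2 (hp.ne_bot o ho))
      have h3 : h.nW o.2 * a * (h.nW o.2)⁻¹ ∈ D.borelSubgroup F :=
        mul_mem (mul_mem h2 (Subgroup.mem_sup_left (h.negS_le_pos _ ha.1))) (inv_mem h2)
      have h4 := Subgroup.mem_inf.2 ⟨h3, (Xm_le hC R.long R.n0 ho (conj_orb_le hC R.long R.n0 hd ha)).1⟩
      erw [h.borel_inf_neg, Subgroup.mem_bot, conj_eq_one_iff] at h4
      exact hane h4
    obtain ⟨s, ⟨o', ho', es⟩, hsM⟩ := hne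
    refine ⟨o', ho', fun y hy => ?_⟩
    have hd' : ∃ L', OrbData G l0 o' L' := by
      have := ho'
      rw [R.orbs] at this
      simp only [List.mem_cons, List.not_mem_nil, or_false] at this
      rcases this with rfl | rfl
      exacts [⟨La, R.da⟩, ⟨Lb, R.db⟩]
    obtain ⟨L', hd'⟩ := hd'
    obtain ⟨x, hx, ey⟩ := exists_conj_orb hC R.long R.n0 hd' hy
    have hxG : x ∈ G.G1 := G.root_mem o' ho' hx
    have hxM : (⟨x, hxG⟩ : ↥G.G1) ∈ M :=
      hBM (Subgroup.mem_subgroupOf.2 ⟨Subgroup.mem_sup_left (h.negS_le_pos _ hx.1), hxG⟩)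
    have hyM : y ∈ M := by
      have e : y = s * ⟨x, hxG⟩ * s⁻¹ := Subtype.ext (by simp [ey, es])
      rw [e]
      exact mul_mem (mul_mem hsM hxM) (inv_mem hsM)
    obtain ⟨z, hz, ez⟩ := hyM
    have : α.symm y = z := by rw [← ez]; exact α.symm_apply_apply z
    rw [this, ← hoX]
    refine ⟨?_, Subgroup.mem_subgroupOf.1 hz⟩
    rw [← this]
    exact (hV.symm y).2 (Xm_le hC R.long R.n0 ho' hy)
  have hcards : ∀ o, Nat.card (Xm G l0 o) = Nat.card (G.Uw o.2) :=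
    fun o => Subgroup.card_map_of_injective (MulEquiv.injective _)
  -- smaller orbit
  have hsub : ∀ o o', (∀ y : ↥G.G1, (y : GL D.Idx F) ∈ Xm G l0 o' → ((α.symm y : ↥G.G1) : GL D.Idx F) ∈ Xm G l0 o) →
      o' ∈ G.O.orbs → Nat.card (G.Uw o'.2) ≤ Nat.card (G.Uw o.2) ∧
      (Nat.card (G.Uw o'.2) = Nat.card (G.Uw o.2) →
        ∀ x : ↥G.G1, (x : GL D.Idx F) ∈ Xm G l0 o → ((α x : ↥G.G1) : GL D.Idx F) ∈ Xm G l0 o') := by
    intro o o' hoo ho'
    have hle' : Xm G l0 o' ≤ G.G1 := fun y hy => (Xm_le hC R.long R.n0 ho' hy).2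
    let f : Xm G l0 o' → Xm G l0 o := fun y => ⟨_, hoo ⟨y, hle' y.2⟩ y.2⟩
    have hf : Function.Injective f := fun y y' e => Subtype.ext (congrArg Subtype.val
      (α.symm.injective (Subtype.ext (congrArg Subtype.val e : _))) : _)
    refine ⟨by rw [← hcards, ← hcards]; exact Nat.card_le_card_of_injective f hf, fun hc x hx => ?_⟩
    have hbij : Function.Bijective f := (Nat.bijective_iff_injective_and_card f).2 ⟨hf, by rw [hcards, hcards, hc]⟩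
    obtain ⟨y, hy⟩ := hbij.2 ⟨_, hx⟩
    have : α.symm ⟨y, hle' y.2⟩ = x := Subtype.ext (congrArg Subtype.val hy : _)
    rw [← this, MulEquiv.apply_symm_apply]
    exact y.2
  obtain ⟨o1, ho1, h1⟩ := hmain oa R.da.mem La R.da ea
  obtain ⟨o2, ho2, h2⟩ := hmain ob R.db.mem Lb R.db eb
  have hca := hsub oa o1 h1 ho1
  have h1a : o1 = oa := by
    have := ho1
    rw [R.orbs] at this
    simp only [List.mem_cons, List.not_mem_nil, or_false] at this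
    rcases this with e | e
    · exact e
    · exfalso
      subst e
      have := R.card
      have := hca.1
      omega
  rw [h1a] at h1 hca
  have ra := hca.2 rfl
  have h2b : o2 = ob := by
    have := ho2
    rw [R.orbs] at this
    simp only [List.mem_cons, List.not_mem_nil, or_false] at this
    rcases this with e | e
    · exfalso
      rw [e] at h2
      obtain ⟨a, ha, hane⟩ := Subgroup.nontrivial_iff_exists_ne_one _ |>.1
        ((Subgroup.nontrivial_iff_ne_bot _).2 hna)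
      set x := (h.nW (F := F) l0)⁻¹ * a * h.nW l0 with hx
      have hxm : x ∈ Xm G l0 oa := mem_Xm.2 (by
        rw [hx, show h.nW l0 * ((h.nW l0)⁻¹ * a * h.nW l0) * (h.nW l0)⁻¹ = a by group]; exact ha)
      have hxG : x ∈ G.G1 := (Xm_le hC R.long R.n0 R.da.mem hxm).2
      have h3 : x ∈ Xm G l0 ob := by
        have := h2 (α ⟨x, hxG⟩) (ra ⟨x, hxG⟩ hxm)
        rwa [MulEquiv.symm_apply_apply] at this
      have haB : a ∈ G.Uw ob.2 := by
        have := mem_Xm.1 h3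
        rwa [hx, show h.nW l0 * ((h.nW l0)⁻¹ * a * h.nW l0) * (h.nW l0)⁻¹ = a by group] at this
      have hwa := (G.O.spec R.da.mem).1.1
      have h4 : h.nW oa.2 * a * (h.nW oa.2)⁻¹ ∈ D.posUnipotent F := by
        have hm : ∀ r, negS P ob.2 r → r ∈ Lb := fun r hr => by
          rw [h.negS_eq R.db.neg R.db.lt] at hr
          exact hr
        have := h.uplus_conj (F := F) hwa (one_mem _) (u := a)
          (h.genR_mono (fun r hr => ⟨hr.1, R.sep r (hm r hr)⟩) haB.1)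
        rwa [mul_one (h.nW oa.2)] at this
      have h5 := Subgroup.mem_inf.2 ⟨(Subgroup.mem_sup_left h4 : h.nW oa.2 * a * (h.nW oa.2)⁻¹ ∈ D.borelSubgroup F),
        (Xm_le hC R.long R.n0 R.da.mem (conj_orb_le hC R.long R.n0 R.da ha)).1⟩
      erw [h.borel_inf_neg, Subgroup.mem_bot, conj_eq_one_iff] at h5
      exact hane h5
    · exact e
  rw [h2b] at h2
  exact ⟨ra, (hsub _ _ h2 R.db.mem).2 rfl⟩

/-- Every automorphism is, up to an inner one, compatible with the root subgroups and the torus. -/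
theorem Rank2.normalise (R : Rank2 G l0 oa ob La Lb p) (α : ↥G.G1 ≃* ↥G.G1) :
    ∃ g : ↥G.G1, ∀ x : ↥G.G1,
      ((x : GL D.Idx F) ∈ G.Uw oa.2 → (((MulAut.conj g) (α x) : ↥G.G1) : GL D.Idx F) ∈ G.Uw oa.2) ∧
      ((x : GL D.Idx F) ∈ G.Uw ob.2 → (((MulAut.conj g) (α x) : ↥G.G1) : GL D.Idx F) ∈ G.Uw ob.2) ∧
      ((x : GL D.Idx F) ∈ Xm G l0 oa → (((MulAut.conj g) (α x) : ↥G.G1) : GL D.Idx F) ∈ Xm G l0 oa) ∧
      ((x : GL D.Idx F) ∈ Xm G l0 ob → (((MulAut.conj g) (α x) : ↥G.G1) : GL D.Idx F) ∈ Xm G l0 ob) ∧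
      ((x : GL D.Idx F) ∈ D.diagonalSubgroup F →
        (((MulAut.conj g) (α x) : ↥G.G1) : GL D.Idx F) ∈ D.diagonalSubgroup F) := by
  classical
  have : Finite ↥G.G1 := inferInstance
  have hp := R.proper
  obtain ⟨S, hS⟩ := R.sylow
  have hmS : ∀ x : ↥G.G1, x ∈ (S : Subgroup ↥G.G1) ↔ (x : GL D.Idx F) ∈ G.Up := fun x => by
    rw [hS, Subgroup.mem_subgroupOf]
  obtain ⟨g0, hg0⟩ := MulAction.exists_smul_eq ↥G.G1 S ((α : MulAut ↥G.G1) • S)
  set α₀ : MulAut ↥G.G1 := (MulAut.conj g0)⁻¹ * α with hα₀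
  have hU0 : G.Stab α₀ G.Up := by
    intro x
    rw [← hmS, ← hmS]
    have hsub : MulAut.conj g0 • (S : Subgroup ↥G.G1) = (α : MulAut ↥G.G1) • (S : Subgroup ↥G.G1) :=
      congrArg Sylow.toSubgroup hg0
    rw [← Subgroup.smul_mem_pointwise_smul_iff (a := (α : MulAut ↥G.G1)) (x := x), ← hsub,
      Subgroup.mem_pointwise_smul_iff_inv_smul_mem]
    rfl
  set n0 : ↥G.G1 := ⟨h.nW l0, R.n0⟩ with hn0
  set m := α₀ n0 with hm
  have sw := swap hC R.long R.n0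
  have hUm : ∀ x : ↥G.G1, ((α₀ x : ↥G.G1) : GL D.Idx F) ∈
      G.Up.map (MulAut.conj (m : GL D.Idx F)).toMonoidHom ↔ (x : GL D.Idx F) ∈ G.Um := by
    intro x
    rw [Subgroup.mem_map_equiv, MulAut.conj_symm_apply, ← (sw x).2.1]
    have := hU0 (n0⁻¹ * x * n0)
    simpa [hm, map_mul, map_inv] using this
  obtain ⟨v, hv, hmv⟩ := opposite hC R.long R.n0 hp m.2 (fun x hx hx' => by
    have h1 : ((α₀.symm ⟨x, hx.2⟩ : ↥G.G1) : GL D.Idx F) ∈ G.Up := (hU0.symm ⟨x, hx.2⟩).2 hx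
    have h2 : ((α₀.symm ⟨x, hx.2⟩ : ↥G.G1) : GL D.Idx F) ∈ G.Um := by
      refine (hUm _).1 ?_
      rw [MulEquiv.apply_symm_apply, Subgroup.mem_map_equiv, MulAut.conj_symm_apply]
      exact hx'
    have h3 : α₀.symm ⟨x, hx.2⟩ = 1 := Subtype.ext (Up_inf_Um hC R.long R.n0 h1 h2)
    rw [MulEquiv.map_eq_one_iff] at h3
    exact congrArg Subtype.val h3)
  set vv : ↥G.G1 := ⟨v, hv.2⟩
  set β : MulAut ↥G.G1 := MulAut.conj vv⁻¹ * α₀ with hβ
  have hβx : ∀ x, ((β x : ↥G.G1) : GL D.Idx F) = v⁻¹ * (α₀ x : ↥G.G1) * v := fun x => by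
    simp [hβ, vv]
  have hV1 : G.Stab β G.Um := fun x => by
    rw [hβx, ← hmv, ← hUm]
    rw [Subgroup.mem_map_equiv, MulAut.conj_symm_apply]
  have hU1 : G.Stab β G.Up := fun x => by
    rw [hβx, ← hU0 x]
    constructor
    · intro hx
      have := mul_mem (mul_mem hv hx) (inv_mem hv)
      convert this using 1
      group
    · intro hx
      exact mul_mem (mul_mem (inv_mem hv) hx) hv
  -- positive root subgroups through the longest element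
  set γ : MulAut ↥G.G1 := (MulAut.conj n0)⁻¹ * β * MulAut.conj n0 with hγ
  have hγx : ∀ x, ((γ x : ↥G.G1) : GL D.Idx F) = (h.nW (F := F) l0)⁻¹ * ((β (n0 * x * n0⁻¹) : ↥G.G1) : GL D.Idx F) * h.nW l0 :=
    fun x => by simp [hγ, n0, MulAut.inv_def]
  have hγU : G.Stab γ G.Up := fun x => by
    rw [hγx, (sw _).2.1, hV1]
    exact (sw (x : GL D.Idx F)).2.2.1
  have hγV : G.Stab γ G.Um := fun x => by
    rw [hγx, (sw _).2.2.2, hU1]
    exact (sw (x : GL D.Idx F)).1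
  obtain ⟨b1, b2⟩ := R.stab_Xm hC hU1 hV1
  obtain ⟨c1, c2⟩ := R.stab_Xm hC hγU hγV
  have hpos : ∀ o, (∀ x : ↥G.G1, (x : GL D.Idx F) ∈ Xm G l0 o → ((γ x : ↥G.G1) : GL D.Idx F) ∈ Xm G l0 o) →
      ∀ x : ↥G.G1, (x : GL D.Idx F) ∈ G.Uw o.2 → ((β x : ↥G.G1) : GL D.Idx F) ∈ G.Uw o.2 := by
    intro o ho x hx
    have h1 := ho (n0⁻¹ * x * n0) (mem_Xm.2 (by simpa [n0, mul_assoc] using hx))
    rw [hγx, mem_Xm] at h1
    simpa [n0, mul_assoc] using h1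
  refine ⟨vv⁻¹ * g0⁻¹, fun x => ?_⟩
  have e : (MulAut.conj (vv⁻¹ * g0⁻¹)) (α x) = β x := by simp [hβ, hα₀, mul_assoc]
  rw [e]
  refine ⟨hpos oa c1 x, hpos ob c2 x, b1 x, b2 x, fun hx => ?_⟩
  rw [mem_diag_iff hC R.long R.n0 hp (β x).2]
  obtain ⟨e1, e2⟩ := (mem_diag_iff hC R.long R.n0 hp x.2).1 hx
  refine ⟨fun y hy => ?_, fun y hy => ?_⟩
  · have h1 := (hU1 (x * β.symm ⟨y, hy.2⟩ * x⁻¹)).2 (e1 _ ((hU1.symm ⟨y, hy.2⟩).2 hy))
    simpa using h1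
  · have h1 := (hV1 (x * β.symm ⟨y, hy.2⟩ * x⁻¹)).2 (e2 _ ((hV1.symm ⟨y, hy.2⟩).2 hy))
    simpa using h1

end Cfsg.Agent.Chev.TwistGrp
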