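/-
Automorphisms of ³D₄(q): every one is inner times a field automorphism.
-/
import Cfsg.Agent.Lib.Chev.Aut.TwAut
import Cfsg.Agent.Lib.Chev.TwD4Thm
import Cfsg.Agent.Lib.Chev.FieldAut
import Cfsg.Agent.Lib.AutPSL.Counts
import Cfsg.Prelude.Def_KGroupFacts

set_option autoImplicit false
set_option linter.unusedSectionVars false
set_option maxHeartbeats 800000

namespace Cfsg.Agent.Chev.TwD4

open Cfsg.Lie
open scoped Matrix

/-- A longest word commuting with triality. -/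
def l0 : List ℕ := [1, 0, 2, 3, 1, 0, 2, 3, 1, 0, 2, 3]

theorem autTables :
    (l0.all fun i => Nat.blt i D4.pk.rank) = true ∧
    ((posL D4.pk).all fun r => !D4.pk.isPos (wl D4.pk l0 r)) = true ∧
    [14, 18, 13, 12].map (wl D4.pk l0) = [9, 5, 10, 11] ∧
    [9, 5, 10, 11].map (wl D4.pk l0) = [14, 18, 13, 12] ∧
    wl D4.pk [1] 14 = 9 ∧ [18, 13, 12].map (wl D4.pk [0, 2, 3]) = [5, 10, 11] ∧
    [18, 13, 12].map (fun r => D4.pk.isPos (wl D4.pk [1] r)) = [true, true, true] ∧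
    [14, 18, 13, 12].map (fun r => (List.range 4).map fun i => D4.pk.A i r) =
      [[-1, 2, -1, -1], [2, -1, 0, 0], [0, -1, 2, 0], [0, -1, 0, 2]] ∧
    ([5, 9, 10, 11, 12, 13, 14, 18].all fun r => Nat.blt r D4.pk.nroots) = true ∧
    ([12, 13, 14, 18].all fun r => D4.pk.isPos r) = true := by decide +kernel

theorem l0_long : Aut.Longest D4.pk l0 := by
  obtain ⟨h1, h2, -⟩ := autTables
  refine ⟨fun i hi => by simpa using List.all_eq_true.1 h1 i hi, fun r hr => ?_⟩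
  simpa using List.all_eq_true.1 h2 r (mem_posL.2 hr)

/-- A product of two root-element conjugations reaching a prescribed set of roots. -/
theorem conj_genR {D : ChevalleyDatum} {P : Pk} {F : Type*} [Field F] (h : Ok D P) {l : List ℕ}
    (hl : WordOk P l) {S S' : ℕ → Prop} (hS : ∀ r, S r → r < P.nroots ∧ S' (wl P l r)) {x : GL D.Idx F}
    (hx : x ∈ h.genR S) : h.nW l * x * (h.nW l)⁻¹ ∈ h.genR S' := by
  have hle : h.genR (F := F) S ≤ (h.genR S').comap (MulAut.conj (h.nW l)).toMonoidHom := by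
    refine h.genR_le fun r hr t => ?_
    obtain ⟨σ, -, hσ⟩ := h.nW_xG (F := F) l hl r (hS r hr).1
    rw [Subgroup.mem_comap, MulEquiv.toMonoidHom_eq_coe, MonoidHom.coe_coe, MulAut.conj_apply, (hσ t).1]
    exact h.xG_mem_genR (hS r hr).2 _
  simpa using hle hx

/-- Root groups and their opposites determine each other. -/
theorem opp_unique {Γ K : Type*} [Group Γ] [Finite Γ] [Field K] {P : K → Prop}
    (hPn : ∀ v, P v → P (-v)) (hPi : ∀ v, P v → P v⁻¹) (hPa : ∀ v w, P v → P w → P (v + w))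
    {A B : Subgroup Γ} (hAB : ∀ g ∈ A, g ∈ B → g = 1) (hA : A ≠ ⊥) (hc : Nat.card A = Nat.card B)
    {x y : K → Γ} (hxA : ∀ v, P v → x v ∈ A) (hx : ∀ v w, x v * x w = x (v + w))
    (hy : ∀ v w, y v * y w = y (v + w))
    (hn : ∀ v, v ≠ 0 → P v → ∀ g ∈ A, x v * y (-v⁻¹) * x v * g * (x v * y (-v⁻¹) * x v)⁻¹ ∈ B)
    {u s : K} (hu : u ≠ 0) (hPu : P u) (hPs : P s)
    (hN : ∀ g ∈ A, x u * y s * x u * g * (x u * y s * x u)⁻¹ ∈ B) : s = -u⁻¹ := by
  have x0 : x 0 = 1 := mul_left_cancel (a := x 0) (by rw [hx, add_zero, mul_one])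
  have y0 : y 0 = 1 := mul_left_cancel (a := y 0) (by rw [hy, add_zero, mul_one])
  have xn : ∀ v, (x v)⁻¹ = x (-v) := fun v => inv_eq_of_mul_eq_one_right (by rw [hx, add_neg_cancel, x0])
  have yn : ∀ v, (y v)⁻¹ = y (-v) := fun v => inv_eq_of_mul_eq_one_right (by rw [hy, add_neg_cancel, y0])
  -- the standard representative also maps `B` into `A`
  have hback : ∀ v, v ≠ 0 → P v → ∀ g ∈ B,
      (x v * y (-v⁻¹) * x v)⁻¹ * g * (x v * y (-v⁻¹) * x v) ∈ A := by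
    intro v hv hPv g hg
    set m := x v * y (-v⁻¹) * x v
    have e := Subgroup.eq_of_le_of_card_ge (H := A.map (MulAut.conj m).toMonoidHom) (K := B)
      (by rintro _ ⟨a, ha, rfl⟩; exact hn v hv hPv a ha)
      (by rw [Subgroup.card_map_of_injective (MulEquiv.injective _), hc])
    rw [← e] at hg
    obtain ⟨a, ha, rfl⟩ := hg
    simpa [mul_assoc] using ha
  by_contra hne
  set r := u⁻¹ + s with hr
  have hr0 : r ≠ 0 := fun e => hne (eq_neg_of_add_eq_zero_right (hr ▸ e))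
  have hPr : P r := hPa _ _ (hPi _ hPu) hPs
  have hnorm : ∀ g ∈ A, y r * g * (y r)⁻¹ ∈ A := by
    intro g hg
    have h1 := hback u hu hPu _ (hN _ (mul_mem (mul_mem (inv_mem (hxA u hPu)) hg) (hxA u hPu)))
    have h2 := mul_mem (mul_mem (hxA u hPu) h1) (inv_mem (hxA u hPu))
    convert h2 using 1
    rw [hr, ← hy]
    simp only [mul_inv_rev, yn, neg_neg]
    group
  set v := -r⁻¹ with hv
  have hv0 : v ≠ 0 := neg_ne_zero.2 (inv_ne_zero hr0)
  have hPv : P v := hPn _ (hPi _ hPr)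
  have hrv : -v⁻¹ = r := by rw [hv, inv_neg, inv_inv, neg_neg]
  obtain ⟨a, ha, hane⟩ := Subgroup.nontrivial_iff_exists_ne_one _ |>.1 ((Subgroup.nontrivial_iff_ne_bot _).2 hA)
  have h3 : x v * y (-v⁻¹) * x v * a * (x v * y (-v⁻¹) * x v)⁻¹ ∈ A := by
    rw [hrv]
    have := mul_mem (mul_mem (hxA v hPv) (hnorm _ (mul_mem (mul_mem (hxA v hPv) ha) (inv_mem (hxA v hPv)))))
      (inv_mem (hxA v hPv))
    convert this using 1
    group
  have h4 := hAB _ h3 (hn v hv0 hPv a ha)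
  exact hane (conj_eq_one_iff.1 h4)

variable {K : Type*} [Field K] [Fintype K] {q : ℕ} {φ : K →+* K} (hφ : ∀ t, φ t = t ^ q)
  (hK : Fintype.card K = q ^ 3) (hq : IsPrimePow q)
  (G : TwistGrp (T φ)) (hG : G.G1 = twistedD4 K q) (hO : G.O.orbs = D4.orbsT)

/-- The short root element. -/
noncomputable def uT (φ : K →+* K) (t : K) : GL chevD4.Idx K :=
  D4.ok.xG 18 t * D4.ok.xG 13 (φ t) * D4.ok.xG 12 (φ (φ t))

/-- The opposite short root element. -/
noncomputable def eT (φ : K →+* K) (t : K) : GL chevD4.Idx K :=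
  D4.ok.xG 5 t * D4.ok.xG 10 (φ t) * D4.ok.xG 11 (φ (φ t))

theorem triple_add {a b c : ℕ} (ha : a ∈ [(18 : ℕ), 5]) (hb : b ∈ [(13 : ℕ), 10]) (hc : c ∈ [(12 : ℕ), 11])
    (s t : K) : D4.ok.xG a s * D4.ok.xG b (φ s) * D4.ok.xG c (φ (φ s)) *
      (D4.ok.xG a t * D4.ok.xG b (φ t) * D4.ok.xG c (φ (φ t))) =
      D4.ok.xG a (s + t) * D4.ok.xG b (φ (s + t)) * D4.ok.xG c (φ (φ (s + t))) := by
  obtain ⟨o1, o2, o3⟩ := orth a ha b hb c hc
  simp only [map_add, ← D4.ok.xG_add]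
  set A := D4.ok.xG a s
  set B := D4.ok.xG b (φ s)
  set C := D4.ok.xG c (φ (φ s))
  set A' := D4.ok.xG a t
  set B' := D4.ok.xG b (φ t)
  have hAC : Commute A' C := D4.ok.commute_xG ckComm_D4 o2 _ _
  have hAB : Commute A' B := D4.ok.commute_xG ckComm_D4 o1 _ _
  have hBC : Commute B' C := D4.ok.commute_xG ckComm_D4 o3 _ _
  rw [show A * B * C * (A' * B' * D4.ok.xG c (φ (φ t))) = A * B * (C * A') * B' * D4.ok.xG c (φ (φ t)) by group,
    ← hAC.eq, show A * B * (A' * C) * B' * D4.ok.xG c (φ (φ t)) =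
      A * (B * A') * (C * B') * D4.ok.xG c (φ (φ t)) by group, ← hAB.eq, ← hBC.eq]
  group

theorem uT_add (s t : K) : uT φ s * uT φ t = uT φ (s + t) := triple_add (by simp) (by simp) (by simp) s t

theorem eT_add (s t : K) : eT φ s * eT φ t = eT φ (s + t) := triple_add (by simp) (by simp) (by simp) s t

theorem hHom_chars (c : Fin 4 → Kˣ) :
    hchar D4.pk c 14 = (c 1 : K) * c 1 / (c 0 * c 2 * c 3) ∧ hchar D4.pk c 18 = (c 0 : K) * c 0 / c 1 ∧
      hchar D4.pk c 13 = (c 2 : K) * c 2 / c 1 ∧ hchar D4.pk c 12 = (c 3 : K) * c 3 / c 1 := by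
  obtain ⟨-, -, -, -, -, -, -, hA, -, -⟩ := autTables
  simp [List.range_succ] at hA
  obtain ⟨⟨a1, a2, a3, a4⟩, ⟨b1, b2, b3, b4⟩, ⟨d1, d2, d3, d4⟩, ⟨e1, e2, e3, e4⟩⟩ := hA
  refine ⟨?_, ?_, ?_, ?_⟩ <;>
    (show ∏ i : Fin 4, _ = _
     rw [Fin.prod_univ_four]
     simp [a1, a2, a3, a4, b1, b2, b3, b4, d1, d2, d3, d4, e1, e2, e3, e4, zpow_two, div_eq_mul_inv, mul_inv] <;>
       ring)

include hφ hK hq hG hO in
theorem rank2 {p f : ℕ} [Fact p.Prime] (hqp : q = p ^ f) :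
    TwistGrp.Rank2 G l0 ([1], [1]) ([0, 2, 3], [0, 2, 3]) [14] [18, 13, 12] p := by
  have hp := proper hφ hK hq G hO
  obtain ⟨-, -, w1, -, f1, f3, s3, -, -, -⟩ := autTables
  simp only [List.map_cons, List.map_nil, List.cons.injEq, and_true] at w1 f3 s3
  obtain ⟨n1, n2⟩ := neg1
  obtain ⟨c1, c2⟩ := cnt_orbs
  have hca : ([1], [1]) ∈ G.O.orbs := by rw [hO]; decide
  have hcb : ([0, 2, 3], [0, 2, 3]) ∈ G.O.orbs := by rw [hO]; decide
  have hq2 := hq.two_le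
  refine
    { proper := hp
      long := l0_long
      n0 := ?_
      orbs := by rw [hO]; decide
      da := ⟨hca, n1, by decide, ?_, ?_⟩
      db := ⟨hcb, n2, by decide, ?_, ?_⟩
      sep := ?_
      card := ?_
      sylow := ?_ }
  · rw [show l0 = [1] ++ [0, 2, 3] ++ ([1] ++ [0, 2, 3]) ++ ([1] ++ [0, 2, 3]) from rfl]
    simp only [D4.ok.nW_append]
    have := mul_mem (G.nW_mem _ hca) (G.nW_mem _ hcb)
    exact mul_mem (mul_mem this this) this
  · intro r hr; simp only [List.mem_singleton] at hr; subst hr; simp [w1.1, ngs.1]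
  · intro r hr; simp only [List.mem_singleton] at hr; subst hr; rw [f1]; simp [ngs.1]
  · intro r hr
    simp only [List.mem_cons, List.not_mem_nil, or_false] at hr
    rcases hr with rfl | rfl | rfl <;> simp [w1.2.1, w1.2.2.1, w1.2.2.2, ngs]
  · intro r hr
    simp only [List.mem_cons, List.not_mem_nil, or_false] at hr
    rcases hr with rfl | rfl | rfl <;> simp [f3, ngs]
  · intro r hr
    simp only [List.mem_cons, List.not_mem_nil, or_false] at hr
    rcases hr with rfl | rfl | rfl <;> simp [s3]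
  · have h1 := card_orb hφ hK hq G hO _ hca
    have h2 := card_orb hφ hK hq G hO _ hcb
    simp only [pow_one, c1, c2] at h1 h2
    rw [h1, h2, pow_three]
    nlinarith [Nat.mul_le_mul hq2 hq2]
  · have hUeq : G.Up = chevD4.posUnipotent K ⊓ (T φ).fixed := by
      rw [TwistGrp.Up, G.eq_fixed ckComm_D4]
    have hcU : Nat.card ↥(G.Up.subgroupOf G.G1) = q ^ 12 := by
      rw [Nat.card_congr (Subgroup.subgroupOfEquivOfLe (H := G.Up) (K := G.G1) inf_le_right).toEquiv, hUeq,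
        card_pos hφ hK hq G hO]
    have hPg : IsPGroup p ↥(G.Up.subgroupOf G.G1) := IsPGroup.of_card (n := f * 12) (by rw [hcU, hqp, pow_mul])
    have hidx : ¬ p ∣ (G.Up.subgroupOf G.G1).index := by
      intro hdvd
      have h1 := (G.Up.subgroupOf G.G1).card_mul_index
      rw [hcU] at h1
      have h2 := order_eq hφ hK hq G hG hO
      rw [← hG, ← h1, mul_assoc, mul_assoc] at h2
      have h3 := Nat.eq_of_mul_eq_mul_left (by positivity) h2
      rw [h3] at hdvd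
      have hz := (ZMod.natCast_eq_zero_iff _ _).2 hdvd
      have hq0 : (q : ZMod p) = 0 := by
        rw [hqp, Nat.cast_pow, ZMod.natCast_self, zero_pow]
        rintro rfl
        rw [pow_zero] at hqp
        omega
      have l2 : 1 ≤ q ^ 2 := Nat.one_le_pow _ _ (by omega)
      have l6 : 1 ≤ q ^ 6 := Nat.one_le_pow _ _ (by omega)
      simp [Nat.cast_sub l2, Nat.cast_sub l6, hq0] at hz
    exact ⟨hPg.toSylow hidx, rfl⟩

include hφ hK hq hO in
theorem Uw_a {x : GL chevD4.Idx K} (hx : x ∈ G.Uw [1]) : ∃ t, φ t = t ∧ x = D4.ok.xG 14 t := by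
  obtain ⟨n1, -⟩ := neg1
  have hc := cks
  simp only [Bool.and_eq_true] at hc
  obtain ⟨hx, hf⟩ := hx
  rw [genR_neg n1 (by decide)] at hx
  exact Std.fixed_single ckG_D4a φ (by decide) hc.1.1.1.1.1 ⟨hx, hf⟩

theorem Uw_b {x : GL chevD4.Idx K} (hx : x ∈ G.Uw [0, 2, 3]) : ∃ t, x = uT φ t := by
  obtain ⟨-, n2⟩ := neg1
  have hc := cks
  simp only [Bool.and_eq_true] at hc
  obtain ⟨hx, hf⟩ := hx
  rw [genR_neg n2 (by decide)] at hx
  exact Std.fixed_triple ckG_D4a φ ckComm_D4 (by decide) (by decide) (by decide) hc.1.2 ⟨hx, hf⟩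

include hφ hG in
theorem mem_G1 :
    (∀ t, φ t = t → D4.ok.xG 14 t ∈ G.G1 ∧ D4.ok.xG 9 t ∈ G.G1) ∧ ∀ t, uT φ t ∈ G.G1 ∧ eT φ t ∈ G.G1 := by
  refine ⟨fun t ht => ?_, fun t => ?_⟩ <;> rw [hG]
  · exact ⟨gen1 (by decide) ((hφ t).symm.trans ht), gen1 (by decide) ((hφ t).symm.trans ht)⟩
  · exact ⟨gen3 φ hφ (rs := (d4p1, d4p3, d4p4)) (by simp) t, gen3 φ hφ (rs := (d4m1, d4m3, d4m4)) (by simp) t⟩

theorem mem_Uwa {x : GL chevD4.Idx K} (hx : x ∈ G.G1) (hR : x ∈ D4.ok.genR (fun r => r ∈ ([14] : List ℕ))) :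
    x ∈ G.Uw [1] :=
  ⟨by rw [genR_neg neg1.1 (by decide)]; exact hR, G.le_fixed hx⟩

theorem mem_Uwb {x : GL chevD4.Idx K} (hx : x ∈ G.G1)
    (hR : x ∈ D4.ok.genR (fun r => r ∈ ([18, 13, 12] : List ℕ))) : x ∈ G.Uw [0, 2, 3] :=
  ⟨by rw [genR_neg neg1.2 (by decide)]; exact hR, G.le_fixed hx⟩

theorem mem_Xa (hn0 : D4.ok.nW l0 ∈ G.G1) {x : GL chevD4.Idx K} (hx : x ∈ G.G1)
    (hR : x ∈ D4.ok.genR (fun r => r ∈ ([9] : List ℕ))) : x ∈ TwistGrp.Xm G l0 ([1], [1]) := by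
  rw [TwistGrp.mem_Xm]
  refine mem_Uwa G (mul_mem (mul_mem hn0 hx) (inv_mem hn0)) (conj_genR D4.ok l0_long.1 (fun r hr => ?_) hR)
  obtain ⟨-, -, -, w2, -⟩ := autTables
  simp only [List.map_cons, List.map_nil, List.cons.injEq, and_true] at w2
  simp only [List.mem_singleton] at hr
  subst hr
  exact ⟨by decide, by simp [w2.1]⟩

theorem mem_Xb (hn0 : D4.ok.nW l0 ∈ G.G1) {x : GL chevD4.Idx K} (hx : x ∈ G.G1)
    (hR : x ∈ D4.ok.genR (fun r => r ∈ ([5, 10, 11] : List ℕ))) :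
    x ∈ TwistGrp.Xm G l0 ([0, 2, 3], [0, 2, 3]) := by
  rw [TwistGrp.mem_Xm]
  refine mem_Uwb G (mul_mem (mul_mem hn0 hx) (inv_mem hn0)) (conj_genR D4.ok l0_long.1 (fun r hr => ?_) hR)
  obtain ⟨-, -, -, w2, -⟩ := autTables
  simp only [List.map_cons, List.map_nil, List.cons.injEq, and_true] at w2
  simp only [List.mem_cons, List.not_mem_nil, or_false] at hr
  rcases hr with rfl | rfl | rfl
  exacts [⟨by decide, by simp [w2.2.1]⟩, ⟨by decide, by simp [w2.2.2.1]⟩, ⟨by decide, by simp [w2.2.2.2]⟩]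

theorem uT_genR (t : K) : uT φ t ∈ D4.ok.genR (fun r => r ∈ ([18, 13, 12] : List ℕ)) :=
  mul_mem (mul_mem (D4.ok.xG_mem_genR (by simp) _) (D4.ok.xG_mem_genR (by simp) _))
    (D4.ok.xG_mem_genR (by simp) _)

theorem eT_genR (t : K) : eT φ t ∈ D4.ok.genR (fun r => r ∈ ([5, 10, 11] : List ℕ)) :=
  mul_mem (mul_mem (D4.ok.xG_mem_genR (by simp) _) (D4.ok.xG_mem_genR (by simp) _))
    (D4.ok.xG_mem_genR (by simp) _)

theorem uT_fst {t t' u v : K}
    (e : uT φ t = D4.ok.xG 18 t' * D4.ok.xG 13 u * D4.ok.xG 12 v) : t = t' := by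
  obtain ⟨o1, o2, o3⟩ := orth 18 (by simp) 13 (by simp) 12 (by simp)
  exact (Std.triple_unique ckComm_D4 (by decide) (by decide) (by decide) o1 o3 o2 e).1

theorem uT_inj {s t : K} (e : uT φ s = uT φ t) : s = t := uT_fst e

theorem x14_inj {s t : K} (e : D4.ok.xG 14 s = D4.ok.xG 14 t) : s = t :=
  D4.ok.xG_inj_param (show 14 < D4.pk.nroots by decide) e

theorem hH_conj (c : Fin 4 → Kˣ) {r : ℕ} (hr : r < D4.pk.nroots) (t : K) :
    hH c * D4.ok.xG r t * (hH c)⁻¹ = D4.ok.xG r (hchar D4.pk c r * t) := D4.ok.hHom_xG c hr t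

theorem hH_uT (c : Fin 4 → Kˣ) (t : K) : hH c * uT φ t * (hH c)⁻¹ =
    D4.ok.xG 18 (hchar D4.pk c 18 * t) * D4.ok.xG 13 (hchar D4.pk c 13 * φ t) *
      D4.ok.xG 12 (hchar D4.pk c 12 * φ (φ t)) := by
  rw [uT, show ∀ d a b c : GL chevD4.Idx K, d * (a * b * c) * d⁻¹ =
    (d * a * d⁻¹) * (d * b * d⁻¹) * (d * c * d⁻¹) by intros; group, hH_conj c (by decide), hH_conj c (by decide),
    hH_conj c (by decide)]

theorem hH_uT_fixed {c : Fin 4 → Kˣ} (hc : (T φ).τ c = c) (t : K) :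
    hH c * uT φ t * (hH c)⁻¹ = uT φ (hchar D4.pk c 18 * t) := by
  obtain ⟨-, h1, h0, h2⟩ := tau_fixed φ hc
  obtain ⟨-, e18, e13, e12⟩ := hHom_chars c
  rw [hH_uT, uT, e18, e13, e12, map_mul, map_mul, map_div₀, map_div₀, map_mul, map_mul, h0, h1, h2, h1]

include hφ hK hq in
/-- Prescribed values of the two fundamental characters. -/
theorem exists_torus (x y : Kˣ) (hy : φ (y : K) = y) :
    ∃ c : Fin 4 → Kˣ, (T φ).τ c = c ∧ hchar D4.pk c 18 = (x : K) ∧ hchar D4.pk c 14 = (y : K) := by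
  classical
  let W := Kˣ × {t : Kˣ // φ (t : K) = t}
  have hne : ∀ (c : Fin 4 → Kˣ) (r : ℕ), hchar D4.pk c r ≠ 0 := fun c r => by
    show (∏ i, _) ≠ _; exact Finset.prod_ne_zero_iff.2 fun i _ => zpow_ne_zero _ (c i).ne_zero
  let f : tori φ → W := fun c => (Units.mk0 (hchar D4.pk c.1 18) (hne _ _),
    ⟨Units.mk0 (hchar D4.pk c.1 14) (hne _ _), by
      obtain ⟨h3, h1, h0, h2⟩ := tau_fixed φ (mem_tori.1 c.2)
      simp only [Units.val_mk0]
      rw [(hHom_chars c.1).1]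
      simp only [map_div₀, map_mul, h3, h1, h0, h2]
      ring⟩)
  have hinj : Function.Injective f := by
    intro c d e
    simp only [f, W, Prod.mk.injEq, Subtype.mk.injEq, Units.ext_iff, Units.val_mk0] at e
    set k := c.1 * d.1⁻¹ with hk
    have hkτ : (T φ).τ k = k := mem_tori.1 (mul_mem c.2 (inv_mem d.2))
    have hm : ∀ r, hchar D4.pk k r = hchar D4.pk c.1 r * (hchar D4.pk d.1 r)⁻¹ := fun r => by
      rw [eq_mul_inv_iff_mul_eq₀ (hne _ _), show hchar D4.pk c.1 r = hchar D4.pk (k * d.1) r by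
        rw [hk, inv_mul_cancel_right]]
      exact (D4.ok.hchar_mul k d.1 r).symm
    have k14 : hchar D4.pk k 14 = 1 := by rw [hm, e.2, mul_inv_cancel₀ (hne _ _)]
    have k18 : hchar D4.pk k 18 = 1 := by rw [hm, e.1, mul_inv_cancel₀ (hne _ _)]
    obtain ⟨h3, h1, h0, h2⟩ := tau_fixed φ hkτ
    obtain ⟨-, e18, e13, e12⟩ := hHom_chars k
    have k13 : hchar D4.pk k 13 = 1 := by
      rw [← map_one φ, ← k18, e18, e13, map_div₀, map_mul, h0, h1]
    have k12 : hchar D4.pk k 12 = 1 := by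
      rw [← map_one φ, ← k13, e13, e12, map_div₀, map_mul, h2, h1]
    have h1' : hH (K := K) k = 1 := by
      refine D4.ok.hHom_eq_one_of fun j hj => ?_
      apply Units.ext
      rw [Units.coe_prod, Units.val_one]
      simp only [Units.val_zpow_eq_zpow_val]
      show hchar D4.pk k (D4.pk.sim j) = 1
      have hj' : j = 0 ∨ j = 1 ∨ j = 2 ∨ j = 3 := by
        have : j < 4 := hj
        omega
      obtain ⟨s0, s1, s2, s3⟩ := sims
      rcases hj' with rfl | rfl | rfl | rfl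
      exacts [s0 ▸ k18, s1 ▸ k14, s2 ▸ k13, s3 ▸ k12]
    exact Subtype.ext (mul_inv_eq_one.1 (ker_form k h1' hkτ))
  have hcard : Nat.card (tori φ) = Nat.card W := by
    rw [card_tori hφ hK hq, Nat.card_prod, Nat.card_eq_fintype_card (α := Kˣ), Fintype.card_units, hK, mul_comm]
    congr 1
    obtain ⟨-, e⟩ := Std.fixed_field_card (F := K) hq.two_le (by omega : 1 ≤ 3) hK
    rw [← e]
    refine Nat.card_congr (Equiv.subtypeEquivRight fun t => ?_)
    rw [hφ, Units.ext_iff, Units.val_pow_eq_pow_val, Units.val_one,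
      ← pow_sub_one_mul (show q ≠ 0 by have := hq.two_le; omega) (t : K), mul_eq_right₀ t.ne_zero]
  obtain ⟨c, hc⟩ := ((Nat.bijective_iff_injective_and_card f).2 ⟨hinj, hcard⟩).2 (x, ⟨y, hy⟩)
  simp only [f, W, Prod.mk.injEq, Subtype.mk.injEq, Units.ext_iff, Units.val_mk0] at hc
  exact ⟨c.1, mem_tori.1 c.2, hc.1, hc.2⟩

include hφ hK in
theorem diag_cases {g : GL chevD4.Idx K} (hd : g ∈ chevD4.diagonalSubgroup K) (hg : g ∈ G.G1) :
    ∃ c, (T φ).τ c = c ∧ g = hH c := by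
  obtain ⟨c, hc, rfl⟩ := Std.diag_lift (h := D4.ok) ckG_D4a φ (e := 2) (n := 3) (by decide)
    (fun c e => kernel_sq e) (tau_three φ (phi3 φ hφ hK)) hd (G.le_fixed hg)
  exact ⟨c, hc, rfl⟩

theorem x14_conj_nt (v : Kˣ) : D4.ok.ht 14 (v : K) = hH (Pi.mulSingle (1 : Fin 4) v) := by
  rw [hH_single, show D4.pk.sim ((1 : Fin 4) : ℕ) = 14 from sims.2.1]

theorem nt14_form (v : K) :
    D4.ok.nt 14 v = D4.ok.xG 14 v * D4.ok.xG 9 (-v⁻¹) * D4.ok.xG 14 v := by rw [Ok.nt, ngs.1]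

theorem nt_inv (r : ℕ) (t : K) : (D4.ok.nt r t)⁻¹ = D4.ok.nt r (-t) := by
  simp only [Ok.nt, mul_inv_rev, D4.ok.xG_inv, inv_neg, neg_neg, mul_assoc]

theorem conj_nt14 (hn0 : D4.ok.nW l0 ∈ G.G1) (hca : ([1], [1]) ∈ G.O.orbs)
    (hn : ∀ v, φ v = v → D4.ok.nt 14 v ∈ G.G1) {v : K} (hv : v ≠ 0) (hvf : φ v = v) {g : GL chevD4.Idx K}
    (hg : g ∈ G.Uw [1]) : D4.ok.nt 14 v * g * (D4.ok.nt 14 v)⁻¹ ∈ TwistGrp.Xm G l0 ([1], [1]) := by
  have hgR : g ∈ D4.ok.genR (fun r => r ∈ ([14] : List ℕ)) := by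
    have := hg.1
    rwa [genR_neg neg1.1 (by decide)] at this
  refine mem_Xa G hn0 (mul_mem (mul_mem (hn v hvf) (G.root_mem _ hca hg)) (inv_mem (hn v hvf))) ?_
  have e : D4.ok.nt 14 v = hH (Pi.mulSingle (1 : Fin 4) (Units.mk0 v hv)) * D4.ok.nW [1] := by
    rw [← x14_conj_nt, Units.val_mk0, Ok.ht, show D4.ok.nW (F := K) [1] = D4.ok.nt 14 1 by
      simp [Ok.nW, Ok.nG, sims.2.1], mul_assoc, ← nt_inv, inv_mul_cancel, mul_one]
  rw [e, show ∀ d n x : GL chevD4.Idx K, d * n * x * (d * n)⁻¹ = d * (n * x * n⁻¹) * d⁻¹ by intros; group]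
  have h1 := conj_genR D4.ok (l := [1]) (S' := fun r => r ∈ ([9] : List ℕ))
    (fun i hi => by simp only [List.mem_singleton] at hi; subst hi; decide) (fun r hr => ?_) hgR
  · have hle : D4.ok.genR (F := K) (fun r => r ∈ ([9] : List ℕ)) ≤ (D4.ok.genR (fun r => r ∈ ([9] : List ℕ))).comap
        (MulAut.conj (hH (Pi.mulSingle (1 : Fin 4) (Units.mk0 v hv)))).toMonoidHom := by
      refine D4.ok.genR_le fun r hr t => ?_
      rw [Subgroup.mem_comap, MulEquiv.toMonoidHom_eq_coe, MonoidHom.coe_coe, MulAut.conj_apply,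
        hH_conj _ (by simp only [List.mem_singleton] at hr; subst hr; decide)]
      exact D4.ok.xG_mem_genR hr _
    simpa using hle h1
  · simp only [List.mem_singleton] at hr
    subst hr
    exact ⟨by decide, by simp [autTables.2.2.2.2.1]⟩

theorem nt3_form (t : K) : D4.ok.nt 18 t * D4.ok.nt 13 (φ t) * D4.ok.nt 12 (φ (φ t)) =
    uT φ t * eT φ (-t⁻¹) * uT φ t := by
  rw [nt_orth3, uT, eT, map_neg, map_neg, map_inv₀, map_inv₀]

theorem conj_nt3 (hn0 : D4.ok.nW l0 ∈ G.G1) (hcb : ([0, 2, 3], [0, 2, 3]) ∈ G.O.orbs)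
    (hn : ∀ v, uT φ v * eT φ (-v⁻¹) * uT φ v ∈ G.G1) {v : K} (hv : v ≠ 0) {g : GL chevD4.Idx K}
    (hg : g ∈ G.Uw [0, 2, 3]) :
    uT φ v * eT φ (-v⁻¹) * uT φ v * g * (uT φ v * eT φ (-v⁻¹) * uT φ v)⁻¹ ∈
      TwistGrp.Xm G l0 ([0, 2, 3], [0, 2, 3]) := by
  have hgR : g ∈ D4.ok.genR (fun r => r ∈ ([18, 13, 12] : List ℕ)) := by
    have := hg.1
    rwa [genR_neg neg1.2 (by decide)] at this
  refine mem_Xb G hn0 (mul_mem (mul_mem (hn v) (G.root_mem _ hcb hg)) (inv_mem (hn v))) ?_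
  rw [← nt3_form]
  -- each factor sends the three roots onto roots of the opposite orbit
  set z : Kˣ := Units.mk0 v hv
  set c : Fin 4 → Kˣ :=
    Pi.mulSingle 0 z * Pi.mulSingle 2 (Units.map φ.toMonoidHom z) *
      Pi.mulSingle 3 (Units.map φ.toMonoidHom (Units.map φ.toMonoidHom z))
  have cN : ∀ a b : ℕ, a ∈ [(18 : ℕ), 13] → b ∈ [(13 : ℕ), 12] → a ≠ b → ∀ x y : K,
      Commute (D4.ok.nt a x) (D4.ok.nt b y) := by
    intro a b ha hb hne x y
    have ho : ckOrth D4.pk a b = true ∧ ckOrth D4.pk (D4.pk.ng a) b = true ∧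
        ckOrth D4.pk a (D4.pk.ng b) = true ∧ ckOrth D4.pk (D4.pk.ng a) (D4.pk.ng b) = true := by
      simp only [List.mem_cons, List.not_mem_nil, or_false] at ha hb
      rcases ha with rfl | rfl <;> rcases hb with rfl | rfl <;> first | exact absurd rfl hne | decide +kernel
    exact D4.ok.commute_nt ckComm_D4 ho.1 ho.2.1 ho.2.2.1 ho.2.2.2 x y
  have e : D4.ok.nt 18 v * D4.ok.nt 13 (φ v) * D4.ok.nt 12 (φ (φ v)) = hH c * D4.ok.nW [0, 2, 3] := by
    have h1 : hH c = D4.ok.nt 18 v * D4.ok.nt 13 (φ v) * D4.ok.nt 12 (φ (φ v)) *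
        (D4.ok.nt 18 (-1) * D4.ok.nt 13 (-1) * D4.ok.nt 12 (-1)) := by
      rw [map_mul, map_mul, hH_single, hH_single, hH_single, show D4.pk.sim ((0 : Fin 4) : ℕ) = 18 from sims.1,
        show D4.pk.sim ((2 : Fin 4) : ℕ) = 13 from sims.2.2.1, show D4.pk.sim ((3 : Fin 4) : ℕ) = 12 from sims.2.2.2,
        Ok.ht, Ok.ht, Ok.ht, (cN 18 13 (by simp) (by simp) (by omega) (-1) _).mul_mul_mul_comm,
        (((cN 18 12 (by simp) (by simp) (by omega) (-1) _).mul_left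
          (cN 13 12 (by simp) (by simp) (by omega) (-1) _))).mul_mul_mul_comm]
      rfl
    have h2 : D4.ok.nW (F := K) [0, 2, 3] = (D4.ok.nt 18 (-1) * D4.ok.nt 13 (-1) * D4.ok.nt 12 (-1))⁻¹ := by
      rw [mul_inv_rev, mul_inv_rev, nt_inv, nt_inv, nt_inv, neg_neg,
        ← (cN 18 13 (by simp) (by simp) (by omega) (1 : K) 1).eq,
        ← ((cN 18 12 (by simp) (by simp) (by omega) (1 : K) 1).mul_left
          (cN 13 12 (by simp) (by simp) (by omega) (1 : K) 1)).eq]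
      simp [Ok.nW, Ok.nG, sims.1, sims.2.2.1, sims.2.2.2, mul_assoc]
    rw [h1, h2, mul_inv_cancel_right]
  rw [e, show ∀ d n x : GL chevD4.Idx K, d * n * x * (d * n)⁻¹ = d * (n * x * n⁻¹) * d⁻¹ by intros; group]
  have hf3 := autTables.2.2.2.2.2.1
  simp only [List.map_cons, List.map_nil, List.cons.injEq, and_true] at hf3
  have h1 := conj_genR D4.ok (l := [0, 2, 3]) (S' := fun r => r ∈ ([5, 10, 11] : List ℕ))
    (fun i hi => by
      simp only [List.mem_cons, List.not_mem_nil, or_false] at hi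
      rcases hi with rfl | rfl | rfl <;> decide)
    (fun r hr => ?_) hgR
  · have hle : D4.ok.genR (F := K) (fun r => r ∈ ([5, 10, 11] : List ℕ)) ≤
        (D4.ok.genR (fun r => r ∈ ([5, 10, 11] : List ℕ))).comap (MulAut.conj (hH c)).toMonoidHom := by
      refine D4.ok.genR_le fun r hr t => ?_
      rw [Subgroup.mem_comap, MulEquiv.toMonoidHom_eq_coe, MonoidHom.coe_coe, MulAut.conj_apply,
        hH_conj _ (by simp only [List.mem_cons, List.not_mem_nil, or_false] at hr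
                      rcases hr with rfl | rfl | rfl <;> decide)]
      exact D4.ok.xG_mem_genR hr _
    simpa using hle h1
  · simp only [List.mem_cons, List.not_mem_nil, or_false] at hr
    rcases hr with rfl | rfl | rfl <;> exact ⟨by decide, by simp [hf3]⟩

end Cfsg.Agent.Chev.TwD4
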