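/-
The outer automorphism group of ³D₄(q) is the Galois group of the cubic extension.
-/
import Cfsg.Agent.Lib.Chev.Aut.TwAutD4

set_option autoImplicit false
set_option linter.unusedSectionVars false
set_option maxHeartbeats 800000

namespace Cfsg.Agent.Chev.TwD4

open Cfsg.Lie
open scoped Matrix

variable {K : Type*} [Field K] [Fintype K] {q : ℕ} {φ : K →+* K} (hφ : ∀ t, φ t = t ^ q)
  (hK : Fintype.card K = q ^ 3) (hq : IsPrimePow q)
  (G : TwistGrp (T φ)) (hG : G.G1 = twistedD4 K q) (hO : G.O.orbs = D4.orbsT)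

theorem gmap_symm (τ : K ≃+* K) (g : GL chevD4.Idx K) :
    gmap chevD4 τ.symm.toRingHom (gmap chevD4 τ.toRingHom g) = g := by
  apply Units.ext
  ext i j
  simp [coe_gmap]

include hφ in
theorem map_phi (τ : K →+* K) (t : K) : τ (φ t) = φ (τ t) := by rw [hφ, hφ, map_pow]

include hφ in
theorem gmap_triples (τ : K →+* K) (t : K) :
    gmap chevD4 τ (uT φ t) = uT φ (τ t) ∧ gmap chevD4 τ (eT φ t) = eT φ (τ t) := by
  constructor <;>
    simp only [uT, eT, map_mul, D4.ok.gmap_xG τ (show 18 < D4.pk.nroots by decide),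
      D4.ok.gmap_xG τ (show 13 < D4.pk.nroots by decide), D4.ok.gmap_xG τ (show 12 < D4.pk.nroots by decide),
      D4.ok.gmap_xG τ (show 5 < D4.pk.nroots by decide), D4.ok.gmap_xG τ (show 10 < D4.pk.nroots by decide),
      D4.ok.gmap_xG τ (show 11 < D4.pk.nroots by decide), map_phi hφ τ]

include hφ hG in
/-- Induction on the generators. -/
theorem G1_induction {M : Subgroup (GL chevD4.Idx K)}
    (h14 : ∀ t, φ t = t → D4.ok.xG 14 t ∈ M) (h9 : ∀ t, φ t = t → D4.ok.xG 9 t ∈ M)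
    (hu : ∀ t, uT φ t ∈ M) (he : ∀ t, eT φ t ∈ M) : G.G1 ≤ M := by
  rw [hG]
  refine (Subgroup.closure_le _).2 fun g hg => gens (P' := fun g => g ∈ M) (fun r hr t ht => ?_)
    (fun rs hr t => ?_) hg
  · simp only [List.mem_cons, List.not_mem_nil, or_false] at hr
    rcases hr with rfl | rfl
    exacts [h14 t ((hφ t).trans ht), h9 t ((hφ t).trans ht)]
  · rw [show t ^ q ^ 2 = φ (φ t) by rw [hφ, hφ, ← pow_mul, sq], ← hφ]
    simp only [List.mem_cons, List.not_mem_nil, or_false] at hr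
    rcases hr with rfl | rfl
    exacts [hu t, he t]

include hφ hG in
theorem exists_field_aut (τ : K ≃+* K) :
    ∃ Φ : MulAut ↥G.G1, ∀ x : ↥G.G1, ((Φ x : ↥G.G1) : GL chevD4.Idx K) = gmap chevD4 τ.toRingHom x := by
  have hle : ∀ σ : K ≃+* K, G.G1 ≤ G.G1.comap (gmap chevD4 σ.toRingHom) := by
    intro σ
    obtain ⟨m1, m2⟩ := mem_G1 hφ G hG
    have hσ : ∀ t, φ t = t → φ (σ.toRingHom t) = σ.toRingHom t := fun t ht => by rw [← map_phi hφ, ht]
    refine G1_induction hφ G hG ?_ ?_ ?_ ?_ <;> intros <;> rw [Subgroup.mem_comap]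
    · rw [D4.ok.gmap_xG _ (show 14 < D4.pk.nroots by decide)]; exact (m1 _ (hσ _ ‹_›)).1
    · rw [D4.ok.gmap_xG _ (show 9 < D4.pk.nroots by decide)]; exact (m1 _ (hσ _ ‹_›)).2
    · rw [(gmap_triples hφ _ _).1]; exact (m2 _).1
    · rw [(gmap_triples hφ _ _).2]; exact (m2 _).2
  refine ⟨
    { toFun := fun x => ⟨gmap chevD4 τ.toRingHom x, hle τ x.2⟩
      invFun := fun x => ⟨gmap chevD4 τ.symm.toRingHom x, hle τ.symm x.2⟩
      left_inv := fun x => Subtype.ext (gmap_symm τ _)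
      right_inv := fun x => Subtype.ext (by simpa using gmap_symm τ.symm (x : GL chevD4.Idx K))
      map_mul' := fun x y => Subtype.ext (map_mul _ _ _) }, fun x => rfl⟩

theorem form_Xa {x : GL chevD4.Idx K} (hx : ∃ t, φ t = t ∧ D4.ok.nW l0 * x * (D4.ok.nW l0)⁻¹ = D4.ok.xG 14 t) :
    ∃ t, φ t = t ∧ x = D4.ok.xG 9 t := by
  obtain ⟨t, ht, e⟩ := hx
  obtain ⟨-, -, -, w2, -⟩ := autTables
  simp only [List.map_cons, List.map_nil, List.cons.injEq, and_true] at w2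
  obtain ⟨σ, hσ, hxx⟩ := D4.ok.nW_xG (F := K) l0 l0_long.1 9 (by decide)
  refine ⟨σ * t, ?_, ?_⟩
  · rcases mul_self_eq_one_iff.1 hσ with e | e <;> simp [e, ht]
  · have h1 := (hxx (σ * t)).1
    rw [w2.1, ← mul_assoc, hσ, one_mul, ← e] at h1
    exact (mul_left_cancel (mul_right_cancel h1)).symm

include hφ hK hG in
theorem form_Xb (hn0 : D4.ok.nW l0 ∈ G.G1) {x : GL chevD4.Idx K}
    (hx : ∃ t, D4.ok.nW l0 * x * (D4.ok.nW l0)⁻¹ = uT φ t) : ∃ t, x = eT φ t := by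
  obtain ⟨t, e⟩ := hx
  obtain ⟨-, -, -, w2, -⟩ := autTables
  simp only [List.map_cons, List.map_nil, List.cons.injEq, and_true] at w2
  obtain ⟨σa, hσ, hxa⟩ := D4.ok.nW_xG (F := K) l0 l0_long.1 5 (by decide)
  obtain ⟨σb, -, hxb⟩ := D4.ok.nW_xG (F := K) l0 l0_long.1 10 (by decide)
  obtain ⟨σc, -, hxc⟩ := D4.ok.nW_xG (F := K) l0 l0_long.1 11 (by decide)
  refine ⟨σa * t, ?_⟩
  have hE := (mem_G1 hφ G hG).2 (σa * t)
  have h1 := TwistGrp.mem_Xm.1 (mem_Xb G hn0 hE.2 (eT_genR _))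
  obtain ⟨s, hs⟩ := Uw_b G h1
  have h2 : s = t := by
    refine uT_fst (φ := φ) (t' := t) (u := σb * φ (σa * t)) (v := σc * φ (φ (σa * t))) ?_
    rw [← hs, eT, show ∀ d a b c : GL chevD4.Idx K, d * (a * b * c) * d⁻¹ =
      (d * a * d⁻¹) * (d * b * d⁻¹) * (d * c * d⁻¹) by intros; group, (hxa _).1, (hxb _).1, (hxc _).1,
      w2.2.1, w2.2.2.1, w2.2.2.2, ← mul_assoc, hσ, one_mul]
  rw [h2, ← e] at hs
  exact (mul_left_cancel (mul_right_cancel hs)).symm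

/-- The parameters of the long root torus. -/
def single1 (v : Kˣ) : Fin 4 → Kˣ := ![1, v, 1, 1]

theorem single1_props (v : Kˣ) :
    D4.ok.ht 14 (v : K) = hH (single1 v) ∧ hchar D4.pk (single1 v) 18 = (v : K)⁻¹ ∧
      (φ (v : K) = v → (T φ).τ (single1 v) = single1 v) := by
  refine ⟨?_, ?_, fun hv => ?_⟩
  · rw [x14_conj_nt]
    congr 1
    funext k
    fin_cases k <;> simp [single1] <;> rfl
  · rw [(hHom_chars _).2.1]
    simp [single1]
  · refine (tau_apply φ _).trans ?_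
    funext k
    fin_cases k <;> apply Units.ext <;> simp [single1, hv]

/-- The compatibility of an automorphism with the root subgroups and the torus. -/
structure Good (β : MulAut ↥G.G1) : Prop where
  ua : ∀ x : ↥G.G1, (x : GL chevD4.Idx K) ∈ G.Uw [1] → ((β x : ↥G.G1) : GL chevD4.Idx K) ∈ G.Uw [1]
  ub : ∀ x : ↥G.G1, (x : GL chevD4.Idx K) ∈ G.Uw [0, 2, 3] →
    ((β x : ↥G.G1) : GL chevD4.Idx K) ∈ G.Uw [0, 2, 3]
  xa : ∀ x : ↥G.G1, (x : GL chevD4.Idx K) ∈ TwistGrp.Xm G l0 ([1], [1]) →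
    ((β x : ↥G.G1) : GL chevD4.Idx K) ∈ TwistGrp.Xm G l0 ([1], [1])
  xb : ∀ x : ↥G.G1, (x : GL chevD4.Idx K) ∈ TwistGrp.Xm G l0 ([0, 2, 3], [0, 2, 3]) →
    ((β x : ↥G.G1) : GL chevD4.Idx K) ∈ TwistGrp.Xm G l0 ([0, 2, 3], [0, 2, 3])
  hd : ∀ x : ↥G.G1, (x : GL chevD4.Idx K) ∈ chevD4.diagonalSubgroup K →
    ((β x : ↥G.G1) : GL chevD4.Idx K) ∈ chevD4.diagonalSubgroup K

theorem hH_diag (c : Fin 4 → Kˣ) : hH c ∈ chevD4.diagonalSubgroup K := D4.ok.mem_diagonal_iff.2 ⟨c, rfl⟩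

theorem hH_conj_genR (c : Fin 4 → Kˣ) {L : List ℕ} (hL : ∀ r ∈ L, r < D4.pk.nroots) {x : GL chevD4.Idx K}
    (hx : x ∈ D4.ok.genR (fun r => r ∈ L)) : hH c * x * (hH c)⁻¹ ∈ D4.ok.genR (fun r => r ∈ L) := by
  have hle : D4.ok.genR (F := K) (fun r => r ∈ L) ≤
      (D4.ok.genR (fun r => r ∈ L)).comap (MulAut.conj (hH c)).toMonoidHom := by
    refine D4.ok.genR_le fun r hr t => ?_
    rw [Subgroup.mem_comap, MulEquiv.toMonoidHom_eq_coe, MonoidHom.coe_coe, MulAut.conj_apply,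
      hH_conj _ (hL r hr)]
    exact D4.ok.xG_mem_genR hr _
  simpa using hle hx

include hφ hK hq hG hO in
/-- An automorphism compatible with root subgroups and torus, and fixing the two base elements, is a field
automorphism. -/
theorem canon_unit (β : MulAut ↥G.G1) (hβ : Good G β)
    (h1a : ∀ x : ↥G.G1, (x : GL chevD4.Idx K) = D4.ok.xG 14 1 → β x = x)
    (h1b : ∀ x : ↥G.G1, (x : GL chevD4.Idx K) = uT φ 1 → β x = x) :
    ∃ τ : K ≃+* K, ∀ x : ↥G.G1, ((β x : ↥G.G1) : GL chevD4.Idx K) = gmap chevD4 τ.toRingHom x := by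
  classical
  obtain ⟨p, f, hp, -, hpf⟩ := (isPrimePow_nat_iff q).1 hq
  have : Fact p.Prime := ⟨hp⟩
  have R := rank2 hφ hK hq G hG hO hpf.symm
  have hn0 := R.n0
  obtain ⟨m1, m2⟩ := mem_G1 hφ G hG
  let F : GL chevD4.Idx K → GL chevD4.Idx K := fun g => if hg : g ∈ G.G1 then (β ⟨g, hg⟩ : ↥G.G1) else 1
  have hF : ∀ x : ↥G.G1, F x = (β x : ↥G.G1) := fun x => (dif_pos x.2 : _)
  have Fm : ∀ {g g' : GL chevD4.Idx K}, g ∈ G.G1 → g' ∈ G.G1 → F (g * g') = F g * F g' := fun {g g'} hg hg' => by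
    have := congrArg Subtype.val (map_mul β ⟨g, hg⟩ ⟨g', hg'⟩)
    rw [Subgroup.coe_mul, ← hF, ← hF, ← hF] at this
    exact this
  have Fi : ∀ {g : GL chevD4.Idx K}, g ∈ G.G1 → F g⁻¹ = (F g)⁻¹ := fun {g} hg => by
    have := congrArg Subtype.val (map_inv β ⟨g, hg⟩)
    rw [Subgroup.coe_inv, ← hF, ← hF] at this
    exact this
  have Fj : ∀ {g g' : GL chevD4.Idx K}, g ∈ G.G1 → g' ∈ G.G1 → F g = F g' → g = g' := fun {g g'} hg hg' e => by
    rw [hF ⟨g, hg⟩, hF ⟨g', hg'⟩] at e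
    exact congrArg Subtype.val (β.injective (Subtype.ext e))
  have FG : ∀ {g : GL chevD4.Idx K}, g ∈ G.G1 → F g ∈ G.G1 := fun {g} hg => by rw [hF ⟨g, hg⟩]; exact (β _).2
  have F1 : F 1 = 1 := by
    have := hF 1
    rwa [map_one, Subgroup.coe_one] at this
  -- the two parameter maps
  have exa : ∀ t, φ t = t → ∃ s, φ s = s ∧ F (D4.ok.xG 14 t) = D4.ok.xG 14 s := fun t ht =>
    Uw_a hφ hK hq G hO (by rw [hF ⟨_, (m1 t ht).1⟩]; exact hβ.ua ⟨_, (m1 t ht).1⟩ (mem_Uwa G (m1 t ht).1 (D4.ok.xG_mem_genR List.mem_cons_self _)))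
  have exb : ∀ t, ∃ s, F (uT φ t) = uT φ s := fun t =>
    Uw_b G (by rw [hF ⟨_, (m2 t).1⟩]; exact hβ.ub ⟨_, (m2 t).1⟩ (mem_Uwb G (m2 t).1 (uT_genR t)))
  choose! a haf ha using exa
  choose b hb using exb
  have b1 : b 1 = 1 := uT_inj (φ := φ) (by rw [← hb, hF ⟨_, (m2 1).1⟩, h1b _ rfl])
  have badd : ∀ s t, b (s + t) = b s + b t := fun s t => uT_inj (φ := φ) (by
    rw [← hb, ← uT_add, Fm (m2 s).1 (m2 t).1, hb, hb, uT_add])
  have binj : Function.Injective b := fun s t e => uT_inj (φ := φ) (Fj (m2 s).1 (m2 t).1 (by rw [hb, hb, e]))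
  have bsurj : Function.Surjective b := Finite.injective_iff_surjective.1 binj
  have b0 : b 0 = 0 := by
    have h := badd 0 0
    rw [add_zero] at h
    exact (left_eq_add.1 h)
  have aadd : ∀ s t, φ s = s → φ t = t → a (s + t) = a s + a t := fun s t hs ht => x14_inj (by
    rw [← ha _ (by rw [map_add, hs, ht]), ← D4.ok.xG_add, Fm (m1 s hs).1 (m1 t ht).1, ha s hs, ha t ht,
      D4.ok.xG_add])
  have a1 : a 1 = 1 := x14_inj (by rw [← ha 1 (map_one φ), hF ⟨_, (m1 1 (map_one φ)).1⟩, h1a _ rfl])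
  have a0 : a 0 = 0 := by
    have h := aadd 0 0 (map_zero φ) (map_zero φ)
    rw [add_zero] at h
    exact (left_eq_add.1 h)
  have an1 : a (-1) = -1 := by
    have h := aadd 1 (-1) (map_one φ) (by rw [map_neg, map_one])
    rw [add_neg_cancel, a0, a1] at h
    exact eq_neg_of_add_eq_zero_right h.symm
  have ainj : ∀ s t, φ s = s → φ t = t → a s = a t → s = t := fun s t hs ht e =>
    x14_inj (Fj (m1 s hs).1 (m1 t ht).1 (by rw [ha s hs, ha t ht, e]))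
  have asurj : ∀ s, φ s = s → ∃ t, φ t = t ∧ a t = s := fun s hs => by
    have hi : Function.Injective fun t : {t : K // φ t = t} => (⟨a t, haf t t.2⟩ : {t : K // φ t = t}) :=
      fun u v e => Subtype.ext (ainj u v u.2 v.2 (congrArg Subtype.val e))
    obtain ⟨t, ht⟩ := (Finite.injective_iff_surjective.1 hi) ⟨s, hs⟩
    exact ⟨t, t.2, congrArg Subtype.val ht⟩
  -- multiplicativity from the torus
  have hHG : ∀ c, (T φ).τ c = c → hH c ∈ G.G1 := fun c hc => by rw [hG]; exact hHom_fixed_mem φ hφ hc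
  have Ftor : ∀ c, (T φ).τ c = c → ∃ c', (T φ).τ c' = c' ∧ F (hH c) = hH c' := fun c hc =>
    diag_cases hφ hK G (by rw [hF ⟨_, hHG c hc⟩]; exact hβ.hd _ (hH_diag c)) (FG (hHG c hc))
  have bmul : ∀ x t, b (x * t) = b x * b t := by
    intro x t
    rcases eq_or_ne x 0 with rfl | hx
    · rw [zero_mul, b0, zero_mul]
    obtain ⟨c, hc, h18, -⟩ := exists_torus hφ hK hq (Units.mk0 x hx) 1 (by simp)
    obtain ⟨c', hc', ec⟩ := Ftor c hc
    have key : ∀ u, b (x * u) = hchar D4.pk c' 18 * b u := fun u => uT_inj (φ := φ) (by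
      rw [← hb, ← hH_uT_fixed hc', ← hb, ← ec, ← Fi (hHG c hc), ← Fm (hHG c hc) (m2 u).1,
        ← Fm (mul_mem (hHG c hc) (m2 u).1) (inv_mem (hHG c hc)), hH_uT_fixed hc, h18]
      rfl)
    have := key 1
    rw [mul_one, b1, mul_one] at this
    rw [key, this]
  -- standard representatives
  have hca : (([1], [1]) : List ℕ × List ℕ) ∈ G.O.orbs := R.da.mem
  have hcb : (([0, 2, 3], [0, 2, 3]) : List ℕ × List ℕ) ∈ G.O.orbs := R.db.mem
  have hnt14 : ∀ v, φ v = v → D4.ok.nt 14 v ∈ G.G1 := fun v hv => by rw [hG]; exact nt_single φ hφ hv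
  have hnt3 : ∀ v, uT φ v * eT φ (-v⁻¹) * uT φ v ∈ G.G1 := fun v =>
    mul_mem (mul_mem (m2 v).1 (m2 _).2) (m2 v).1
  have hcard : ∀ o : List ℕ × List ℕ, Nat.card (G.Uw o.2) = Nat.card (TwistGrp.Xm G l0 o) := fun o =>
    (Subgroup.card_map_of_injective (MulEquiv.injective _)).symm
  have hdis : ∀ o : List ℕ × List ℕ, o ∈ G.O.orbs → ∀ g ∈ G.Uw o.2, g ∈ TwistGrp.Xm G l0 o → g = 1 :=
    fun o ho g hg hg' => TwistGrp.Up_inf_Um ckComm_D4 R.long hn0 (TwistGrp.Uw_le_Up ckComm_D4 ho hg)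
      (TwistGrp.Xm_le ckComm_D4 R.long hn0 ho hg')
  have hinvf : ∀ v : K, φ v = v → φ (-v⁻¹) = -v⁻¹ := fun v hv => by rw [map_neg, map_inv₀, hv]
  have Fy : ∀ u, u ≠ 0 → φ u = u → F (D4.ok.xG 9 (-u⁻¹)) = D4.ok.xG 9 (-(a u)⁻¹) := by
    intro u hu hu'
    have hy := (m1 _ (hinvf u hu')).2
    obtain ⟨s, hs, es⟩ : ∃ s, φ s = s ∧ F (D4.ok.xG 9 (-u⁻¹)) = D4.ok.xG 9 s :=
      form_Xa (Uw_a hφ hK hq G hO ((TwistGrp.mem_Xm (G := G) (l0 := l0) (o := ([1], [1]))).1 (by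
        rw [hF ⟨_, hy⟩]; exact hβ.xa ⟨_, hy⟩ (mem_Xa G hn0 hy (D4.ok.xG_mem_genR List.mem_cons_self _)))))
    have hau : a u ≠ 0 := fun e => hu (ainj u 0 hu' (map_zero φ) (e.trans a0.symm))
    rw [es]
    congr 1
    refine opp_unique (P := fun v => φ v = v) (A := G.Uw [1]) (B := TwistGrp.Xm G l0 ([1], [1]))
      (x := fun v => D4.ok.xG 14 v) (y := fun v => D4.ok.xG 9 v)
      (fun v hv => by simp [hv]) (fun v hv => by rw [map_inv₀, hv]) (fun v w hv hw => by rw [map_add, hv, hw])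
      (hdis ([1], [1]) hca) (R.proper.ne_bot ([1], [1]) hca) (hcard ([1], [1])) (fun v hv => mem_Uwa G (m1 v hv).1 (D4.ok.xG_mem_genR List.mem_cons_self _))
      (fun v w => D4.ok.xG_add _ _ _) (fun v w => D4.ok.xG_add _ _ _) (fun v hv hv' g hg => ?_) hau (haf u hu') hs
      (fun g hg => ?_)
    · rw [← nt14_form]; exact conj_nt14 G hn0 hca hnt14 hv hv' hg
    · obtain ⟨w, hw, rfl⟩ := Uw_a hφ hK hq G hO hg
      obtain ⟨w', hw', rfl⟩ := asurj w hw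
      have hN := conj_nt14 G hn0 hca hnt14 hu hu' (mem_Uwa G (m1 w' hw').1 (D4.ok.xG_mem_genR List.mem_cons_self _))
      have hN' := hβ.xa ⟨_, TwistGrp.Xm_le ckComm_D4 R.long hn0 hca hN |>.2⟩ hN
      rw [← hF] at hN'
      simp only [nt14_form] at hN'
      have hx := (m1 u hu').1
      have hn := mul_mem (mul_mem hx hy) hx
      rw [Fm (mul_mem hn (m1 w' hw').1) (inv_mem hn), Fm hn (m1 w' hw').1, Fi hn, Fm (mul_mem hx hy) hx,
        Fm hx hy, ha u hu', ha w' hw', es] at hN'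
      exact hN'
  have Fe : ∀ u, u ≠ 0 → F (eT φ (-u⁻¹)) = eT φ (-(b u)⁻¹) := by
    intro u hu
    have hy := (m2 (-u⁻¹)).2
    obtain ⟨s, es⟩ : ∃ s, F (eT φ (-u⁻¹)) = eT φ s :=
      form_Xb hφ hK G hG hn0 (Uw_b G ((TwistGrp.mem_Xm (G := G) (l0 := l0) (o := ([0, 2, 3], [0, 2, 3]))).1 (by
        rw [hF ⟨_, hy⟩]; exact hβ.xb ⟨_, hy⟩ (mem_Xb G hn0 hy (eT_genR _)))))
    have hbu : b u ≠ 0 := fun e => hu (binj (e.trans b0.symm))
    rw [es]
    congr 1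
    refine opp_unique (P := fun _ : K => True) (A := G.Uw [0, 2, 3])
      (B := TwistGrp.Xm G l0 ([0, 2, 3], [0, 2, 3])) (x := uT φ) (y := eT φ)
      (fun _ _ => trivial) (fun _ _ => trivial) (fun _ _ _ _ => trivial)
      (hdis ([0, 2, 3], [0, 2, 3]) hcb) (R.proper.ne_bot ([0, 2, 3], [0, 2, 3]) hcb)
      (hcard ([0, 2, 3], [0, 2, 3])) (fun v _ => mem_Uwb G (m2 v).1 (uT_genR v))
      uT_add eT_add (fun v hv _ g hg => conj_nt3 G hn0 hcb hnt3 hv hg) hbu trivial trivial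
      (fun g hg => ?_)
    obtain ⟨w, rfl⟩ := Uw_b G hg
    obtain ⟨w', rfl⟩ := bsurj w
    have hN := conj_nt3 G hn0 hcb hnt3 hu (mem_Uwb G (m2 w').1 (uT_genR w'))
    have hN' := hβ.xb ⟨_, TwistGrp.Xm_le ckComm_D4 R.long hn0 hcb hN |>.2⟩ hN
    rw [← hF] at hN'
    have hx := (m2 u).1
    have hn := hnt3 u
    simp only at hN'
    rw [Fm (mul_mem hn (m2 w').1) (inv_mem hn), Fm hn (m2 w').1, Fi hn, Fm (mul_mem hx hy) hx,
      Fm hx hy, hb u, hb w', es] at hN'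
    exact hN'
  -- the two maps agree on the fixed field
  have Fn : ∀ v, v ≠ 0 → φ v = v → F (D4.ok.nt 14 v) = D4.ok.nt 14 (a v) := fun v hv hv' => by
    have hx := (m1 v hv').1
    have hy := (m1 _ (hinvf v hv')).2
    rw [nt14_form, nt14_form, Fm (mul_mem hx hy) hx, Fm hx hy, ha v hv', Fy v hv hv']
  have hab : ∀ u, φ u = u → a u = b u := by
    intro u hu'
    rcases eq_or_ne u 0 with rfl | hu
    · rw [a0, b0]
    have hau : a u ≠ 0 := fun e => hu (ainj u 0 hu' (map_zero φ) (e.trans a0.symm))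
    have hτ := fun (v : Kˣ) (hv : φ (v : K) = v) => (single1_props (φ := φ) v).2.2 hv
    have hht : ∀ v : K, D4.ok.ht 14 v = D4.ok.nt 14 v * D4.ok.nt 14 (-1) := fun v => rfl
    have e1 : F (D4.ok.ht 14 u) = D4.ok.ht 14 (a u) := by
      rw [hht, hht, Fm (hnt14 u hu') (hnt14 _ (by rw [map_neg, map_one])), Fn u hu hu',
        Fn _ (neg_ne_zero.2 one_ne_zero) (by rw [map_neg, map_one]), an1]
    have eu := (single1_props (φ := φ) (Units.mk0 u hu)).1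
    have ea := (single1_props (φ := φ) (Units.mk0 (a u) hau)).1
    rw [Units.val_mk0] at eu ea
    have key := congrArg F (hH_uT_fixed (hτ (Units.mk0 u hu) hu') (1 : K))
    have hcG := hHG _ (hτ (Units.mk0 u hu) hu')
    rw [Fm (mul_mem hcG (m2 1).1) (inv_mem hcG), Fm hcG (m2 1).1, Fi hcG, ← eu, e1, ea,
      (single1_props (φ := φ) _).2.1, mul_one, hb, hb, b1, Units.val_mk0,
      hH_uT_fixed (hτ (Units.mk0 _ hau) (haf u hu')), (single1_props (φ := φ) _).2.1, mul_one,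
      Units.val_mk0] at key
    have h2 := uT_inj key
    have h3 := bmul u u⁻¹
    rw [mul_inv_cancel₀ hu, b1, ← h2] at h3
    exact ((mul_inv_eq_one₀ hau).1 h3.symm).symm
  let τ0 : K →+* K :=
    { toFun := b
      map_one' := b1
      map_mul' := bmul
      map_zero' := b0
      map_add' := badd }
  refine ⟨RingEquiv.ofBijective τ0 ⟨binj, bsurj⟩, fun x => ?_⟩
  set τ : K →+* K := (RingEquiv.ofBijective τ0 ⟨binj, bsurj⟩).toRingHom with hτd
  have hτb : ∀ t, τ t = b t := fun t => rfl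
  have hle : G.G1 ≤ (((G.G1.subtype).comp β.toMonoidHom).eqLocus ((gmap chevD4 τ).comp G.G1.subtype)).map G.G1.subtype := by
    have key : ∀ g (hg : g ∈ G.G1), F g = gmap chevD4 τ g →
        g ∈ (((G.G1.subtype).comp β.toMonoidHom).eqLocus ((gmap chevD4 τ).comp G.G1.subtype)).map G.G1.subtype :=
      fun g hg e => ⟨⟨g, hg⟩, (hF ⟨g, hg⟩).symm.trans e, rfl⟩
    refine G1_induction hφ G hG (fun t ht => ?_) (fun t ht => ?_) (fun t => ?_) (fun t => ?_)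
    · exact key _ (m1 t ht).1 (by rw [ha t ht, D4.ok.gmap_xG _ (show 14 < D4.pk.nroots by decide), hτb, hab t ht])
    · refine key _ (m1 t ht).2 ?_
      rw [D4.ok.gmap_xG _ (show 9 < D4.pk.nroots by decide)]
      rcases eq_or_ne t 0 with rfl | ht0
      · rw [map_zero, D4.ok.xG_zero, F1]
      · have h' := hinvf t ht
        have := Fy (-t⁻¹) (neg_ne_zero.2 (inv_ne_zero ht0)) h'
        rw [inv_neg, inv_inv, neg_neg, hab _ h', ← hτb, map_neg, map_inv₀, inv_neg, inv_inv, neg_neg] at this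
        exact this
    · exact key _ (m2 t).1 (by rw [hb, (gmap_triples hφ τ t).1, hτb])
    · refine key _ (m2 t).2 ?_
      rw [(gmap_triples hφ τ t).2]
      rcases eq_or_ne t 0 with rfl | ht0
      · rw [map_zero, show eT φ (0 : K) = 1 by simp [eT, D4.ok.xG_zero], F1]
      · have := Fe (-t⁻¹) (neg_ne_zero.2 (inv_ne_zero ht0))
        rw [inv_neg, inv_inv, neg_neg, ← hτb, map_neg, map_inv₀, inv_neg, inv_inv, neg_neg] at this
        exact this
  obtain ⟨y, hy, e⟩ := hle x.2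
  obtain rfl : y = x := Subtype.ext e
  exact hy

include hφ hK hq hG hO in
/-- Every automorphism is a product of an inner and a field automorphism. -/
theorem aut_decomp (α : MulAut ↥G.G1) : ∃ (g : ↥G.G1) (τ : K ≃+* K),
    ∀ x : ↥G.G1, ((g * α x * g⁻¹ : ↥G.G1) : GL chevD4.Idx K) = gmap chevD4 τ.toRingHom x := by
  classical
  obtain ⟨p, f, hp, -, hpf⟩ := (isPrimePow_nat_iff q).1 hq
  have : Fact p.Prime := ⟨hp⟩
  have R := rank2 hφ hK hq G hG hO hpf.symm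
  obtain ⟨m1, m2⟩ := mem_G1 hφ G hG
  obtain ⟨g0, hg0⟩ := R.normalise ckComm_D4 α
  set β : MulAut ↥G.G1 := MulAut.conj g0 * α with hβd
  have hx1 : D4.ok.xG 14 (1 : K) ∈ G.Uw [1] := mem_Uwa G (m1 1 (map_one φ)).1 (D4.ok.xG_mem_genR List.mem_cons_self _)
  have hu1 : uT φ (1 : K) ∈ G.Uw [0, 2, 3] := mem_Uwb G (m2 1).1 (uT_genR 1)
  obtain ⟨a, ha', ha⟩ := Uw_a hφ hK hq G hO ((hg0 ⟨_, (m1 1 (map_one φ)).1⟩).1 hx1)
  obtain ⟨b, hb⟩ := Uw_b G ((hg0 ⟨_, (m2 1).1⟩).2.1 hu1)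
  have ha0 : a ≠ 0 := by
    rintro rfl
    rw [D4.ok.xG_zero] at ha
    have := congrArg Subtype.val ((MulEquiv.map_eq_one_iff β).1 (Subtype.ext ha : β ⟨_, (m1 1 (map_one φ)).1⟩ = 1))
    exact one_ne_zero (x14_inj (this.trans (D4.ok.xG_zero 14).symm))
  have hb0 : b ≠ 0 := by
    rintro rfl
    rw [show uT φ (0 : K) = 1 by simp [uT, D4.ok.xG_zero]] at hb
    have := congrArg Subtype.val ((MulEquiv.map_eq_one_iff β).1 (Subtype.ext hb : β ⟨_, (m2 1).1⟩ = 1))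
    exact one_ne_zero (uT_inj (φ := φ) (this.trans (by simp [uT, D4.ok.xG_zero])))
  obtain ⟨c, hc, h18, h14⟩ := exists_torus hφ hK hq (Units.mk0 b hb0)⁻¹ (Units.mk0 a ha0)⁻¹
    (by simp [map_inv₀, ha'])
  have hcG : hH c ∈ G.G1 := by rw [hG]; exact hHom_fixed_mem φ hφ hc
  set cc : ↥G.G1 := ⟨hH c, hcG⟩
  set γ : MulAut ↥G.G1 := MulAut.conj cc * β with hγd
  have hγ : ∀ x, ((γ x : ↥G.G1) : GL chevD4.Idx K) = hH c * (β x : ↥G.G1) * (hH c)⁻¹ := fun x => by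
    simp [hγd, cc]
  have hgood : Good G γ := by
    refine ⟨fun x hx => ?_, fun x hx => ?_, fun x hx => ?_, fun x hx => ?_, fun x hx => ?_⟩
    · rw [hγ]
      obtain ⟨t, -, et⟩ := Uw_a hφ hK hq G hO ((hg0 x).1 hx)
      refine mem_Uwa G (mul_mem (mul_mem hcG (β x).2) (inv_mem hcG)) (hH_conj_genR c (by decide) ?_)
      rw [show ((β x : ↥G.G1) : GL chevD4.Idx K) = D4.ok.xG 14 t from et]
      exact D4.ok.xG_mem_genR (by simp) _
    · rw [hγ]
      obtain ⟨t, et⟩ := Uw_b G ((hg0 x).2.1 hx)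
      refine mem_Uwb G (mul_mem (mul_mem hcG (β x).2) (inv_mem hcG)) (hH_conj_genR c (by decide) ?_)
      rw [show ((β x : ↥G.G1) : GL chevD4.Idx K) = uT φ t from et]
      exact uT_genR _
    · rw [hγ]
      obtain ⟨t, -, et⟩ := form_Xa (Uw_a hφ hK hq G hO ((TwistGrp.mem_Xm (G := G) (l0 := l0) (o := ([1], [1]))).1 ((hg0 x).2.2.1 hx)))
      refine mem_Xa G R.n0 (mul_mem (mul_mem hcG (β x).2) (inv_mem hcG)) (hH_conj_genR c (by decide) ?_)
      rw [show ((β x : ↥G.G1) : GL chevD4.Idx K) = D4.ok.xG 9 t from et]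
      exact D4.ok.xG_mem_genR (by simp) _
    · rw [hγ]
      obtain ⟨t, et⟩ := form_Xb hφ hK G hG R.n0 (Uw_b G ((TwistGrp.mem_Xm (G := G) (l0 := l0) (o := ([0, 2, 3], [0, 2, 3]))).1 ((hg0 x).2.2.2.1 hx)))
      refine mem_Xb G R.n0 (mul_mem (mul_mem hcG (β x).2) (inv_mem hcG)) (hH_conj_genR c (by decide) ?_)
      rw [show ((β x : ↥G.G1) : GL chevD4.Idx K) = eT φ t from et]
      exact eT_genR _
    · rw [hγ]
      exact mul_mem (mul_mem (hH_diag c) ((hg0 x).2.2.2.2 hx)) (inv_mem (hH_diag c))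
  obtain ⟨τ, hτ⟩ := canon_unit hφ hK hq G hG hO γ hgood (fun x hx => Subtype.ext (by
      rw [hγ, show x = ⟨_, (m1 1 (map_one φ)).1⟩ from Subtype.ext hx]
      show hH c * _ * _ = _
      rw [show ((β ⟨_, (m1 1 (map_one φ)).1⟩ : ↥G.G1) : GL chevD4.Idx K) = D4.ok.xG 14 a from ha,
        hH_conj c (by decide), h14]
      simp [ha0])) (fun x hx => Subtype.ext (by
      rw [hγ, show x = ⟨_, (m2 1).1⟩ from Subtype.ext hx]
      show hH c * _ * _ = _
      rw [show ((β ⟨_, (m2 1).1⟩ : ↥G.G1) : GL chevD4.Idx K) = uT φ b from hb, hH_uT_fixed hc, h18]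
      simp [hb0]))
  refine ⟨cc * g0, τ, fun x => ?_⟩
  rw [← hτ x]
  simp [hγd, hβd, mul_assoc]

include hφ hK hq hG hO in
/-- Different field automorphisms differ modulo inner ones. -/
theorem field_inj (τ τ' : K ≃+* K) (g : ↥G.G1) (e : ∀ x : ↥G.G1,
    gmap chevD4 τ'.toRingHom (x : GL chevD4.Idx K) = gmap chevD4 τ.toRingHom ((g * x * g⁻¹ : ↥G.G1) : GL chevD4.Idx K)) :
    τ = τ' := by
  obtain ⟨p, f, hp, -, hpf⟩ := (isPrimePow_nat_iff q).1 hq
  have : Fact p.Prime := ⟨hp⟩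
  have R := rank2 hφ hK hq G hG hO hpf.symm
  obtain ⟨-, m2⟩ := mem_G1 hφ G hG
  have e' : ∀ x : ↥G.G1, (g : GL chevD4.Idx K) * x * (g : GL chevD4.Idx K)⁻¹ =
      gmap chevD4 τ.symm.toRingHom (gmap chevD4 τ'.toRingHom x) := fun x => by
    rw [e x, gmap_symm]
    simp
  have hup : ∀ σ : K ≃+* K, ∀ x ∈ G.Up, gmap chevD4 σ.toRingHom x ∈ G.Up := fun σ x hx => by
    obtain ⟨Φ, hΦ⟩ := exists_field_aut hφ G hG σ
    exact ⟨D4.ok.gmap_pos _ hx.1, hΦ ⟨x, hx.2⟩ ▸ (Φ _).2⟩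
  have hum : ∀ σ : K ≃+* K, ∀ x ∈ G.Um, gmap chevD4 σ.toRingHom x ∈ G.Um := fun σ x hx => by
    have sw := TwistGrp.swap (G := G) ckComm_D4 R.long R.n0
    have h1 := hup σ _ ((sw x).1.2 hx)
    rw [map_mul, map_mul, map_inv, D4.ok.gmap_nW _ l0 l0_long.1] at h1
    exact (sw _).1.1 h1
  have hd : (g : GL chevD4.Idx K) ∈ chevD4.diagonalSubgroup K := by
    rw [TwistGrp.mem_diag_iff ckComm_D4 R.long R.n0 R.proper g.2]
    refine ⟨fun x hx => ?_, fun x hx => ?_⟩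
    · rw [e' ⟨x, hx.2⟩]; exact hup _ _ (hup _ _ hx)
    · rw [e' ⟨x, hx.2⟩]; exact hum _ _ (hum _ _ hx)
  obtain ⟨c, hc, ec⟩ := diag_cases hφ hK G hd g.2
  have key : ∀ t, hchar D4.pk c 18 * t = τ.symm (τ' t) := fun t => uT_inj (φ := φ) (by
    rw [← hH_uT_fixed hc, ← ec, e' ⟨_, (m2 t).1⟩, (gmap_triples hφ _ _).1, (gmap_triples hφ _ _).1]
    rfl)
  have h18 := key 1
  rw [mul_one, map_one, map_one] at h18
  refine RingEquiv.ext fun t => ?_
  have := key t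
  rw [h18, one_mul] at this
  conv_lhs => rw [this]
  exact τ.apply_symm_apply _

include hφ hK hq hG hO in
theorem card_out {p f : ℕ} [Fact p.Prime] [CharP K p] (hKp : Fintype.card K = p ^ (3 * f)) :
    Nat.card (Cfsg.Out ↥G.G1) = 3 * f := by
  classical
  choose Φ hΦ using exists_field_aut hφ G hG
  rw [← Cfsg.Agent.AutPSL.card_ringAut p (3 * f) hKp]
  symm
  refine Nat.card_eq_of_bijective (fun τ => (QuotientGroup.mk (Φ τ) : Cfsg.Out _)) ⟨fun τ τ' h => ?_, fun x => ?_⟩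
  · obtain ⟨g, hg⟩ := QuotientGroup.eq.1 h
    refine field_inj hφ hK hq G hG hO τ τ' g fun x => ?_
    have hh : Φ τ' = Φ τ * MulAut.conj g := by rw [hg]; group
    rw [← hΦ, ← hΦ, hh]
    rfl
  · obtain ⟨α, rfl⟩ := QuotientGroup.mk_surjective x
    obtain ⟨g, τ, hg⟩ := aut_decomp hφ hK hq G hG hO α
    refine ⟨τ, ?_⟩
    have hh : Φ τ = MulAut.conj g * α := MulEquiv.ext fun x => Subtype.ext (by
      rw [hΦ, ← hg]
      simp)
    show (QuotientGroup.mk (Φ τ) : Cfsg.Out ↥G.G1) = _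
    have hi : (QuotientGroup.mk (MulAut.conj g) : Cfsg.Out ↥G.G1) = 1 := (QuotientGroup.eq_one_iff _).2 ⟨g, rfl⟩
    rw [hh, QuotientGroup.mk_mul, hi, one_mul]

end Cfsg.Agent.Chev.TwD4
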