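/-
Automorphisms of twisted groups: normal form with respect to the root subgroups, any number of orbits.
-/
import Cfsg.Agent.Lib.Chev.Aut.TwAut

set_option autoImplicit false
set_option linter.unusedSectionVars false

namespace Cfsg.Agent.Chev.TwistGrp

open Cfsg.Agent.Chev Cfsg.Lie
open scoped Pointwise

variable {D : ChevalleyDatum} {P : Pk} {h : Ok D P} {F : Type*} [Field F] {T : Twist h F} {G : TwistGrp T}

/-- The orbit data of all orbits, pairwise separated. -/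
structure RankN (G : TwistGrp T) (l0 : List ℕ) (L : List ℕ × List ℕ → List ℕ) (p : ℕ) : Prop where
  proper : G.Proper
  long : Aut.Longest P l0
  n0 : h.nW (F := F) l0 ∈ G.G1
  od : ∀ o ∈ G.O.orbs, OrbData G l0 o (L o)
  sep : ∀ o ∈ G.O.orbs, ∀ o' ∈ G.O.orbs, o ≠ o' → ∀ r ∈ L o', P.isPos (wl P o.2 r) = true
  sylow : ∃ S : Sylow p ↥G.G1, (S : Subgroup ↥G.G1) = G.Up.subgroupOf G.G1

/-- A permutation of the orbits induced on one family of subgroups. -/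
def PermOn (G : TwistGrp T) (S : List ℕ × List ℕ → Subgroup (GL D.Idx F)) (α : ↥G.G1 ≃* ↥G.G1) : Prop :=
  ∀ o ∈ G.O.orbs, ∃ o' ∈ G.O.orbs, Nat.card (G.Uw o'.2) = Nat.card (G.Uw o.2) ∧
    ∀ x : ↥G.G1, (x : GL D.Idx F) ∈ S o ↔ ((α x : ↥G.G1) : GL D.Idx F) ∈ S o'

variable (hC : P.ckComm = true) {l0 : List ℕ} {L : List ℕ × List ℕ → List ℕ} {p : ℕ} [Fact p.Prime] [Finite F]
include hC

theorem RankN.isPGroup_Um (R : RankN G l0 L p) : IsPGroup p G.Um := by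
  obtain ⟨S, hS⟩ := R.sylow
  have h1 : IsPGroup p G.Up := by
    have := S.isPGroup'
    rw [hS] at this
    exact this.of_equiv (Subgroup.subgroupOfEquivOfLe inf_le_right)
  have e : G.Um = G.Up.map (MulAut.conj (h.nW (F := F) l0)).toMonoidHom := by
    ext y
    constructor
    · intro hy
      exact ⟨_, ((swap hC R.long R.n0 y).2.1).2 hy, by simp [mul_assoc]⟩
    · rintro ⟨x, hx, rfl⟩
      simpa [mul_assoc] using ((swap hC R.long R.n0 x).2.2.1).2 hx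
  rw [e]
  exact h1.map _

theorem RankN.Xm_inf (R : RankN G l0 L p) {o o' : List ℕ × List ℕ} (ho : o ∈ G.O.orbs) (ho' : o' ∈ G.O.orbs)
    (hne : o ≠ o') {y : GL D.Idx F} (h1 : y ∈ Xm G l0 o) (h2 : y ∈ Xm G l0 o') : y = 1 := by
  set a := h.nW l0 * y * (h.nW l0)⁻¹ with hadef
  have ha : a ∈ G.Uw o.2 := mem_Xm.1 h1
  have hb : a ∈ G.Uw o'.2 := mem_Xm.1 h2
  have hd' := R.od o' ho'
  have hwa := (G.O.spec ho).1.1
  have h4 : h.nW o.2 * a * (h.nW o.2)⁻¹ ∈ D.posUnipotent F := by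
    have hm : ∀ r, negS P o'.2 r → r ∈ L o' := fun r hr => by
      rw [h.negS_eq hd'.neg hd'.lt] at hr
      exact hr
    have := h.uplus_conj (F := F) hwa (one_mem _) (u := a)
      (h.genR_mono (fun r hr => ⟨hr.1, R.sep o ho o' ho' hne r (hm r hr)⟩) hb.1)
    rwa [mul_one (h.nW o.2)] at this
  have h5 := Subgroup.mem_inf.2 ⟨(Subgroup.mem_sup_left h4 : h.nW o.2 * a * (h.nW o.2)⁻¹ ∈ D.borelSubgroup F),
    (Xm_le hC R.long R.n0 ho (conj_orb_le hC R.long R.n0 (R.od o ho) ha)).1⟩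
  erw [h.borel_inf_neg, Subgroup.mem_bot, conj_eq_one_iff] at h5
  exact conj_eq_one_iff.1 h5

theorem RankN.stab_Xm (R : RankN G l0 L p) {α : ↥G.G1 ≃* ↥G.G1} (hU : G.Stab α G.Up)
    (hV : G.Stab α G.Um) : PermOn G (Xm G l0) α := by
  classical
  have hp := R.proper
  have hpm := R.isPGroup_Um hC
  have heq := fun o (ho : o ∈ G.O.orbs) => Um_inf_Pm hC R.long R.n0 (R.od o ho) hpm (hp.ne_bot o ho)
  have hB : ∀ x : ↥G.G1, (x : GL D.Idx F) ∈ D.borelSubgroup F ↔ ((α x : ↥G.G1) : GL D.Idx F) ∈ D.borelSubgroup F := by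
    have one : ∀ (β : ↥G.G1 ≃* ↥G.G1), G.Stab β G.Up → ∀ x : ↥G.G1, (x : GL D.Idx F) ∈ D.borelSubgroup F →
        ((β x : ↥G.G1) : GL D.Idx F) ∈ D.borelSubgroup F := by
      intro β hβ x hx
      refine mem_borel_of_norm hC hp (β x).2 fun y hy => ?_
      have hy' : ((β.symm ⟨y, hy.2⟩ : ↥G.G1) : GL D.Idx F) ∈ G.Up := (hβ.symm ⟨y, hy.2⟩).2 hy
      have h1 : ((x * β.symm ⟨y, hy.2⟩ * x⁻¹ : ↥G.G1) : GL D.Idx F) ∈ G.Up :=
        ⟨(Subgroup.mem_normalizer_iff.1 (Aut.borel_normalizes h hx) _).1 hy'.1, (x * β.symm ⟨y, hy.2⟩ * x⁻¹).2⟩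
      have h2 := ((hβ _).2 h1).1
      simpa using h2
    exact fun x => ⟨one α hU x, fun hx => by simpa using one α.symm hU.symm _ hx⟩
  let Bsg : Subgroup ↥G.G1 := (D.borelSubgroup F ⊓ G.G1).subgroupOf G.G1
  let bn := G.bnPair hC hp
  have hBn : bn.B = Bsg := rfl
  -- the image of a minimal parabolic subgroup contains one of the negative root subgroups
  have hmain : ∀ o, o ∈ G.O.orbs → ∀ L, OrbData G l0 o L → G.Um ⊓ Pm G o = Xm G l0 o →
      ∃ o' ∈ G.O.orbs, ∀ y : ↥G.G1, (y : GL D.Idx F) ∈ Xm G l0 o' →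
        ((α.symm y : ↥G.G1) : GL D.Idx F) ∈ Xm G l0 o := by
    intro o ho L hd hoX
    let M : Subgroup ↥G.G1 := ((Pm G o).subgroupOf G.G1).map α.toMonoidHom
    have hBM : bn.B ≤ M := fun x hx => by
      refine ⟨α.symm x, ⟨(α.symm x).2, Subgroup.mem_sup_left ?_⟩, by simp⟩
      exact (hB (α.symm x)).2 (by simpa using (Subgroup.mem_subgroupOf.1 hx).1)
    have hne : (bn.S ∩ (M : Set ↥G.G1)).Nonempty := by
      rw [Set.nonempty_iff_ne_empty]
      intro he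
      have hMB : M ≤ bn.B := by
        conv_lhs => rw [BN.eq_parabolic bn hBM]
        rw [he]
        exact sup_le le_rfl ((Subgroup.closure_le _).2 (Set.empty_subset _))
      have h1 : (α ⟨h.nW o.2, G.nW_mem o ho⟩ : ↥G.G1) ∈ bn.B :=
        hMB ⟨_, Subgroup.mem_subgroupOf.2 (nW_mem_Pm (G := G) ho), rfl⟩
      have h2 := (hB _).2 (Subgroup.mem_subgroupOf.1 h1).1
      obtain ⟨a, ha, hane⟩ := Subgroup.nontrivial_iff_exists_ne_one _ |>.1
        ((Subgroup.nontrivial_iff_ne_bot _).2 (hp.ne_bot o ho))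
      have h3 : h.nW o.2 * a * (h.nW o.2)⁻¹ ∈ D.borelSubgroup F :=
        mul_mem (mul_mem h2 (Subgroup.mem_sup_left (h.negS_le_pos _ ha.1))) (inv_mem h2)
      have h4 := Subgroup.mem_inf.2 ⟨h3, (Xm_le hC R.long R.n0 ho (conj_orb_le hC R.long R.n0 hd ha)).1⟩
      erw [h.borel_inf_neg, Subgroup.mem_bot, conj_eq_one_iff] at h4
      exact hane h4
    obtain ⟨s, ⟨o', ho', es⟩, hsM⟩ := hne
    refine ⟨o', ho', fun y hy => ?_⟩
    have hd' := R.od o' ho'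
    obtain ⟨x, hx, ey⟩ := exists_conj_orb hC R.long R.n0 hd' hy
    have hxG : x ∈ G.G1 := G.root_mem o' ho' hx
    have hxM : (⟨x, hxG⟩ : ↥G.G1) ∈ M :=
      hBM (Subgroup.mem_subgroupOf.2 ⟨Subgroup.mem_sup_left (h.negS_le_pos _ hx.1), hxG⟩)
    have hyM : y ∈ M := by
      have e : y = s * ⟨x, hxG⟩ * s⁻¹ := Subtype.ext (by simp [ey, es])
      rw [e]
      exact mul_mem (mul_mem hsM hxM) (inv_mem hsM)
    obtain ⟨z, hz, ez⟩ := hyM
    have : α.symm y = z := by rw [← ez]; exact α.symm_apply_apply z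
    rw [this, ← hoX]
    refine ⟨?_, Subgroup.mem_subgroupOf.1 hz⟩
    rw [← this]
    exact (hV.symm y).2 (Xm_le hC R.long R.n0 ho' hy)
  have hcards : ∀ o, Nat.card (Xm G l0 o) = Nat.card (G.Uw o.2) :=
    fun o => Subgroup.card_map_of_injective (MulEquiv.injective _)
  have hex : ∀ o : {o // o ∈ G.O.orbs}, ∃ o' : {o // o ∈ G.O.orbs}, ∀ y : ↥G.G1,
      (y : GL D.Idx F) ∈ Xm G l0 o'.1 → ((α.symm y : ↥G.G1) : GL D.Idx F) ∈ Xm G l0 o.1 := fun o => by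
    obtain ⟨o', ho', h1⟩ := hmain o.1 o.2 (L o.1) (R.od o.1 o.2) (heq o.1 o.2)
    exact ⟨⟨o', ho'⟩, h1⟩
  choose σ hσ using hex
  have hσi : Function.Injective σ := by
    intro a b e
    by_contra hne
    obtain ⟨y, hy, hy1⟩ := Subgroup.nontrivial_iff_exists_ne_one (Xm G l0 (σ a).1) |>.1
      ((Subgroup.nontrivial_iff_ne_bot _).2 fun e' => hp.ne_bot _ (σ a).2 (by
        rw [Subgroup.eq_bot_iff_card, ← hcards, e', Subgroup.card_bot]))
    have hyG := (Xm_le hC R.long R.n0 (σ a).2 hy).2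
    have h1 := hσ a ⟨y, hyG⟩ hy
    have h2 := hσ b ⟨y, hyG⟩ (e ▸ hy)
    have h3 : α.symm ⟨y, hyG⟩ = 1 := Subtype.ext (R.Xm_inf hC a.2 b.2 (fun e => hne (Subtype.ext e)) h1 h2)
    rw [MulEquiv.map_eq_one_iff] at h3
    exact hy1 (congrArg Subtype.val h3)
  have : Finite {o // o ∈ G.O.orbs} := (List.finite_toSet G.O.orbs).to_subtype
  have : Fintype {o // o ∈ G.O.orbs} := Fintype.ofFinite _
  have hσb : Function.Bijective σ := Finite.injective_iff_bijective.1 hσi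
  have hle : ∀ o : {o // o ∈ G.O.orbs}, Nat.card (G.Uw (σ o).1.2) ≤ Nat.card (G.Uw o.1.2) := fun o => by
    rw [← hcards, ← hcards]
    refine Nat.card_le_card_of_injective
      (fun y : Xm G l0 (σ o).1 => (⟨_, hσ o ⟨y, (Xm_le hC R.long R.n0 (σ o).2 y.2).2⟩ y.2⟩ : Xm G l0 o.1))
      fun y y' e => Subtype.ext ?_
    exact (congrArg Subtype.val (α.symm.injective (Subtype.ext (congrArg Subtype.val e : _))) : _)
  have hsum := (Finset.sum_eq_sum_iff_of_le fun o (_ : o ∈ (Finset.univ : Finset {o // o ∈ G.O.orbs})) => hle o).1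
    (Equiv.sum_comp (Equiv.ofBijective σ hσb) fun o => Nat.card (G.Uw o.1.2))
  intro o ho
  refine ⟨(σ ⟨o, ho⟩).1, (σ ⟨o, ho⟩).2, hsum _ (Finset.mem_univ _), fun x => ⟨fun hx => ?_, fun hx => ?_⟩⟩
  · have hle' : Xm G l0 (σ ⟨o, ho⟩).1 ≤ G.G1 := fun y hy => (Xm_le hC R.long R.n0 (σ ⟨o, ho⟩).2 hy).2
    let f : Xm G l0 (σ ⟨o, ho⟩).1 → Xm G l0 o := fun y => ⟨_, hσ ⟨o, ho⟩ ⟨y, hle' y.2⟩ y.2⟩
    have hf : Function.Injective f := fun y y' e => Subtype.ext (congrArg Subtype.val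
      (α.symm.injective (Subtype.ext (congrArg Subtype.val e : _))) : _)
    have hbij : Function.Bijective f := (Nat.bijective_iff_injective_and_card f).2
      ⟨hf, by rw [hcards, hcards]; exact hsum _ (Finset.mem_univ _)⟩
    obtain ⟨y, hy⟩ := hbij.2 ⟨_, hx⟩
    have : α.symm ⟨y, hle' y.2⟩ = x := Subtype.ext (congrArg Subtype.val hy : _)
    rw [← this, MulEquiv.apply_symm_apply]
    exact y.2
  · have := hσ ⟨o, ho⟩ (α x) hx
    rwa [α.symm_apply_apply] at this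

/-- Every automorphism is, up to an inner one, compatible with the root subgroups and the torus. -/
theorem RankN.normalise (R : RankN G l0 L p) (α : ↥G.G1 ≃* ↥G.G1) :
    ∃ g : ↥G.G1, ∃ β : ↥G.G1 ≃* ↥G.G1, (∀ x, β x = g * α x * g⁻¹) ∧
      PermOn G (fun o => G.Uw o.2) β ∧ PermOn G (Xm G l0) β ∧
      ∀ x : ↥G.G1, (x : GL D.Idx F) ∈ D.diagonalSubgroup F →
        ((β x : ↥G.G1) : GL D.Idx F) ∈ D.diagonalSubgroup F := by
  classical
  have : Finite ↥G.G1 := inferInstance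
  have hp := R.proper
  obtain ⟨S, hS⟩ := R.sylow
  have hmS : ∀ x : ↥G.G1, x ∈ (S : Subgroup ↥G.G1) ↔ (x : GL D.Idx F) ∈ G.Up := fun x => by
    rw [hS, Subgroup.mem_subgroupOf]
  obtain ⟨g0, hg0⟩ := MulAction.exists_smul_eq ↥G.G1 S ((α : MulAut ↥G.G1) • S)
  set α₀ : MulAut ↥G.G1 := (MulAut.conj g0)⁻¹ * α with hα₀
  have hU0 : G.Stab α₀ G.Up := by
    intro x
    rw [← hmS, ← hmS]
    have hsub : MulAut.conj g0 • (S : Subgroup ↥G.G1) = (α : MulAut ↥G.G1) • (S : Subgroup ↥G.G1) :=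
      congrArg Sylow.toSubgroup hg0
    rw [← Subgroup.smul_mem_pointwise_smul_iff (a := (α : MulAut ↥G.G1)) (x := x), ← hsub,
      Subgroup.mem_pointwise_smul_iff_inv_smul_mem]
    rfl
  set n0 : ↥G.G1 := ⟨h.nW l0, R.n0⟩ with hn0
  set m := α₀ n0 with hm
  have sw := swap hC R.long R.n0
  have hUm : ∀ x : ↥G.G1, ((α₀ x : ↥G.G1) : GL D.Idx F) ∈
      G.Up.map (MulAut.conj (m : GL D.Idx F)).toMonoidHom ↔ (x : GL D.Idx F) ∈ G.Um := by
    intro x
    rw [Subgroup.mem_map_equiv, MulAut.conj_symm_apply, ← (sw x).2.1]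
    have := hU0 (n0⁻¹ * x * n0)
    simpa [hm, map_mul, map_inv] using this
  obtain ⟨v, hv, hmv⟩ := opposite hC R.long R.n0 hp m.2 (fun x hx hx' => by
    have h1 : ((α₀.symm ⟨x, hx.2⟩ : ↥G.G1) : GL D.Idx F) ∈ G.Up := (hU0.symm ⟨x, hx.2⟩).2 hx
    have h2 : ((α₀.symm ⟨x, hx.2⟩ : ↥G.G1) : GL D.Idx F) ∈ G.Um := by
      refine (hUm _).1 ?_
      rw [MulEquiv.apply_symm_apply, Subgroup.mem_map_equiv, MulAut.conj_symm_apply]
      exact hx'
    have h3 : α₀.symm ⟨x, hx.2⟩ = 1 := Subtype.ext (Up_inf_Um hC R.long R.n0 h1 h2)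
    rw [MulEquiv.map_eq_one_iff] at h3
    exact congrArg Subtype.val h3)
  set vv : ↥G.G1 := ⟨v, hv.2⟩
  set β : MulAut ↥G.G1 := MulAut.conj vv⁻¹ * α₀ with hβ
  have hβx : ∀ x, ((β x : ↥G.G1) : GL D.Idx F) = v⁻¹ * (α₀ x : ↥G.G1) * v := fun x => by
    simp [hβ, vv]
  have hV1 : G.Stab β G.Um := fun x => by
    rw [hβx, ← hmv, ← hUm]
    rw [Subgroup.mem_map_equiv, MulAut.conj_symm_apply]
  have hU1 : G.Stab β G.Up := fun x => by
    rw [hβx, ← hU0 x]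
    constructor
    · intro hx
      have := mul_mem (mul_mem hv hx) (inv_mem hv)
      convert this using 1
      group
    · intro hx
      exact mul_mem (mul_mem (inv_mem hv) hx) hv
  -- positive root subgroups through the longest element
  set γ : MulAut ↥G.G1 := (MulAut.conj n0)⁻¹ * β * MulAut.conj n0 with hγ
  have hγx : ∀ x, ((γ x : ↥G.G1) : GL D.Idx F) = (h.nW (F := F) l0)⁻¹ * ((β (n0 * x * n0⁻¹) : ↥G.G1) : GL D.Idx F) * h.nW l0 :=
    fun x => by simp [hγ, n0, MulAut.inv_def]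
  have hγU : G.Stab γ G.Up := fun x => by
    rw [hγx, (sw _).2.1, hV1]
    exact (sw (x : GL D.Idx F)).2.2.1
  have hγV : G.Stab γ G.Um := fun x => by
    rw [hγx, (sw _).2.2.2, hU1]
    exact (sw (x : GL D.Idx F)).1
  have b1 := R.stab_Xm hC hU1 hV1
  have c1 := R.stab_Xm hC hγU hγV
  refine ⟨vv⁻¹ * g0⁻¹, β, fun x => ?_, fun o ho => ?_, b1, fun x hx => ?_⟩
  · simp [hβ, hα₀, mul_assoc]
  · obtain ⟨o', ho', hc, hiff⟩ := c1 o ho
    refine ⟨o', ho', hc, fun x => ?_⟩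
    have h1 := hiff (n0⁻¹ * x * n0)
    rw [hγx, mem_Xm, mem_Xm] at h1
    simpa [n0, mul_assoc] using h1
  rw [mem_diag_iff hC R.long R.n0 hp (β x).2]
  obtain ⟨e1, e2⟩ := (mem_diag_iff hC R.long R.n0 hp x.2).1 hx
  refine ⟨fun y hy => ?_, fun y hy => ?_⟩
  · have h1 := (hU1 (x * β.symm ⟨y, hy.2⟩ * x⁻¹)).2 (e1 _ ((hU1.symm ⟨y, hy.2⟩).2 hy))
    simpa using h1
  · have h1 := (hV1 (x * β.symm ⟨y, hy.2⟩ * x⁻¹)).2 (e2 _ ((hV1.symm ⟨y, hy.2⟩).2 hy))
    simpa using h1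

end Cfsg.Agent.Chev.TwistGrp
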