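/-
Automorphisms of ²E₆(q): root subgroups, torus characters and diagonal automorphisms.
-/
import Cfsg.Agent.Lib.Chev.Aut.TwAutN
import Cfsg.Agent.Lib.Chev.Aut.TwAutD4
import Cfsg.Agent.Lib.Chev.Aut.Diag
import Cfsg.Agent.Lib.Chev.Aut.Field
import Cfsg.Agent.Lib.Chev.TwE6Thm
import Cfsg.Agent.Lib.Chev.Cent

set_option autoImplicit false
set_option linter.unusedSectionVars false
set_option maxHeartbeats 800000

namespace Cfsg.Agent.Chev.TwE6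

open Cfsg.Lie
open scoped Matrix

/-- A word for the longest element, commuting with the twist. -/
def l0 : List ℕ := [1, 3, 2, 4, 0, 5, 1, 3, 2, 4, 0, 5, 1, 3, 2, 4, 0, 5, 1, 3, 2, 4, 0, 5, 1, 3, 2, 4, 0, 5,
  1, 3, 2, 4, 0, 5]

/-- The simple roots of an orbit. -/
def rootsOf (o : List ℕ × List ℕ) : List ℕ :=
  if o = ([1], [1]) then [46] else if o = ([3], [3]) then [39] else if o = ([2, 4], [2, 4]) then [42, 37]
  else [56, 36]

theorem autTables :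
    (l0.all fun i => Nat.blt i E6.pk.rank) = true ∧
    ((posL E6.pk).all fun r => !E6.pk.isPos (wl E6.pk l0 r)) = true ∧
    (E6.orbsT.all fun o => (rootsOf o).all fun r => Nat.blt r E6.pk.nroots && E6.pk.isPos r &&
      ((rootsOf o).map E6.pk.ng).contains (wl E6.pk l0 r) &&
      ((rootsOf o).map E6.pk.ng).contains (wl E6.pk o.2 r) &&
      E6.orbsT.all fun o' => o' == o || E6.pk.isPos (wl E6.pk o'.2 r)) = true ∧
    (E6.orbsT.all fun o => ckNeg E6.pk o.2 (rootsOf o)) = true := by decide +kernel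

theorem sims6 : (List.range 6).map E6.pk.sim = [56, 46, 42, 39, 37, 36] := by decide +kernel

theorem ngs6 : E6.pk.ng 46 = 25 ∧ E6.pk.ng 39 = 32 ∧ E6.pk.ng 42 = 29 ∧ E6.pk.ng 37 = 34 ∧
    E6.pk.ng 56 = 15 ∧ E6.pk.ng 36 = 35 := by decide +kernel

theorem ws6 : [25, 32].map (wl E6.pk l0) = [46, 39] ∧ [29, 34, 15, 35].map (wl E6.pk l0) = [37, 42, 36, 56] ∧
    E6.pk.w 1 46 = 25 ∧ E6.pk.w 3 39 = 32 ∧
    E6.pk.w 4 42 = 42 ∧ E6.pk.w 4 37 = 34 ∧ E6.pk.w 2 42 = 29 ∧ E6.pk.w 2 34 = 34 ∧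
    E6.pk.w 5 56 = 56 ∧ E6.pk.w 5 36 = 35 ∧ E6.pk.w 0 56 = 15 ∧ E6.pk.w 0 35 = 35 := by decide +kernel

theorem orth6 : ckOrth E6.pk 56 36 = true ∧ ckOrth E6.pk 15 35 = true ∧ ckOrth E6.pk 15 36 = true ∧
    ckOrth E6.pk 56 35 = true ∧ ckOrth E6.pk 42 37 = true ∧ ckOrth E6.pk 29 34 = true ∧
    ckOrth E6.pk 29 37 = true ∧ ckOrth E6.pk 42 34 = true ∧ ckOrth E6.pk 46 42 = true ∧
    ckOrth E6.pk 46 37 = true ∧ ckOrth E6.pk 46 56 = true ∧ ckOrth E6.pk 46 36 = true ∧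
    ckOrth E6.pk 39 56 = true ∧ ckOrth E6.pk 39 36 = true ∧ ckOrth E6.pk 43 40 = true ∧
    ckOrth E6.pk 37 40 = true := by decide +kernel

theorem cwords6 : E6.pk.cword 39 42 = [(43, -1, 1, 1)] ∧ E6.pk.cword 39 37 = [(40, 1, 1, 1)] ∧
    E6.pk.isPos 43 = true ∧ E6.pk.isPos 40 = true := by decide +kernel

theorem l0_long : Aut.Longest E6.pk l0 := by
  obtain ⟨h1, h2, -⟩ := autTables
  refine ⟨fun i hi => by simpa using List.all_eq_true.1 h1 i hi, fun r hr => ?_⟩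
  simpa using List.all_eq_true.1 h2 r (mem_posL.2 hr)

variable {K : Type*} [Field K] [Fintype K] {q : ℕ} {φ : K →+* K} (hφ : ∀ t, φ t = t ^ q)
  (hK : Fintype.card K = q ^ 2) (hq : IsPrimePow q)
  (G : TwistGrp (T φ)) (hG : G.G1 = twistedE6 K q) (hO : G.O.orbs = E6.orbsT)

include hO in
theorem orb_mem : (([1], [1]) : List ℕ × List ℕ) ∈ G.O.orbs ∧ (([3], [3]) : List ℕ × List ℕ) ∈ G.O.orbs ∧
    (([2, 4], [2, 4]) : List ℕ × List ℕ) ∈ G.O.orbs ∧ (([0, 5], [0, 5]) : List ℕ × List ℕ) ∈ G.O.orbs := by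
  rw [hO]; decide

include hO in
theorem orb_cases {o : List ℕ × List ℕ} (ho : o ∈ G.O.orbs) :
    o = ([1], [1]) ∨ o = ([3], [3]) ∨ o = ([2, 4], [2, 4]) ∨ o = ([0, 5], [0, 5]) := by
  rw [hO] at ho
  simpa only [E6.orbsT, List.mem_cons, List.not_mem_nil, or_false] using ho

include hφ hK hq hG hO in
theorem rankN {p f : ℕ} [Fact p.Prime] (hqp : q = p ^ f) : TwistGrp.RankN G l0 rootsOf p := by
  obtain ⟨-, -, ht, hneg⟩ := autTables
  have hall : ∀ o ∈ G.O.orbs, ∀ r ∈ rootsOf o, r < E6.pk.nroots ∧ E6.pk.isPos r = true ∧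
      wl E6.pk l0 r ∈ (rootsOf o).map E6.pk.ng ∧ wl E6.pk o.2 r ∈ (rootsOf o).map E6.pk.ng ∧
      ∀ o' ∈ G.O.orbs, o' = o ∨ E6.pk.isPos (wl E6.pk o'.2 r) = true := by
    intro o ho r hr
    rw [hO] at ho ⊢
    have h := List.all_eq_true.1 (List.all_eq_true.1 ht o ho) r hr
    simp only [Bool.and_eq_true, Nat.blt_eq, List.contains_iff_mem, List.all_eq_true, Bool.or_eq_true,
      beq_iff_eq] at h
    exact ⟨h.1.1.1.1, h.1.1.1.2, h.1.1.2, h.1.2, h.2⟩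
  obtain ⟨m1, m3, m4, m5⟩ := orb_mem G hO
  refine
    { proper := proper hφ hK hq G hO
      long := l0_long
      n0 := ?_
      od := fun o ho => ⟨ho, List.all_eq_true.1 hneg o (hO ▸ ho), fun r hr => (hall o ho r hr).1,
        fun r hr => (hall o ho r hr).2.2.1, fun r hr => (hall o ho r hr).2.2.2.1⟩
      sep := fun o ho o' ho' hne r hr => ((hall o' ho' r hr).2.2.2.2 o ho).resolve_left hne
      sylow := ?_ }
  · rw [show l0 = ([1] ++ [3] ++ [2, 4] ++ [0, 5]) ++ ([1] ++ [3] ++ [2, 4] ++ [0, 5]) ++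
      ([1] ++ [3] ++ [2, 4] ++ [0, 5]) ++ ([1] ++ [3] ++ [2, 4] ++ [0, 5]) ++
      ([1] ++ [3] ++ [2, 4] ++ [0, 5]) ++ ([1] ++ [3] ++ [2, 4] ++ [0, 5]) from rfl]
    simp only [E6.ok.nW_append]
    have := mul_mem (mul_mem (mul_mem (G.nW_mem _ m1) (G.nW_mem _ m3)) (G.nW_mem _ m4)) (G.nW_mem _ m5)
    exact mul_mem (mul_mem (mul_mem (mul_mem (mul_mem this this) this) this) this) this
  · have hq2 := hq.two_le
    have hUeq : G.Up = chevE6.posUnipotent K ⊓ (T φ).fixed := by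
      rw [TwistGrp.Up, G.eq_fixed ckComm_E6]
    have hcU : Nat.card ↥(G.Up.subgroupOf G.G1) = q ^ 36 := by
      rw [Nat.card_congr (Subgroup.subgroupOfEquivOfLe (H := G.Up) (K := G.G1) inf_le_right).toEquiv, hUeq,
        card_pos hφ hK hq G hO]
    have hPg : IsPGroup p ↥(G.Up.subgroupOf G.G1) := IsPGroup.of_card (n := f * 36) (by rw [hcU, hqp, pow_mul])
    have hidx : ¬ p ∣ (G.Up.subgroupOf G.G1).index := by
      intro hdvd
      have h1 := (G.Up.subgroupOf G.G1).card_mul_index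
      rw [hcU] at h1
      have h2 := order_eq hφ hK hq G hG hO
      rw [← hG, ← h1, mul_left_comm, mul_assoc, mul_assoc, mul_assoc, mul_assoc, mul_assoc] at h2
      have h3 := Nat.eq_of_mul_eq_mul_left (by positivity) h2
      have hdvd' := dvd_mul_of_dvd_right hdvd (Nat.gcd 3 (q + 1))
      rw [h3] at hdvd'
      have hz := (ZMod.natCast_eq_zero_iff _ _).2 hdvd'
      have hq0 : (q : ZMod p) = 0 := by
        rw [hqp, Nat.cast_pow, ZMod.natCast_self, zero_pow]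
        rintro rfl
        rw [pow_zero] at hqp
        omega
      have hl : ∀ k, 1 ≤ q ^ k := fun k => Nat.one_le_pow _ _ (by omega)
      simp [Nat.cast_sub (hl 2), Nat.cast_sub (hl 6), Nat.cast_sub (hl 8), Nat.cast_sub (hl 12), hq0] at hz
    exact ⟨hPg.toSylow hidx, rfl⟩

/-- A pair of root elements of an orbit of size two. -/
noncomputable def pr (φ : K →+* K) (a b : ℕ) (t : K) : GL chevE6.Idx K := E6.ok.xG a t * E6.ok.xG b (φ t)

theorem pr_zero (a b : ℕ) : pr φ a b 0 = 1 := by simp [pr, E6.ok.xG_zero]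

theorem pr_add {a b : ℕ} (ho : ckOrth E6.pk a b = true) (s t : K) :
    pr φ a b s * pr φ a b t = pr φ a b (s + t) := by
  simp only [pr, map_add, ← E6.ok.xG_add]
  rw [← mul_assoc, mul_assoc (E6.ok.xG a s), ← (E6.ok.commute_xG ckComm_E6 ho t (φ s)).eq]
  simp [mul_assoc]

theorem pr_inj {a b : ℕ} (hp : (a, b) ∈ [((42 : ℕ), (37 : ℕ)), (56, 36)]) {s t : K}
    (e : pr φ a b s = pr φ a b t) : s = t := by
  simp only [List.mem_cons, List.not_mem_nil, or_false, Prod.mk.injEq] at hp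
  rcases hp with ⟨rfl, rfl⟩ | ⟨rfl, rfl⟩
  exacts [(Std.pair_unique ckComm_E6 (by decide) (by decide) orth6.2.2.2.2.1 e).1,
    (Std.pair_unique ckComm_E6 (by decide) (by decide) orth6.1 e).1]

include hφ hG in
theorem mem_G1 : (∀ r ∈ [46, 25, 39, 32], ∀ t, φ t = t → E6.ok.xG r t ∈ G.G1) ∧
    ∀ rs ∈ [((56 : ℕ), (36 : ℕ)), (15, 35), (42, 37), (29, 34)], ∀ t, pr φ rs.1 rs.2 t ∈ G.G1 := by
  refine ⟨fun r hr t ht => ?_, fun rs hr t => ?_⟩ <;> rw [hG]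
  · exact gen1 hr ((hφ t).symm.trans ht)
  · exact gen2 φ hφ hr t

include hφ hG in
/-- Induction on the generators. -/
theorem G1_induction {M : Subgroup (GL chevE6.Idx K)}
    (h1 : ∀ r ∈ [46, 25, 39, 32], ∀ t, φ t = t → E6.ok.xG r t ∈ M)
    (h2 : ∀ rs ∈ [((56 : ℕ), (36 : ℕ)), (15, 35), (42, 37), (29, 34)], ∀ t, pr φ rs.1 rs.2 t ∈ M) :
    G.G1 ≤ M := by
  rw [hG]
  refine (Subgroup.closure_le _).2 fun g hg => gens (P' := fun g => g ∈ M) (fun r hr t ht => ?_)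
    (fun rs hr t => ?_) hg
  · exact h1 r hr t ((hφ t).trans ht)
  · rw [← hφ]; exact h2 rs hr t

include hO in
theorem Uw_single {a i : ℕ} (hp : (a, i) ∈ [((46 : ℕ), (1 : ℕ)), (39, 3)]) {x : GL chevE6.Idx K}
    (hx : x ∈ G.Uw [i]) : ∃ t, φ t = t ∧ x = E6.ok.xG a t := by
  have hc := cks
  simp only [Bool.and_eq_true] at hc
  obtain ⟨⟨⟨⟨⟨⟨⟨⟨h46, -⟩, h39⟩, -⟩, -⟩, -⟩, -⟩, -⟩, -⟩ := hc
  obtain ⟨n1, n2, -, -⟩ := neg1
  obtain ⟨hx, hf⟩ := hx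
  simp only [List.mem_cons, List.not_mem_nil, or_false, Prod.mk.injEq] at hp
  rcases hp with ⟨rfl, rfl⟩ | ⟨rfl, rfl⟩
  · rw [genR_neg n1 (by decide)] at hx
    exact Std.fixed_single ckG_E6 φ (by decide) h46 ⟨hx, hf⟩
  · rw [genR_neg n2 (by decide)] at hx
    exact Std.fixed_single ckG_E6 φ (by decide) h39 ⟨hx, hf⟩

theorem Uw_pair {a b : ℕ} {w : List ℕ}
    (hp : (a, b, w) ∈ [((42 : ℕ), (37 : ℕ), [2, 4]), (56, 36, [0, 5])]) {x : GL chevE6.Idx K}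
    (hx : x ∈ G.Uw w) : ∃ t, x = pr φ a b t := by
  have hc := cks
  simp only [Bool.and_eq_true] at hc
  obtain ⟨⟨⟨⟨⟨⟨⟨⟨-, -⟩, -⟩, -⟩, -⟩, p1⟩, -⟩, p3⟩, -⟩ := hc
  obtain ⟨-, -, n3, n4⟩ := neg1
  obtain ⟨hx, hf⟩ := hx
  simp only [List.mem_cons, List.not_mem_nil, or_false, Prod.mk.injEq] at hp
  rcases hp with ⟨rfl, rfl, rfl⟩ | ⟨rfl, rfl, rfl⟩
  · rw [genR_neg n3 (by decide)] at hx
    exact Std.fixed_pair ckG_E6 φ ckComm_E6 (by decide) (by decide) p3 ⟨hx, hf⟩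
  · rw [genR_neg n4 (by decide)] at hx
    exact Std.fixed_pair ckG_E6 φ ckComm_E6 (by decide) (by decide) p1 ⟨hx, hf⟩

include hO in
theorem mem_Uw {o : List ℕ × List ℕ} (ho : o ∈ G.O.orbs) {x : GL chevE6.Idx K} (hx : x ∈ G.G1)
    (hR : x ∈ E6.ok.genR (fun r => r ∈ rootsOf o)) : x ∈ G.Uw o.2 := by
  obtain ⟨-, -, ht, hneg⟩ := autTables
  refine ⟨?_, G.le_fixed hx⟩
  rw [genR_neg (List.all_eq_true.1 hneg o (hO ▸ ho)) (fun r hr => by
    have h := List.all_eq_true.1 (List.all_eq_true.1 ht o (hO ▸ ho)) r hr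
    simp only [Bool.and_eq_true, Nat.blt_eq] at h
    exact h.1.1.1.1)]
  exact hR

include hO in
/-- Elements of the negative root subgroup of an orbit. -/
theorem mem_Xm' (hn0 : E6.ok.nW l0 ∈ G.G1) {o : List ℕ × List ℕ} {L : List ℕ}
    (ho : (o, L) ∈ [((([1], [1]) : List ℕ × List ℕ), [25]), (([3], [3]), [32]), (([2, 4], [2, 4]), [29, 34]),
      (([0, 5], [0, 5]), [15, 35])]) {x : GL chevE6.Idx K} (hx : x ∈ G.G1)
    (hR : x ∈ E6.ok.genR (fun r => r ∈ L)) : x ∈ TwistGrp.Xm G l0 o := by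
  obtain ⟨m1, m3, m4, m5⟩ := orb_mem G hO
  obtain ⟨w1, w2, -⟩ := ws6
  simp only [List.map_cons, List.map_nil, List.cons.injEq, and_true] at w1 w2
  simp only [List.mem_cons, List.not_mem_nil, or_false, Prod.mk.injEq] at ho
  rw [TwistGrp.mem_Xm]
  have hm := mul_mem (mul_mem hn0 hx) (inv_mem hn0)
  rcases ho with ⟨rfl, rfl⟩ | ⟨rfl, rfl⟩ | ⟨rfl, rfl⟩ | ⟨rfl, rfl⟩
  · refine mem_Uw G hO m1 hm (TwD4.conj_genR E6.ok l0_long.1 (fun r hr => ?_) hR)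
    simp only [List.mem_singleton] at hr; subst hr
    exact ⟨by decide, by simp [rootsOf, w1.1]⟩
  · refine mem_Uw G hO m3 hm (TwD4.conj_genR E6.ok l0_long.1 (fun r hr => ?_) hR)
    simp only [List.mem_singleton] at hr; subst hr
    exact ⟨by decide, by simp [rootsOf, w1.2]⟩
  · refine mem_Uw G hO m4 hm (TwD4.conj_genR E6.ok l0_long.1 (fun r hr => ?_) hR)
    simp only [List.mem_cons, List.not_mem_nil, or_false] at hr
    rcases hr with rfl | rfl <;> exact ⟨by decide, by simp [rootsOf, w2.1, w2.2.1]⟩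
  · refine mem_Uw G hO m5 hm (TwD4.conj_genR E6.ok l0_long.1 (fun r hr => ?_) hR)
    simp only [List.mem_cons, List.not_mem_nil, or_false] at hr
    rcases hr with rfl | rfl <;> exact ⟨by decide, by simp [rootsOf, w2.2.2.1, w2.2.2.2]⟩

include hO in
theorem form_single {a c i : ℕ} (hp : (a, c, i) ∈ [((46 : ℕ), (25 : ℕ), (1 : ℕ)), (39, 32, 3)])
    {x : GL chevE6.Idx K} (hx : x ∈ TwistGrp.Xm G l0 ([i], [i])) : ∃ t, φ t = t ∧ x = E6.ok.xG c t := by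
  have hx' := TwistGrp.mem_Xm.1 hx
  have hp' : (a, i) ∈ [((46 : ℕ), (1 : ℕ)), (39, 3)] := by
    simp only [List.mem_cons, List.not_mem_nil, or_false, Prod.mk.injEq] at hp ⊢; tauto
  obtain ⟨t, ht, e⟩ := Uw_single G hO hp' hx'
  have hw : wl E6.pk l0 c = a ∧ c < E6.pk.nroots := by
    obtain ⟨w1, -⟩ := ws6
    simp only [List.map_cons, List.map_nil, List.cons.injEq, and_true] at w1
    simp only [List.mem_cons, List.not_mem_nil, or_false, Prod.mk.injEq] at hp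
    rcases hp with ⟨rfl, rfl, -⟩ | ⟨rfl, rfl, -⟩
    exacts [⟨w1.1, by decide⟩, ⟨w1.2, by decide⟩]
  obtain ⟨σ, hσ, hxx⟩ := E6.ok.nW_xG (F := K) l0 l0_long.1 c hw.2
  refine ⟨σ * t, ?_, ?_⟩
  · rcases mul_self_eq_one_iff.1 hσ with e | e <;> simp [e, ht]
  · have h1 := (hxx (σ * t)).1
    rw [hw.1, ← mul_assoc, hσ, one_mul, ← e] at h1
    exact (mul_left_cancel (mul_right_cancel h1)).symm

include hφ hK hG hO in
theorem form_pair (hn0 : E6.ok.nW l0 ∈ G.G1) {a b c d : ℕ} {w : List ℕ}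
    (hp : (a, b, c, d, w) ∈ [((42 : ℕ), (37 : ℕ), (29 : ℕ), (34 : ℕ), [2, 4]), (56, 36, 15, 35, [0, 5])])
    {x : GL chevE6.Idx K} (hx : x ∈ TwistGrp.Xm G l0 (w, w)) : ∃ t, x = pr φ c d t := by
  obtain ⟨-, w2, -⟩ := ws6
  simp only [List.map_cons, List.map_nil, List.cons.injEq, and_true] at w2
  obtain ⟨o1, o2, -, -, o5, o6, -⟩ := orth6
  simp only [List.mem_cons, List.not_mem_nil, or_false, Prod.mk.injEq] at hp
  have hd : (a, b, w) ∈ [((42 : ℕ), (37 : ℕ), [2, 4]), (56, 36, [0, 5])] ∧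
      (((w, w) : List ℕ × List ℕ), [c, d]) ∈ [((([1], [1]) : List ℕ × List ℕ), [25]), (([3], [3]), [32]),
        (([2, 4], [2, 4]), [29, 34]), (([0, 5], [0, 5]), [15, 35])] ∧
      (c, d) ∈ [((56 : ℕ), (36 : ℕ)), (15, 35), (42, 37), (29, 34)] ∧
      wl E6.pk l0 c = b ∧ wl E6.pk l0 d = a ∧ c < E6.pk.nroots ∧ d < E6.pk.nroots ∧
      ckOrth E6.pk a b = true ∧ E6.pk.isPos a = true ∧ E6.pk.isPos b = true := by
    rcases hp with ⟨rfl, rfl, rfl, rfl, rfl⟩ | ⟨rfl, rfl, rfl, rfl, rfl⟩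
    exacts [⟨by simp, by simp, by simp, w2.1, w2.2.1, by decide, by decide, o5, by decide, by decide⟩,
      ⟨by simp, by simp, by simp, w2.2.2.1, w2.2.2.2, by decide, by decide, o1, by decide, by decide⟩]
  obtain ⟨h1, h2, h3, hc, hd', hcn, hdn, hab, ha, hb⟩ := hd
  have hx' : E6.ok.nW l0 * x * (E6.ok.nW l0)⁻¹ ∈ G.Uw w :=
    (TwistGrp.mem_Xm (G := G) (l0 := l0) (o := (w, w))).1 hx
  obtain ⟨t, e⟩ := Uw_pair G h1 hx'
  obtain ⟨σa, hσ, hxa⟩ := E6.ok.nW_xG (F := K) l0 l0_long.1 c hcn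
  obtain ⟨σb, -, hxb⟩ := E6.ok.nW_xG (F := K) l0 l0_long.1 d hdn
  refine ⟨σa * φ t, ?_⟩
  have hy := (mem_G1 hφ G hG).2 (c, d) h3 (σa * φ t)
  have hR : pr φ c d (σa * φ t) ∈ E6.ok.genR (fun r => r ∈ ([c, d] : List ℕ)) :=
    mul_mem (E6.ok.xG_mem_genR (by simp) _) (E6.ok.xG_mem_genR (by simp) _)
  have hy' : E6.ok.nW l0 * pr φ c d (σa * φ t) * (E6.ok.nW l0)⁻¹ ∈ G.Uw w :=
    (TwistGrp.mem_Xm (G := G) (l0 := l0) (o := (w, w))).1 (mem_Xm' G hO hn0 h2 hy hR)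
  obtain ⟨s, hs⟩ := Uw_pair G h1 hy'
  have e2 : pr φ a b s = E6.ok.xG a (σb * φ (σa * φ t)) * E6.ok.xG b (σa * (σa * φ t)) := by
    rw [← hs, pr, show ∀ n u v : GL chevE6.Idx K, n * (u * v) * n⁻¹ = (n * u * n⁻¹) * (n * v * n⁻¹) by
      intros; group, (hxa _).1, (hxb _).1, hc, hd', (E6.ok.commute_xG ckComm_E6 hab _ _).eq]
  have hst : φ s = φ t := by
    rw [(Std.pair_unique ckComm_E6 ha hb hab e2).2, ← mul_assoc, hσ, one_mul]
  rw [φ.injective hst, ← e] at hs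
  exact (mul_left_cancel (mul_right_cancel hs)).symm

theorem hH_conj (c : Fin 6 → Kˣ) {r : ℕ} (hr : r < E6.pk.nroots) (t : K) :
    hH c * E6.ok.xG r t * (hH c)⁻¹ = E6.ok.xG r (hchar E6.pk c r * t) := E6.ok.hHom_xG c hr t

theorem hH_diag (c : Fin 6 → Kˣ) : hH c ∈ chevE6.diagonalSubgroup K := E6.ok.mem_diagonal_iff.2 ⟨c, rfl⟩

theorem chars (c : Fin 6 → Kˣ) :
    hchar E6.pk c 56 = (c 0 : K) * c 0 / c 2 ∧ hchar E6.pk c 46 = (c 1 : K) * c 1 / c 3 ∧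
      hchar E6.pk c 42 = (c 2 : K) * c 2 / (c 0 * c 3) ∧ hchar E6.pk c 39 = (c 3 : K) * c 3 / (c 1 * c 2 * c 4) ∧
      hchar E6.pk c 37 = (c 4 : K) * c 4 / (c 5 * c 3) ∧ hchar E6.pk c 36 = (c 5 : K) * c 5 / c 4 := by
  have hA : (List.range 6).map (fun i => [56, 46, 42, 39, 37, 36].map fun r => E6.pk.A i r) =
      [[2, 0, -1, 0, 0, 0], [0, 2, 0, -1, 0, 0], [-1, 0, 2, -1, 0, 0], [0, -1, -1, 2, -1, 0],
       [0, 0, 0, -1, 2, -1], [0, 0, 0, 0, -1, 2]] := by decide +kernel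
  simp [List.range_succ] at hA
  obtain ⟨⟨a1, a2, a3, a4, a5, a6⟩, ⟨b1, b2, b3, b4, b5, b6⟩, ⟨d1, d2, d3, d4, d5, d6⟩,
    ⟨e1, e2, e3, e4, e5, e6⟩, ⟨f1, f2, f3, f4, f5, f6⟩, ⟨g1, g2, g3, g4, g5, g6⟩⟩ := hA
  refine ⟨?_, ?_, ?_, ?_, ?_, ?_⟩ <;>
    (show ∏ i : Fin 6, _ = _
     rw [Fin.prod_univ_six]
     simp [a1, a2, a3, a4, a5, a6, b1, b2, b3, b4, b5, b6, d1, d2, d3, d4, d5, d6, e1, e2, e3, e4, e5, e6,
       f1, f2, f3, f4, f5, f6, g1, g2, g3, g4, g5, g6, zpow_two, div_eq_mul_inv, mul_inv] <;> ring)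

theorem chars_fixed {c : Fin 6 → Kˣ} (hc : (T φ).τ c = c) :
    φ (hchar E6.pk c 46) = hchar E6.pk c 46 ∧ φ (hchar E6.pk c 39) = hchar E6.pk c 39 ∧
      φ (hchar E6.pk c 42) = hchar E6.pk c 37 ∧ φ (hchar E6.pk c 56) = hchar E6.pk c 36 := by
  obtain ⟨t0, t1, t2, t3, t4, t5⟩ := tau_fixed φ hc
  obtain ⟨e56, e46, e42, e39, e37, e36⟩ := chars c
  rw [e56, e46, e42, e39, e37, e36]
  simp only [map_div₀, map_mul, t0, t1, t2, t3, t4, t5]
  refine ⟨?_, ?_, ?_, ?_⟩ <;> first | trivial | ring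

theorem hH_pr {c : Fin 6 → Kˣ} {a b : ℕ} (ha : a < E6.pk.nroots) (hb : b < E6.pk.nroots)
    (hc : φ (hchar E6.pk c a) = hchar E6.pk c b) (t : K) :
    hH c * pr φ a b t * (hH c)⁻¹ = pr φ a b (hchar E6.pk c a * t) := by
  rw [pr, pr, show ∀ n u v : GL chevE6.Idx K, n * (u * v) * n⁻¹ = (n * u * n⁻¹) * (n * v * n⁻¹) by
    intros; group, hH_conj c ha, hH_conj c hb, map_mul, hc]

/-- A torus parameter in the fixed torus. -/
def fixC (φ : K →+* K) (a b c d : Kˣ) : Fin 6 → Kˣ :=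
  ![a, b, c, d, Units.map φ.toMonoidHom c, Units.map φ.toMonoidHom a]

include hφ hK in
theorem fixC_tau {a b c d : Kˣ} (hb : φ (b : K) = b) (hd : φ (d : K) = d) :
    (T φ).τ (fixC φ a b c d) = fixC φ a b c d := by
  refine (tau_apply φ _).trans ?_
  funext k
  fin_cases k <;> apply Units.ext <;> simp [fixC, hb, hd, phi2 φ hφ hK]

theorem tau_ext {c d : Fin 6 → Kˣ} (hc : (T φ).τ c = c) (hd : (T φ).τ d = d) (h0 : c 0 = d 0) (h1 : c 1 = d 1)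
    (h2 : c 2 = d 2) (h3 : c 3 = d 3) : c = d := by
  obtain ⟨-, -, -, -, c4, c5⟩ := tau_fixed φ hc
  obtain ⟨-, -, -, -, d4, d5⟩ := tau_fixed φ hd
  funext j
  fin_cases j
  exacts [h0, h1, h2, h3, Units.ext (c4.symm.trans ((congrArg (fun u : Kˣ => φ (u : K)) h2).trans d4)),
    Units.ext (c5.symm.trans ((congrArg (fun u : Kˣ => φ (u : K)) h0).trans d5))]

include hφ hK in
theorem diag_cases {g : GL chevE6.Idx K} (hd : g ∈ chevE6.diagonalSubgroup K) (hg : g ∈ G.G1) :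
    ∃ c, (T φ).τ c = c ∧ g = hH c := by
  obtain ⟨c, hc, rfl⟩ := Std.diag_lift (h := E6.ok) ckG_E6 φ (e := 3) (n := 2) (by decide)
    (fun c e => kernel_cube e) (tau_two φ (phi2 φ hφ hK)) hd (G.le_fixed hg)
  exact ⟨c, hc, rfl⟩

end Cfsg.Agent.Chev.TwE6
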