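/-
The outer automorphism group of ²E₆(q): diagonal automorphisms and field automorphisms.
-/
import Cfsg.Agent.Lib.Chev.Aut.TwAutE6

set_option autoImplicit false
set_option linter.unusedSectionVars false
set_option maxHeartbeats 1000000

namespace Cfsg.Agent.Chev.TwE6

open Cfsg.Lie
open scoped Matrix

/-- An automorphism compatible with a pair of opposite root groups is determined on the opposite one. -/
theorem opp_hom {Γ K : Type*} [Group Γ] [Finite Γ] [Field K] {P : K → Prop}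
    (hPn : ∀ v, P v → P (-v)) (hPi : ∀ v, P v → P v⁻¹) (hPa : ∀ v w, P v → P w → P (v + w))
    {G1 A B : Subgroup Γ} (hAG : A ≤ G1) (hBG : B ≤ G1) (hAB : ∀ g ∈ A, g ∈ B → g = 1) (hA : A ≠ ⊥)
    (hc : Nat.card A = Nat.card B)
    {x y : K → Γ} (hxA : ∀ v, P v → x v ∈ A) (hyB : ∀ v, P v → y v ∈ B)
    (hx : ∀ v w, x v * x w = x (v + w)) (hy : ∀ v w, y v * y w = y (v + w))
    (hn : ∀ v, v ≠ 0 → P v → ∀ g ∈ A, x v * y (-v⁻¹) * x v * g * (x v * y (-v⁻¹) * x v)⁻¹ ∈ B)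
    (hBf : ∀ g ∈ B, ∃ s, P s ∧ g = y s)
    {F : Γ → Γ} (Fm : ∀ {g g'}, g ∈ G1 → g' ∈ G1 → F (g * g') = F g * F g')
    (Fi : ∀ {g}, g ∈ G1 → F g⁻¹ = (F g)⁻¹)
    (FA : ∀ g ∈ A, ∃ g' ∈ A, F g' = g) (FB : ∀ g ∈ B, F g ∈ B)
    {u b : K} (hu : u ≠ 0) (hPu : P u) (hb : b ≠ 0) (hPb : P b) (hF : F (x u) = x b) :
    F (y (-u⁻¹)) = y (-b⁻¹) := by
  have hy' : y (-u⁻¹) ∈ B := hyB _ (hPn _ (hPi _ hPu))
  obtain ⟨s, hs, es⟩ := hBf _ (FB _ hy')
  rw [es]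
  congr 1
  refine TwD4.opp_unique hPn hPi hPa hAB hA hc hxA hx hy hn hb hPb hs fun g hg => ?_
  obtain ⟨g', hg', rfl⟩ := FA g hg
  have hxG := hAG (hxA u hPu)
  have hyG := hBG hy'
  have hN := FB _ (hn u hu hPu g' hg')
  have hnG := mul_mem (mul_mem hxG hyG) hxG
  rw [Fm (mul_mem hnG (hAG hg')) (inv_mem hnG), Fm hnG (hAG hg'), Fi hnG, Fm (mul_mem hxG hyG) hxG,
    Fm hxG hyG, hF, es] at hN
  exact hN

variable {K : Type*} [Field K] [Fintype K] {q : ℕ} {φ : K →+* K} (hφ : ∀ t, φ t = t ^ q)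
  (hK : Fintype.card K = q ^ 2) (hq : IsPrimePow q)
  (G : TwistGrp (T φ)) (hG : G.G1 = twistedE6 K q) (hO : G.O.orbs = E6.orbsT)

theorem nt_prod {a b : ℕ} (h : (a, b) ∈ [((42 : ℕ), (37 : ℕ)), (56, 36)]) (t : K) :
    E6.ok.nt a t * E6.ok.nt b (φ t) =
      pr φ a b t * pr φ (E6.pk.ng a) (E6.pk.ng b) (-t⁻¹) * pr φ a b t := by
  obtain ⟨o1, o2, o3, o4, o5, o6, o7, o8, -⟩ := orth6
  obtain ⟨-, -, n42, n37, n56, n36⟩ := ngs6
  simp only [List.mem_cons, List.not_mem_nil, or_false, Prod.mk.injEq] at h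
  rcases h with ⟨rfl, rfl⟩ | ⟨rfl, rfl⟩
  · rw [E6.ok.nt_orth ckComm_E6 o5 (n42.symm ▸ o7) (n37.symm ▸ o8)]
    simp [pr, map_neg, map_inv₀]
  · rw [E6.ok.nt_orth ckComm_E6 o1 (n56.symm ▸ o3) (n36.symm ▸ o4)]
    simp [pr, map_neg, map_inv₀]

include hφ hG hO in
theorem conj_single (hn0 : E6.ok.nW l0 ∈ G.G1) {a c i : ℕ}
    (hp : (a, c, i) ∈ [((46 : ℕ), (25 : ℕ), (1 : ℕ)), (39, 32, 3)]) {v : K} (hv : v ≠ 0) (hvf : φ v = v)
    {g : GL chevE6.Idx K} (hg : g ∈ G.Uw [i]) :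
    E6.ok.xG a v * E6.ok.xG c (-v⁻¹) * E6.ok.xG a v * g * (E6.ok.xG a v * E6.ok.xG c (-v⁻¹) * E6.ok.xG a v)⁻¹ ∈
      TwistGrp.Xm G l0 ([i], [i]) := by
  obtain ⟨m1, m2⟩ := mem_G1 hφ G hG
  obtain ⟨n1, n3, -⟩ := ngs6
  obtain ⟨-, -, w1, w3, -⟩ := ws6
  have hwf : φ (-v⁻¹) = -v⁻¹ := by rw [map_neg, map_inv₀, hvf]
  simp only [List.mem_cons, List.not_mem_nil, or_false, Prod.mk.injEq] at hp
  rcases hp with ⟨rfl, rfl, rfl⟩ | ⟨rfl, rfl, rfl⟩
  · obtain ⟨w, hw, rfl⟩ := Uw_single G hO (a := 46) (by simp) hg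
    have hn := mul_mem (mul_mem (m1 46 (by simp) v hvf) (m1 25 (by simp) _ hwf)) (m1 46 (by simp) v hvf)
    refine mem_Xm' G hO hn0 (L := [25]) (by simp) (mul_mem (mul_mem hn (m1 46 (by simp) w hw)) (inv_mem hn)) ?_
    obtain ⟨k, -, hk⟩ := Aut.nt_conj E6.ok (show 1 < E6.pk.rank by decide) hv (show 46 < E6.pk.nroots by decide)
    rw [show E6.ok.xG 46 v * E6.ok.xG 25 (-v⁻¹) * E6.ok.xG 46 v = E6.ok.nt (E6.pk.sim 1) v by
      rw [show E6.pk.sim 1 = 46 from rfl, Ok.nt, n1], hk, w1]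
    exact E6.ok.xG_mem_genR (by simp) _
  · obtain ⟨w, hw, rfl⟩ := Uw_single G hO (a := 39) (by simp) hg
    have hn := mul_mem (mul_mem (m1 39 (by simp) v hvf) (m1 32 (by simp) _ hwf)) (m1 39 (by simp) v hvf)
    refine mem_Xm' G hO hn0 (L := [32]) (by simp) (mul_mem (mul_mem hn (m1 39 (by simp) w hw)) (inv_mem hn)) ?_
    obtain ⟨k, -, hk⟩ := Aut.nt_conj E6.ok (show 3 < E6.pk.rank by decide) hv (show 39 < E6.pk.nroots by decide)
    rw [show E6.ok.xG 39 v * E6.ok.xG 32 (-v⁻¹) * E6.ok.xG 39 v = E6.ok.nt (E6.pk.sim 3) v by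
      rw [show E6.pk.sim 3 = 39 from rfl, Ok.nt, n3], hk, w3]
    exact E6.ok.xG_mem_genR (by simp) _

include hφ hG hO in
theorem conj_pair (hn0 : E6.ok.nW l0 ∈ G.G1) {a b c d : ℕ} {w : List ℕ}
    (hp : (a, b, c, d, w) ∈ [((42 : ℕ), (37 : ℕ), (29 : ℕ), (34 : ℕ), [2, 4]), (56, 36, 15, 35, [0, 5])])
    {v : K} (hv : v ≠ 0) {g : GL chevE6.Idx K} (hg : g ∈ G.Uw w) :
    pr φ a b v * pr φ c d (-v⁻¹) * pr φ a b v * g * (pr φ a b v * pr φ c d (-v⁻¹) * pr φ a b v)⁻¹ ∈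
      TwistGrp.Xm G l0 (w, w) := by
  obtain ⟨-, m2⟩ := mem_G1 hφ G hG
  obtain ⟨-, -, n42, n37, n56, n36⟩ := ngs6
  obtain ⟨-, -, -, -, a1, a2, a3, a4, b1, b2, b3, b4⟩ := ws6
  have hφv : φ v ≠ 0 := (map_ne_zero φ).2 hv
  simp only [List.mem_cons, List.not_mem_nil, or_false, Prod.mk.injEq] at hp
  rcases hp with ⟨rfl, rfl, rfl, rfl, rfl⟩ | ⟨rfl, rfl, rfl, rfl, rfl⟩
  · obtain ⟨s, rfl⟩ := Uw_pair G (a := 42) (b := 37) (by simp) hg
    have hn := mul_mem (mul_mem (m2 (42, 37) (by simp) v) (m2 (29, 34) (by simp) (-v⁻¹))) (m2 (42, 37) (by simp) v)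
    refine mem_Xm' G hO hn0 (o := ([2, 4], [2, 4])) (L := [29, 34]) (by simp)
      (mul_mem (mul_mem hn (m2 (42, 37) (by simp) s)) (inv_mem hn)) ?_
    rw [show pr φ 42 37 v * pr φ 29 34 (-v⁻¹) * pr φ 42 37 v =
      E6.ok.nt (E6.pk.sim 2) v * E6.ok.nt (E6.pk.sim 4) (φ v) by
        rw [show E6.pk.sim 2 = 42 from rfl, show E6.pk.sim 4 = 37 from rfl, nt_prod (by simp), n42, n37],
      show pr φ 42 37 s = E6.ok.xG 42 s * E6.ok.xG 37 (φ s) from rfl,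
      show ∀ m n x y : GL chevE6.Idx K, m * n * (x * y) * (m * n)⁻¹ =
        (m * (n * x * n⁻¹) * m⁻¹) * (m * (n * y * n⁻¹) * m⁻¹) by intros; group]
    obtain ⟨k, -, hk⟩ := Aut.nt_conj E6.ok (show 4 < E6.pk.rank by decide) hφv (show 42 < E6.pk.nroots by decide)
    obtain ⟨k', -, hk'⟩ := Aut.nt_conj E6.ok (show 4 < E6.pk.rank by decide) hφv (show 37 < E6.pk.nroots by decide)
    obtain ⟨l, -, hl⟩ := Aut.nt_conj E6.ok (show 2 < E6.pk.rank by decide) hv (show 42 < E6.pk.nroots by decide)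
    obtain ⟨l', -, hl'⟩ := Aut.nt_conj E6.ok (show 2 < E6.pk.rank by decide) hv (show 34 < E6.pk.nroots by decide)
    rw [hk, hk', a1, a2, hl, hl', a3, a4]
    exact mul_mem (E6.ok.xG_mem_genR (by simp) _) (E6.ok.xG_mem_genR (by simp) _)
  · obtain ⟨s, rfl⟩ := Uw_pair G (a := 56) (b := 36) (by simp) hg
    have hn := mul_mem (mul_mem (m2 (56, 36) (by simp) v) (m2 (15, 35) (by simp) (-v⁻¹))) (m2 (56, 36) (by simp) v)
    refine mem_Xm' G hO hn0 (o := ([0, 5], [0, 5])) (L := [15, 35]) (by simp)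
      (mul_mem (mul_mem hn (m2 (56, 36) (by simp) s)) (inv_mem hn)) ?_
    rw [show pr φ 56 36 v * pr φ 15 35 (-v⁻¹) * pr φ 56 36 v =
      E6.ok.nt (E6.pk.sim 0) v * E6.ok.nt (E6.pk.sim 5) (φ v) by
        rw [show E6.pk.sim 0 = 56 from rfl, show E6.pk.sim 5 = 36 from rfl, nt_prod (by simp), n56, n36],
      show pr φ 56 36 s = E6.ok.xG 56 s * E6.ok.xG 36 (φ s) from rfl,
      show ∀ m n x y : GL chevE6.Idx K, m * n * (x * y) * (m * n)⁻¹ =
        (m * (n * x * n⁻¹) * m⁻¹) * (m * (n * y * n⁻¹) * m⁻¹) by intros; group]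
    obtain ⟨k, -, hk⟩ := Aut.nt_conj E6.ok (show 5 < E6.pk.rank by decide) hφv (show 56 < E6.pk.nroots by decide)
    obtain ⟨k', -, hk'⟩ := Aut.nt_conj E6.ok (show 5 < E6.pk.rank by decide) hφv (show 36 < E6.pk.nroots by decide)
    obtain ⟨l, -, hl⟩ := Aut.nt_conj E6.ok (show 0 < E6.pk.rank by decide) hv (show 56 < E6.pk.nroots by decide)
    obtain ⟨l', -, hl'⟩ := Aut.nt_conj E6.ok (show 0 < E6.pk.rank by decide) hv (show 35 < E6.pk.nroots by decide)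
    rw [hk, hk', b1, b2, hl, hl', b3, b4]
    exact mul_mem (E6.ok.xG_mem_genR (by simp) _) (E6.ok.xG_mem_genR (by simp) _)

/-- Compatibility of an automorphism with root subgroups and torus. -/
structure Good (β : MulAut ↥G.G1) : Prop where
  uw : ∀ o ∈ G.O.orbs, ∀ x : ↥G.G1,
    (x : GL chevE6.Idx K) ∈ G.Uw o.2 ↔ ((β x : ↥G.G1) : GL chevE6.Idx K) ∈ G.Uw o.2
  xm : ∀ o ∈ G.O.orbs, ∀ x : ↥G.G1,
    (x : GL chevE6.Idx K) ∈ TwistGrp.Xm G l0 o ↔ ((β x : ↥G.G1) : GL chevE6.Idx K) ∈ TwistGrp.Xm G l0 o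
  hd : ∀ x : ↥G.G1, (x : GL chevE6.Idx K) ∈ chevE6.diagonalSubgroup K →
    ((β x : ↥G.G1) : GL chevE6.Idx K) ∈ chevE6.diagonalSubgroup K

include hφ hK hq hG hO in
/-- An automorphism compatible with root subgroups and torus and fixing the base elements is a field
automorphism. -/
theorem canon_unit (β : MulAut ↥G.G1) (hβ : Good G β)
    (h1 : ∀ x : ↥G.G1, (x : GL chevE6.Idx K) ∈ ([E6.ok.xG 46 1, E6.ok.xG 39 1, pr φ 42 37 1, pr φ 56 36 1] :
      List (GL chevE6.Idx K)) → β x = x) :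
    ∃ τ : K ≃+* K, ∀ x : ↥G.G1, ((β x : ↥G.G1) : GL chevE6.Idx K) = gmap chevE6 τ.toRingHom x := by
  classical
  obtain ⟨p, f, hp, -, hpf⟩ := (isPrimePow_nat_iff q).1 hq
  have : Fact p.Prime := ⟨hp⟩
  have R := rankN hφ hK hq G hG hO hpf.symm
  have hn0 := R.n0
  obtain ⟨m1, m2⟩ := mem_G1 hφ G hG
  obtain ⟨oa, ob, oc, od⟩ := orb_mem G hO
  let F : GL chevE6.Idx K → GL chevE6.Idx K := fun g => if hg : g ∈ G.G1 then (β ⟨g, hg⟩ : ↥G.G1) else 1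
  have hF : ∀ x : ↥G.G1, F x = (β x : ↥G.G1) := fun x => (dif_pos x.2 : _)
  have Fm : ∀ {g g' : GL chevE6.Idx K}, g ∈ G.G1 → g' ∈ G.G1 → F (g * g') = F g * F g' := fun {g g'} hg hg' => by
    have := congrArg Subtype.val (map_mul β ⟨g, hg⟩ ⟨g', hg'⟩)
    rw [Subgroup.coe_mul, ← hF, ← hF, ← hF] at this
    exact this
  have Fi : ∀ {g : GL chevE6.Idx K}, g ∈ G.G1 → F g⁻¹ = (F g)⁻¹ := fun {g} hg => by
    have := congrArg Subtype.val (map_inv β ⟨g, hg⟩)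
    rw [Subgroup.coe_inv, ← hF, ← hF] at this
    exact this
  have F1 : F 1 = 1 := by
    have := hF 1
    rwa [map_one, Subgroup.coe_one] at this
  have Fj : ∀ {g g' : GL chevE6.Idx K}, g ∈ G.G1 → g' ∈ G.G1 → F g = F g' → g = g' := fun {g g'} hg hg' e => by
    rw [hF ⟨g, hg⟩, hF ⟨g', hg'⟩] at e
    exact congrArg Subtype.val (β.injective (Subtype.ext e))
  have FG : ∀ {g : GL chevE6.Idx K}, g ∈ G.G1 → F g ∈ G.G1 := fun {g} hg => by rw [hF ⟨g, hg⟩]; exact (β _).2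
  have hXG : ∀ o ∈ G.O.orbs, TwistGrp.Xm G l0 o ≤ G.G1 := fun o ho y hy =>
    (TwistGrp.Xm_le ckComm_E6 R.long hn0 ho hy).2
  have hUG : ∀ o ∈ G.O.orbs, G.Uw o.2 ≤ G.G1 := fun o ho => G.root_mem o ho
  have FA : ∀ o ∈ G.O.orbs, ∀ g ∈ G.Uw o.2, ∃ g' ∈ G.Uw o.2, F g' = g := fun o ho g hg => by
    refine ⟨(β.symm ⟨g, hUG o ho hg⟩ : ↥G.G1), (hβ.uw o ho _).2 (by simpa using hg), ?_⟩
    rw [hF, MulEquiv.apply_symm_apply]
  have FB : ∀ o ∈ G.O.orbs, ∀ g ∈ TwistGrp.Xm G l0 o, F g ∈ TwistGrp.Xm G l0 o := fun o ho g hg => by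
    rw [hF ⟨g, hXG o ho hg⟩]; exact (hβ.xm o ho ⟨g, hXG o ho hg⟩).1 hg
  have hcard : ∀ o : List ℕ × List ℕ, Nat.card (G.Uw o.2) = Nat.card (TwistGrp.Xm G l0 o) := fun o =>
    (Subgroup.card_map_of_injective (MulEquiv.injective _)).symm
  have hdis : ∀ o ∈ G.O.orbs, ∀ g ∈ G.Uw o.2, g ∈ TwistGrp.Xm G l0 o → g = 1 :=
    fun o ho g hg hg' => TwistGrp.Up_inf_Um ckComm_E6 R.long hn0 (TwistGrp.Uw_le_Up ckComm_E6 ho hg)
      (TwistGrp.Xm_le ckComm_E6 R.long hn0 ho hg')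
  -- the parameter map of a single root
  have sgl : ∀ a c i : ℕ, (a, c, i) ∈ [((46 : ℕ), (25 : ℕ), (1 : ℕ)), (39, 32, 3)] →
      ∃ A : K → K, (∀ t, φ t = t → φ (A t) = A t ∧ F (E6.ok.xG a t) = E6.ok.xG a (A t)) ∧
        ∀ t, φ t = t → t ≠ 0 → A t ≠ 0 ∧ F (E6.ok.xG c (-t⁻¹)) = E6.ok.xG c (-(A t)⁻¹) := by
    intro a c i hp
    have hd : (a, i) ∈ [((46 : ℕ), (1 : ℕ)), (39, 3)] ∧ a ∈ [(46 : ℕ), 25, 39, 32] ∧ c ∈ [(46 : ℕ), 25, 39, 32] ∧
        a < E6.pk.nroots ∧ ((([i], [i]) : List ℕ × List ℕ), [c]) ∈ [((([1], [1]) : List ℕ × List ℕ), [(25 : ℕ)]),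
          (([3], [3]), [32]), (([2, 4], [2, 4]), [29, 34]), (([0, 5], [0, 5]), [15, 35])] ∧
        (([i], [i]) : List ℕ × List ℕ) ∈ G.O.orbs ∧ a ∈ rootsOf ([i], [i]) := by
      simp only [List.mem_cons, List.not_mem_nil, or_false, Prod.mk.injEq] at hp
      rcases hp with ⟨rfl, rfl, rfl⟩ | ⟨rfl, rfl, rfl⟩
      exacts [⟨by simp, by simp, by simp, by decide, by simp, oa, by simp [rootsOf]⟩,
        ⟨by simp, by simp, by simp, by decide, by simp, ob, by simp [rootsOf]⟩]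
    obtain ⟨h1, h2, h3, h4, h5, ho, h6⟩ := hd
    have hA : ∀ t, φ t = t → E6.ok.xG a t ∈ G.Uw [i] := fun t ht =>
      mem_Uw G hO ho (m1 a h2 t ht) (E6.ok.xG_mem_genR h6 _)
    have hB : ∀ t, φ t = t → E6.ok.xG c t ∈ TwistGrp.Xm G l0 ([i], [i]) := fun t ht =>
      mem_Xm' G hO hn0 h5 (m1 c h3 t ht) (E6.ok.xG_mem_genR (by simp) _)
    have ex : ∀ t, φ t = t → ∃ s, φ s = s ∧ F (E6.ok.xG a t) = E6.ok.xG a s := fun t ht =>
      Uw_single G hO h1 (by rw [hF ⟨_, m1 a h2 t ht⟩]; exact (hβ.uw _ ho ⟨_, m1 a h2 t ht⟩).1 (hA t ht))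
    choose! A hAf hAe using ex
    refine ⟨A, fun t ht => ⟨hAf t ht, hAe t ht⟩, fun t ht ht0 => ?_⟩
    have hAt : A t ≠ 0 := fun e => ht0 (E6.ok.xG_inj_param h4 (Fj (m1 a h2 t ht) (m1 a h2 0 (map_zero φ))
      (by rw [hAe t ht, e, E6.ok.xG_zero, F1])))
    refine ⟨hAt, opp_hom (P := fun v => φ v = v) (fun v hv => by simp [hv]) (fun v hv => by rw [map_inv₀, hv])
      (fun v w hv hw => by rw [map_add, hv, hw]) (hUG _ ho) (hXG _ ho) (hdis _ ho) (R.proper.ne_bot _ ho)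
      (hcard _) (x := fun v => E6.ok.xG a v) (y := fun v => E6.ok.xG c v) hA hB
      (fun v w => E6.ok.xG_add _ _ _) (fun v w => E6.ok.xG_add _ _ _)
      (fun v hv hv' g hg => conj_single hφ G hG hO hn0 hp hv hv' hg)
      (fun g hg => form_single G hO hp hg) Fm Fi (FA _ ho) (FB _ ho) ht0 ht hAt (hAf t ht) (hAe t ht)⟩
  -- the parameter map of a pair
  have prs : ∀ a b c d : ℕ, ∀ w : List ℕ,
      (a, b, c, d, w) ∈ [((42 : ℕ), (37 : ℕ), (29 : ℕ), (34 : ℕ), [2, 4]), (56, 36, 15, 35, [0, 5])] →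
      ∃ A : K → K, (∀ t, F (pr φ a b t) = pr φ a b (A t)) ∧
        ∀ t, t ≠ 0 → A t ≠ 0 ∧ F (pr φ c d (-t⁻¹)) = pr φ c d (-(A t)⁻¹) := by
    intro a b c d w hp
    have hd : (a, b, w) ∈ [((42 : ℕ), (37 : ℕ), [2, 4]), (56, 36, [0, 5])] ∧
        (a, b) ∈ [((56 : ℕ), (36 : ℕ)), (15, 35), (42, 37), (29, 34)] ∧
        (c, d) ∈ [((56 : ℕ), (36 : ℕ)), (15, 35), (42, 37), (29, 34)] ∧
        (a, b) ∈ [((42 : ℕ), (37 : ℕ)), (56, 36)] ∧ ckOrth E6.pk a b = true ∧ ckOrth E6.pk c d = true ∧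
        (((w, w) : List ℕ × List ℕ), [c, d]) ∈ [((([1], [1]) : List ℕ × List ℕ), [(25 : ℕ)]),
          (([3], [3]), [32]), (([2, 4], [2, 4]), [29, 34]), (([0, 5], [0, 5]), [15, 35])] ∧
        ((w, w) : List ℕ × List ℕ) ∈ G.O.orbs ∧ a ∈ rootsOf (w, w) ∧ b ∈ rootsOf (w, w) := by
      obtain ⟨o1, o2, -, -, o5, o6, -⟩ := orth6
      simp only [List.mem_cons, List.not_mem_nil, or_false, Prod.mk.injEq] at hp
      rcases hp with ⟨rfl, rfl, rfl, rfl, rfl⟩ | ⟨rfl, rfl, rfl, rfl, rfl⟩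
      exacts [⟨by simp, by simp, by simp, by simp, o5, o6, by simp, oc, by simp [rootsOf], by simp [rootsOf]⟩,
        ⟨by simp, by simp, by simp, by simp, o1, o2, by simp, od, by simp [rootsOf], by simp [rootsOf]⟩]
    obtain ⟨h1, h2, h3, h4, hab, hcd, h5, ho, h6, h7⟩ := hd
    have hA : ∀ t, pr φ a b t ∈ G.Uw w := fun t => mem_Uw G hO ho (m2 (a, b) h2 t)
      (mul_mem (E6.ok.xG_mem_genR h6 _) (E6.ok.xG_mem_genR h7 _))
    have hB : ∀ t, pr φ c d t ∈ TwistGrp.Xm G l0 (w, w) := fun t => mem_Xm' G hO hn0 h5 (m2 (c, d) h3 t)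
      (mul_mem (E6.ok.xG_mem_genR (by simp) _) (E6.ok.xG_mem_genR (by simp) _))
    have ex : ∀ t, ∃ s, F (pr φ a b t) = pr φ a b s := fun t =>
      Uw_pair G h1 (by rw [hF ⟨_, m2 (a, b) h2 t⟩]; exact (hβ.uw _ ho ⟨_, m2 (a, b) h2 t⟩).1 (hA t))
    choose A hAe using ex
    refine ⟨A, hAe, fun t ht0 => ?_⟩
    have hAt : A t ≠ 0 := fun e => ht0 (pr_inj h4 (Fj (m2 (a, b) h2 t) (m2 (a, b) h2 0)
      (by rw [hAe, e, pr_zero, F1])))
    refine ⟨hAt, opp_hom (P := fun _ : K => True) (fun _ _ => trivial) (fun _ _ => trivial)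
      (fun _ _ _ _ => trivial) (hUG _ ho) (hXG _ ho) (hdis _ ho) (R.proper.ne_bot _ ho)
      (hcard _) (x := pr φ a b) (y := pr φ c d) (fun v _ => hA v) (fun v _ => hB v) (pr_add hab) (pr_add hcd)
      (fun v hv _ g hg => conj_pair hφ G hG hO hn0 hp hv hg)
      (fun g hg => (form_pair hφ hK G hG hO hn0 hp hg).imp fun s hs => ⟨trivial, hs⟩) Fm Fi (FA _ ho) (FB _ ho)
      ht0 trivial hAt trivial (hAe t)⟩
  obtain ⟨a1, ha1, ha1'⟩ := sgl 46 25 1 (by simp)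
  obtain ⟨a3, ha3, ha3'⟩ := sgl 39 32 3 (by simp)
  obtain ⟨b4, hb4, hb4'⟩ := prs 42 37 29 34 [2, 4] (by simp)
  obtain ⟨b5, hb5, hb5'⟩ := prs 56 36 15 35 [0, 5] (by simp)
  have e46 := fun t ht => m1 46 (by simp) t ht
  have e39 := fun t ht => m1 39 (by simp) t ht
  have e42 := fun t => m2 (42, 37) (by simp) t
  have e56 := fun t => m2 (56, 36) (by simp) t
  have i4 : ∀ {s t : K}, pr φ 42 37 s = pr φ 42 37 t → s = t := fun e => pr_inj (by simp) e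
  have i5 : ∀ {s t : K}, pr φ 56 36 s = pr φ 56 36 t → s = t := fun e => pr_inj (by simp) e
  have i1 : ∀ {s t : K}, E6.ok.xG 46 s = E6.ok.xG 46 t → s = t := fun e =>
    E6.ok.xG_inj_param (show 46 < E6.pk.nroots by decide) e
  have i3 : ∀ {s t : K}, E6.ok.xG 39 s = E6.ok.xG 39 t → s = t := fun e =>
    E6.ok.xG_inj_param (show 39 < E6.pk.nroots by decide) e
  have a1one : a1 1 = 1 := i1 (by
    rw [← (ha1 1 (map_one φ)).2, hF ⟨_, e46 1 (map_one φ)⟩, h1 ⟨_, e46 1 (map_one φ)⟩ (by simp)])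
  have a3one : a3 1 = 1 := i3 (by
    rw [← (ha3 1 (map_one φ)).2, hF ⟨_, e39 1 (map_one φ)⟩, h1 ⟨_, e39 1 (map_one φ)⟩ (by simp)])
  have b4one : b4 1 = 1 := i4 (by rw [← hb4, hF ⟨_, e42 1⟩, h1 ⟨_, e42 1⟩ (by simp)])
  have b5one : b5 1 = 1 := i5 (by rw [← hb5, hF ⟨_, e56 1⟩, h1 ⟨_, e56 1⟩ (by simp)])
  have a3neg : a3 (-1) = -1 := i3 (by
    rw [← (ha3 (-1) (by simp)).2, ← E6.ok.xG_inv, Fi (e39 1 (map_one φ)), (ha3 1 (map_one φ)).2, a3one])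
  have badd : ∀ s t, b4 (s + t) = b4 s + b4 t := fun s t => i4 (by
    rw [← hb4, ← pr_add orth6.2.2.2.2.1, Fm (e42 s) (e42 t), hb4, hb4, pr_add orth6.2.2.2.2.1])
  have b0 : b4 0 = 0 := i4 (by rw [← hb4, pr_zero, F1])
  have binj : Function.Injective b4 := fun s t e => i4 (Fj (e42 s) (e42 t) (by rw [hb4, hb4, e]))
  have bsurj : Function.Surjective b4 := Finite.injective_iff_surjective.1 binj
  have b4neg : b4 (-1) = -1 := by
    have h := badd 1 (-1)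
    rw [add_neg_cancel, b0, b4one] at h
    exact eq_neg_of_add_eq_zero_right h.symm
  -- multiplicativity
  have hHG : ∀ c, (T φ).τ c = c → hH c ∈ G.G1 := fun c hc => by rw [hG]; exact hHom_fixed_mem φ hφ hc
  have bmul : ∀ x t, b4 (x * t) = b4 x * b4 t := by
    intro x t
    rcases eq_or_ne x 0 with rfl | hx
    · rw [zero_mul, b0, zero_mul]
    have hc := fixC_tau hφ hK (φ := φ) (a := (Units.mk0 x hx)⁻¹) (b := 1) (c := 1) (d := 1) (by simp) (by simp)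
    set c := fixC φ (Units.mk0 x hx)⁻¹ 1 1 1 with hcdef
    have h42 : hchar E6.pk c 42 = x := by rw [(chars c).2.2.1]; simp [hcdef, fixC]
    obtain ⟨c', hc', ec⟩ := diag_cases hφ hK G (by rw [hF ⟨_, hHG c hc⟩]; exact hβ.hd _ (hH_diag c)) (FG (hHG c hc))
    have key : ∀ u, b4 (x * u) = hchar E6.pk c' 42 * b4 u := fun u => i4 (by
      rw [← hb4, ← hH_pr (by decide) (by decide) (chars_fixed hc').2.2.1, ← hb4, ← ec, ← Fi (hHG c hc),
        ← Fm (hHG c hc) (e42 u), ← Fm (mul_mem (hHG c hc) (e42 u)) (inv_mem (hHG c hc)),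
        hH_pr (by decide) (by decide) (chars_fixed hc).2.2.1, h42])
    have := key 1
    rw [mul_one, b4one, mul_one] at this
    rw [key, this]
  -- the images of two coroot tori
  have Fh3 : ∀ (u : Kˣ) (hu : φ (u : K) = u), ∀ hau : a3 (u : K) ≠ 0,
      F (hH (fixC φ 1 1 1 u)) = hH (fixC φ 1 1 1 (Units.mk0 _ hau)) := by
    intro u hu hau
    have hfix : ∀ v : Kˣ, fixC φ 1 1 1 v = Pi.mulSingle 3 v := fun v => by
      funext j; fin_cases j <;> simp [fixC]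
    rw [hfix, hfix, hH_single, hH_single, show E6.pk.sim ((3 : Fin 6) : ℕ) = 39 from rfl, Units.val_mk0, Ok.ht,
      Ok.ht, Ok.nt, Ok.nt, Ok.nt, ngs6.2.1]
    have hm := fun w hw => m1 32 (by simp) w hw
    have hw : ∀ w : K, φ w = w → φ (-w⁻¹) = -w⁻¹ := fun w hw => by rw [map_neg, map_inv₀, hw]
    have h1' : φ (-1 : K) = -1 := by simp
    have g1 := mul_mem (e39 _ hu) (hm _ (hw _ hu))
    have g2 := mul_mem (e39 _ h1') (hm _ (hw _ h1'))
    rw [Fm (mul_mem g1 (e39 _ hu)) (mul_mem g2 (e39 _ h1')), Fm g1 (e39 _ hu), Fm (e39 _ hu) (hm _ (hw _ hu)),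
      Fm g2 (e39 _ h1'), Fm (e39 _ h1') (hm _ (hw _ h1')), (ha3 _ hu).2, (ha3' _ hu u.ne_zero).2,
      (ha3 _ h1').2, (ha3' _ h1' (neg_ne_zero.2 one_ne_zero)).2, a3neg]
  have Fh4 : ∀ (u : Kˣ) (hbu : b4 (u : K) ≠ 0),
      F (hH (fixC φ 1 1 u 1)) = hH (fixC φ 1 1 (Units.mk0 _ hbu) 1) := by
    intro u hbu
    have hfix : ∀ v : Kˣ, fixC φ 1 1 v 1 = Pi.mulSingle 2 v * Pi.mulSingle 4 (Units.map φ.toMonoidHom v) :=
      fun v => by funext j; fin_cases j <;> simp [fixC]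
    have ho := orth
    simp only [Bool.and_eq_true] at ho
    obtain ⟨⟨⟨⟨⟨⟨⟨-, -⟩, -⟩, -⟩, o5⟩, o6⟩, o7⟩, o8⟩ := ho
    have hh : ∀ v : Kˣ, hH (fixC φ 1 1 v 1) =
        pr φ 42 37 (v : K) * pr φ 29 34 (-(v : K)⁻¹) * pr φ 42 37 (v : K) *
          (pr φ 42 37 (-1) * pr φ 29 34 (-(-1)⁻¹) * pr φ 42 37 (-1)) := fun v => by
      have h1 := nt_prod (φ := φ) (a := 42) (b := 37) (by simp) (v : K)
      have h2 := nt_prod (φ := φ) (a := 42) (b := 37) (by simp) (-1 : K)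
      rw [ngs6.2.2.1, ngs6.2.2.2.1] at h1 h2
      rw [hfix, map_mul, hH_single, hH_single, show E6.pk.sim ((2 : Fin 6) : ℕ) = 42 from rfl,
        show E6.pk.sim ((4 : Fin 6) : ℕ) = 37 from rfl, Ok.ht, Ok.ht,
        (E6.ok.commute_nt ckComm_E6 o5 o6 o7 o8 (-1) _).mul_mul_mul_comm, ← h1, ← h2, map_neg φ 1, map_one φ]
      rfl
    have hm := fun w => m2 (29, 34) (by simp) w
    have g1 := fun w w' => mul_mem (e42 w) (hm w')
    rw [hh, hh, Units.val_mk0, Fm (mul_mem (g1 _ _) (e42 _)) (mul_mem (g1 _ _) (e42 _)), Fm (g1 _ _) (e42 _),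
      Fm (e42 _) (hm _), Fm (g1 _ _) (e42 _), Fm (e42 _) (hm _), hb4, (hb4' _ u.ne_zero).2, hb4,
      (hb4' _ (neg_ne_zero.2 one_ne_zero)).2, b4neg]
  have binv : ∀ t : K, b4 t⁻¹ = (b4 t)⁻¹ := fun t => by
    rcases eq_or_ne t 0 with rfl | ht
    · rw [inv_zero, b0, inv_zero]
    exact (eq_inv_of_mul_eq_one_left (by rw [← bmul, inv_mul_cancel₀ ht, b4one]))
  have hb54 : ∀ t, b5 t = b4 t := by
    intro t
    rcases eq_or_ne t 0 with rfl | ht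
    · rw [b0]; exact i5 (by rw [← hb5, pr_zero, F1])
    set v : Kˣ := (Units.mk0 t ht)⁻¹
    have hbv : b4 (v : K) ≠ 0 := fun e => v.ne_zero (binj (e.trans b0.symm))
    have hc := fixC_tau hφ hK (φ := φ) (a := 1) (b := 1) (c := v) (d := 1) (by simp) (by simp)
    have hc' := fixC_tau hφ hK (φ := φ) (a := 1) (b := 1) (c := Units.mk0 _ hbv) (d := 1) (by simp) (by simp)
    have key := congrArg F (hH_pr (φ := φ) (a := 56) (b := 36) (by decide) (by decide) (chars_fixed hc).2.2.2 1)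
    rw [Fm (mul_mem (hHG _ hc) (e56 1)) (inv_mem (hHG _ hc)), Fm (hHG _ hc) (e56 1), Fi (hHG _ hc), Fh4 v hbv, hb5,
      hb5, b5one, hH_pr (by decide) (by decide) (chars_fixed hc').2.2.2, mul_one, mul_one, (chars _).1,
      (chars _).1] at key
    have h2 := i5 key
    simp only [fixC, v, Matrix.cons_val_zero, Matrix.cons_val, Units.val_one, Units.val_mk0, mul_one, one_div,
      Units.val_inv_eq_inv_val, inv_inv, binv] at h2
    exact h2.symm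
  have hab : ∀ t, φ t = t → a3 t = b4 t ∧ a1 t = b4 t := by
    intro t ht
    rcases eq_or_ne t 0 with rfl | ht0
    · rw [b0]
      exact ⟨i3 (by rw [← (ha3 0 ht).2, E6.ok.xG_zero, F1]), i1 (by rw [← (ha1 0 ht).2, E6.ok.xG_zero, F1])⟩
    set u : Kˣ := (Units.mk0 t ht0)⁻¹
    have hu : φ (u : K) = u := by simp [u, map_inv₀, ht]
    have hau := (ha3' _ hu u.ne_zero).1
    have hau' := (ha3 _ hu).1
    have hc := fixC_tau hφ hK (φ := φ) (a := 1) (b := 1) (c := 1) (d := u) (by simp) hu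
    have hc' := fixC_tau hφ hK (φ := φ) (a := 1) (b := 1) (c := 1) (d := Units.mk0 _ hau) (by simp) hau'
    have k42 := congrArg F (hH_pr (φ := φ) (a := 42) (b := 37) (by decide) (by decide) (chars_fixed hc).2.2.1 1)
    rw [Fm (mul_mem (hHG _ hc) (e42 1)) (inv_mem (hHG _ hc)), Fm (hHG _ hc) (e42 1), Fi (hHG _ hc),
      Fh3 u hu hau, hb4, hb4, b4one, hH_pr (by decide) (by decide) (chars_fixed hc').2.2.1, mul_one, mul_one,
      (chars _).2.2.1, (chars _).2.2.1] at k42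
    have h2 := i4 k42
    have k46 := congrArg F (hH_conj (fixC φ 1 1 1 u) (show 46 < E6.pk.nroots by decide) (1 : K))
    have hf46 : φ (hchar E6.pk (fixC φ 1 1 1 u) 46 * 1) = hchar E6.pk (fixC φ 1 1 1 u) 46 * 1 := by
      rw [mul_one, (chars_fixed hc).1]
    rw [Fm (mul_mem (hHG _ hc) (e46 1 (map_one φ))) (inv_mem (hHG _ hc)), Fm (hHG _ hc) (e46 1 (map_one φ)),
      Fi (hHG _ hc), Fh3 u hu hau, (ha1 1 (map_one φ)).2, (ha1 _ hf46).2, a1one,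
      hH_conj _ (show 46 < E6.pk.nroots by decide), mul_one, mul_one, (chars _).2.1, (chars _).2.1] at k46
    have h3 := i1 k46
    simp only [fixC, u, Matrix.cons_val_zero, Matrix.cons_val, Units.val_one, Units.val_mk0, mul_one, one_mul,
      one_div, Units.val_inv_eq_inv_val, inv_inv] at h2 h3
    have e3 : a3 t⁻¹ = (b4 t)⁻¹ := by rw [← h2, inv_inv]
    have e3' : a1 t = b4 t := by rw [← h3, e3, inv_inv]
    refine ⟨?_, e3'⟩
    have hti : φ t⁻¹ = t⁻¹ := by rw [map_inv₀, ht]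
    -- the same computation at the inverse
    set u' : Kˣ := Units.mk0 t ht0
    have hau2 := (ha3' _ ht ht0).1
    have hau2' := (ha3 _ ht).1
    have hcb := fixC_tau hφ hK (φ := φ) (a := 1) (b := 1) (c := 1) (d := u') (by simp) (by simpa [u'] using ht)
    have hcb' := fixC_tau hφ hK (φ := φ) (a := 1) (b := 1) (c := 1) (d := Units.mk0 _ hau2) (by simp) hau2'
    have k := congrArg F (hH_pr (φ := φ) (a := 42) (b := 37) (by decide) (by decide) (chars_fixed hcb).2.2.1 1)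
    rw [Fm (mul_mem (hHG _ hcb) (e42 1)) (inv_mem (hHG _ hcb)), Fm (hHG _ hcb) (e42 1), Fi (hHG _ hcb),
      Fh3 u' (by simpa [u'] using ht) (by simpa [u'] using hau2), hb4, hb4, b4one] at k
    rw [hH_pr (by decide) (by decide) (chars_fixed (show (T φ).τ (fixC φ 1 1 1 (Units.mk0 (a3 (u' : K)) _)) = _
      from hcb')).2.2.1, mul_one, mul_one, (chars _).2.2.1, (chars _).2.2.1] at k
    have h4 := i4 k
    simp only [fixC, u', Matrix.cons_val_zero, Matrix.cons_val, Units.val_one, Units.val_mk0, mul_one, one_mul,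
      one_div, binv] at h4
    exact inv_injective h4
  let τ0 : K →+* K :=
    { toFun := b4
      map_one' := b4one
      map_mul' := bmul
      map_zero' := b0
      map_add' := badd }
  refine ⟨RingEquiv.ofBijective τ0 ⟨binj, bsurj⟩, fun x => ?_⟩
  set τ : K →+* K := (RingEquiv.ofBijective τ0 ⟨binj, bsurj⟩).toRingHom with hτd
  have hτb : ∀ t, τ t = b4 t := fun t => rfl
  have hle : G.G1 ≤ (((G.G1.subtype).comp β.toMonoidHom).eqLocus ((gmap chevE6 τ).comp G.G1.subtype)).map G.G1.subtype := by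
    have key : ∀ g (hg : g ∈ G.G1), F g = gmap chevE6 τ g →
        g ∈ (((G.G1.subtype).comp β.toMonoidHom).eqLocus ((gmap chevE6 τ).comp G.G1.subtype)).map G.G1.subtype :=
      fun g hg e => ⟨⟨g, hg⟩, (hF ⟨g, hg⟩).symm.trans e, rfl⟩
    have hgx : ∀ r < E6.pk.nroots, ∀ t, gmap chevE6 τ (E6.ok.xG r t) = E6.ok.xG r (b4 t) := fun r hr t => by
      rw [E6.ok.gmap_xG _ hr, hτb]
    have hcomm : ∀ t, b4 (φ t) = φ (b4 t) := fun t => by
      rw [← hτb, ← hτb, hφ, hφ, map_pow]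
    have bneg : ∀ t, b4 (-t) = -b4 t := fun t => by rw [← hτb, ← hτb, map_neg]
    have hopp : ∀ t : K, t ≠ 0 → -(b4 (-t⁻¹))⁻¹ = b4 t := fun t ht => by
      rw [bneg, binv, inv_neg, inv_inv, neg_neg]
    refine G1_induction hφ G hG (fun r hr t ht => key _ (m1 r hr t ht) ?_) (fun rs hr t => key _ (m2 rs hr t) ?_)
    · have hb := hab t ht
      simp only [List.mem_cons, List.not_mem_nil, or_false] at hr
      rcases hr with rfl | rfl | rfl | rfl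
      · rw [(ha1 t ht).2, hb.2, hgx 46 (by decide)]
      · rw [hgx 25 (by decide)]
        rcases eq_or_ne t 0 with rfl | ht0
        · rw [b0, E6.ok.xG_zero, F1]
        have h' : φ (-t⁻¹) = -t⁻¹ := by rw [map_neg, map_inv₀, ht]
        have := (ha1' _ h' (neg_ne_zero.2 (inv_ne_zero ht0))).2
        rw [inv_neg, inv_inv, neg_neg, (hab _ h').2, hopp t ht0] at this
        exact this
      · rw [(ha3 t ht).2, hb.1, hgx 39 (by decide)]
      · rw [hgx 32 (by decide)]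
        rcases eq_or_ne t 0 with rfl | ht0
        · rw [b0, E6.ok.xG_zero, F1]
        have h' : φ (-t⁻¹) = -t⁻¹ := by rw [map_neg, map_inv₀, ht]
        have := (ha3' _ h' (neg_ne_zero.2 (inv_ne_zero ht0))).2
        rw [inv_neg, inv_inv, neg_neg, (hab _ h').1, hopp t ht0] at this
        exact this
    · simp only [List.mem_cons, List.not_mem_nil, or_false] at hr
      rcases hr with rfl | rfl | rfl | rfl <;>
        rw [show gmap chevE6 τ (pr φ _ _ t) = _ from map_mul _ _ _, hgx _ (by decide), hgx _ (by decide), hcomm]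
      · show F (pr φ 56 36 t) = pr φ 56 36 (b4 t)
        rw [hb5, hb54]
      · show F (pr φ 15 35 t) = pr φ 15 35 (b4 t)
        rcases eq_or_ne t 0 with rfl | ht0
        · rw [b0, pr_zero, F1]
        have := (hb5' _ (neg_ne_zero.2 (inv_ne_zero ht0))).2
        rw [inv_neg, inv_inv, neg_neg, hb54, hopp t ht0] at this
        exact this
      · show F (pr φ 42 37 t) = pr φ 42 37 (b4 t)
        rw [hb4]
      · show F (pr φ 29 34 t) = pr φ 29 34 (b4 t)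
        rcases eq_or_ne t 0 with rfl | ht0
        · rw [b0, pr_zero, F1]
        have := (hb4' _ (neg_ne_zero.2 (inv_ne_zero ht0))).2
        rw [inv_neg, inv_inv, neg_neg, hopp t ht0] at this
        exact this
  obtain ⟨y, hy, e⟩ := hle x.2
  obtain rfl : y = x := Subtype.ext e
  exact hy

end Cfsg.Agent.Chev.TwE6
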