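/-
The count of outer automorphisms of ²E₆(q).
-/
import Cfsg.Agent.Lib.Chev.Aut.TwAutE6Main
import Cfsg.Agent.Lib.AutPSL.Counts

set_option autoImplicit false
set_option linter.unusedSectionVars false
set_option maxHeartbeats 1000000

namespace Cfsg.Agent.Chev.TwE6

open Cfsg.Lie
open scoped Matrix

variable {K : Type*} [Field K] [Fintype K] {q : ℕ} {φ : K →+* K} (hφ : ∀ t, φ t = t ^ q)
  (hK : Fintype.card K = q ^ 2) (hq : IsPrimePow q)
  (G : TwistGrp (T φ)) (hG : G.G1 = twistedE6 K q) (hO : G.O.orbs = E6.orbsT)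

include hφ hK hq hO in
theorem card_orbs : Nat.card (G.Uw [1]) = q ∧ Nat.card (G.Uw [3]) = q ∧ Nat.card (G.Uw [2, 4]) = q ^ 2 ∧
    Nat.card (G.Uw [0, 5]) = q ^ 2 := by
  obtain ⟨m1, m3, m4, m5⟩ := orb_mem G hO
  obtain ⟨c1, c2, c3, c4⟩ := cnt_orbs
  have h := card_orb hφ hK hq G hO
  have h1 := h _ m1; have h2 := h _ m3; have h3 := h _ m4; have h4 := h _ m5
  simp only [pow_one, c1, c2, c3, c4] at h1 h2 h3 h4
  exact ⟨h1, h2, h3, h4⟩

/-- Two families of elements commute. -/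
def Cm (S : List ℕ × List ℕ → Subgroup (GL chevE6.Idx K)) (o o' : List ℕ × List ℕ) : Prop :=
  ∀ x ∈ S o, ∀ y ∈ S o', Commute x y

include hφ hG hO in
theorem cm_facts : Cm (fun o => G.Uw o.2) ([1], [1]) ([2, 4], [2, 4]) ∧
    Cm (fun o => G.Uw o.2) ([1], [1]) ([0, 5], [0, 5]) ∧ Cm (fun o => G.Uw o.2) ([3], [3]) ([0, 5], [0, 5]) ∧
    ¬ Cm (fun o => G.Uw o.2) ([3], [3]) ([2, 4], [2, 4]) := by
  obtain ⟨-, -, -, -, o5, -, -, -, a1, a2, a3, a4, b1, b2, o4340, o3740⟩ := orth6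
  have key : ∀ {a b c : ℕ}, ckOrth E6.pk a b = true → ckOrth E6.pk a c = true → ∀ t s : K,
      Commute (E6.ok.xG a t) (pr φ b c s) := fun hab hac t s =>
    (E6.ok.commute_xG ckComm_E6 hab t s).mul_right (E6.ok.commute_xG ckComm_E6 hac t (φ s))
  refine ⟨fun x hx y hy => ?_, fun x hx y hy => ?_, fun x hx y hy => ?_, fun hcm => ?_⟩
  · obtain ⟨t, -, rfl⟩ := Uw_single G hO (a := 46) (by simp) hx
    obtain ⟨s, rfl⟩ := Uw_pair G (a := 42) (b := 37) (by simp) hy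
    exact key a1 a2 t s
  · obtain ⟨t, -, rfl⟩ := Uw_single G hO (a := 46) (by simp) hx
    obtain ⟨s, rfl⟩ := Uw_pair G (a := 56) (b := 36) (by simp) hy
    exact key a3 a4 t s
  · obtain ⟨t, -, rfl⟩ := Uw_single G hO (a := 39) (by simp) hx
    obtain ⟨s, rfl⟩ := Uw_pair G (a := 56) (b := 36) (by simp) hy
    exact key b1 b2 t s
  · obtain ⟨m1, m2⟩ := mem_G1 hφ G hG
    obtain ⟨-, m3, m4, -⟩ := orb_mem G hO
    obtain ⟨w1, w2, p43, p40⟩ := cwords6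
    have h := hcm _ (mem_Uw G hO m3 (m1 39 (by simp) 1 (map_one φ)) (E6.ok.xG_mem_genR (by simp [rootsOf]) _))
      _ (mem_Uw G hO m4 (m2 (42, 37) (by simp) 1) (mul_mem (E6.ok.xG_mem_genR (by simp [rootsOf]) _)
        (E6.ok.xG_mem_genR (by simp [rootsOf]) _)))
    have e1 := E6.ok.comm_xG ckComm_E6 (show 39 < E6.pk.nroots by decide) (show 42 < E6.pk.nroots by decide)
      (by decide) (by decide) (1 : K) (1 : K)
    have e2 := E6.ok.comm_xG ckComm_E6 (show 39 < E6.pk.nroots by decide) (show 37 < E6.pk.nroots by decide)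
      (by decide) (by decide) (1 : K) (1 : K)
    rw [w1] at e1
    rw [w2] at e2
    simp only [List.map_cons, List.map_nil, List.prod_cons, List.prod_nil, one_pow, mul_one, Int.cast_neg,
      Int.cast_one] at e1 e2
    simp only [pr, map_one] at h
    set A := E6.ok.xG 39 (1 : K)
    set B := E6.ok.xG 42 (1 : K)
    set C := E6.ok.xG 37 (1 : K)
    set U := E6.ok.xG 43 (-1 : K)
    set V := E6.ok.xG 40 (1 : K)
    have hVC : Commute C V := E6.ok.commute_xG ckComm_E6 o3740 _ _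
    have h' : A * B * U * (C * V) = A * B * C := by
      replace h : A * B * C = B * C * A := by rw [mul_assoc]; exact h.eq
      calc A * B * U * (C * V) = (B * A) * (C * V) := by rw [e1]
        _ = B * (C * A) := by rw [e2]; group
        _ = A * B * C := by rw [← mul_assoc, ← h]
    rw [mul_assoc (A * B), mul_right_inj, hVC.eq, ← mul_assoc, mul_eq_right] at h'
    have h0 : U * V = E6.ok.xG 43 (0 : K) * E6.ok.xG 40 0 := by simp [h', E6.ok.xG_zero]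
    exact one_ne_zero (neg_eq_zero.1 (Std.pair_unique ckComm_E6 p43 p40 o4340 h0).1)

include hφ hK hq hG hO in
/-- The permutation of the orbits induced by an automorphism is trivial. -/
theorem perm_id {S : List ℕ × List ℕ → Subgroup (GL chevE6.Idx K)} (hS : ∀ o ∈ G.O.orbs, S o ≤ G.G1)
    (hSC : ∀ o ∈ G.O.orbs, ∀ o' ∈ G.O.orbs, Cm S o o' ↔ Cm (fun o => G.Uw o.2) o o')
    {β : ↥G.G1 ≃* ↥G.G1} (hP : TwistGrp.PermOn G S β) :
    ∀ o ∈ G.O.orbs, ∀ x : ↥G.G1, (x : GL chevE6.Idx K) ∈ S o ↔ ((β x : ↥G.G1) : GL chevE6.Idx K) ∈ S o := by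
  choose π hπ hcard hiff using hP
  obtain ⟨m1, m3, m4, m5⟩ := orb_mem G hO
  obtain ⟨c1, c2, c3, c4⟩ := card_orbs hφ hK hq G hO
  obtain ⟨f14, f15, f35, f34⟩ := cm_facts hφ G hG hO
  have hpres : ∀ o (ho : o ∈ G.O.orbs) o' (ho' : o' ∈ G.O.orbs), Cm (fun o => G.Uw o.2) o o' ↔
      Cm (fun o => G.Uw o.2) (π o ho) (π o' ho') := by
    intro o ho o' ho'
    rw [← hSC o ho o' ho', ← hSC _ (hπ o ho) _ (hπ o' ho')]
    constructor
    · intro hc x hx y hy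
      have hx' : ((β.symm ⟨x, hS _ (hπ o ho) hx⟩ : ↥G.G1) : GL chevE6.Idx K) ∈ S o :=
        (hiff o ho _).2 (by rw [β.apply_symm_apply]; exact hx)
      have hy' : ((β.symm ⟨y, hS _ (hπ o' ho') hy⟩ : ↥G.G1) : GL chevE6.Idx K) ∈ S o' :=
        (hiff o' ho' _).2 (by rw [β.apply_symm_apply]; exact hy)
      have h1 : β.symm ⟨x, hS _ (hπ o ho) hx⟩ * β.symm ⟨y, hS _ (hπ o' ho') hy⟩ =
          β.symm ⟨y, hS _ (hπ o' ho') hy⟩ * β.symm ⟨x, hS _ (hπ o ho) hx⟩ := Subtype.ext (hc _ hx' _ hy').eq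
      rw [← map_mul, ← map_mul] at h1
      exact congrArg Subtype.val (β.symm.injective h1)
    · intro hc x hx y hy
      have h1 : β ⟨x, hS o ho hx⟩ * β ⟨y, hS o' ho' hy⟩ = β ⟨y, hS o' ho' hy⟩ * β ⟨x, hS o ho hx⟩ :=
        Subtype.ext (hc _ ((hiff o ho ⟨x, hS o ho hx⟩).1 hx) _ ((hiff o' ho' ⟨y, hS o' ho' hy⟩).1 hy)).eq
      rw [← map_mul, ← map_mul] at h1
      exact congrArg Subtype.val (β.injective h1)
  have hq2 := hq.two_le
  have hne : q ^ 2 ≠ q := by nlinarith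
  have small : ∀ o ho, Nat.card (G.Uw o.2) = q → π o ho = ([1], [1]) ∨ π o ho = ([3], [3]) := by
    intro o ho hc
    have := hcard o ho
    rcases orb_cases G hO (hπ o ho) with e | e | e | e
    exacts [Or.inl e, Or.inr e, absurd (by rw [e] at this; simp only [c1, c2, c3, c4, hc] at this; first | exact this | exact this.symm) hne, absurd (by rw [e] at this; simp only [c1, c2, c3, c4, hc] at this; first | exact this | exact this.symm) hne]
  have large : ∀ o ho, Nat.card (G.Uw o.2) = q ^ 2 → π o ho = ([2, 4], [2, 4]) ∨ π o ho = ([0, 5], [0, 5]) := by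
    intro o ho hc
    have := hcard o ho
    rcases orb_cases G hO (hπ o ho) with e | e | e | e
    exacts [absurd (by rw [e] at this; simp only [c1, c2, c3, c4, hc] at this; first | exact this | exact this.symm) hne, absurd (by rw [e] at this; simp only [c1, c2, c3, c4, hc] at this; first | exact this | exact this.symm) hne, Or.inl e, Or.inr e]
  have p3 : π _ m3 = ([3], [3]) := by
    refine (small _ m3 c2).resolve_left fun e => f34 ((hpres _ m3 _ m4).2 ?_)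
    rw [e]
    rcases large _ m4 c3 with e' | e' <;> rw [e'] <;> assumption
  have p4 : π _ m4 = ([2, 4], [2, 4]) := by
    refine (large _ m4 c3).resolve_right fun e => f34 ((hpres _ m3 _ m4).2 ?_)
    rw [p3, e]
    exact f35
  have p1 : π _ m1 = ([1], [1]) := by
    refine (small _ m1 c1).resolve_right fun e => f34 ?_
    have := (hpres _ m1 _ m4).1 f14
    rwa [e, p4] at this
  have p5 : π _ m5 = ([0, 5], [0, 5]) := by
    refine (large _ m5 c4).resolve_left fun e => f34 ?_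
    have := (hpres _ m3 _ m5).1 f35
    rwa [p3, e] at this
  intro o ho x
  have hfix : π o ho = o := by
    rcases orb_cases G hO ho with rfl | rfl | rfl | rfl
    exacts [p1, p3, p4, p5]
  have := hiff o ho x
  rwa [hfix] at this

/-- The parameters of the fixed torus. -/
noncomputable def fixT (φ : K →+* K) : Subgroup (Fin 6 → Kˣ) := MonoidHom.eqLocus ((T φ).τ) (MonoidHom.id _)

/-- The diagonal element with given values at the nodes. -/
noncomputable abbrev dd (a : Fin 6 → Kˣ) : GL chevE6.Idx K := Aut.dR E6.ok a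

theorem rchar6 (a : Fin 6 → Kˣ) :
    Aut.rchar E6.pk a 56 = a 0 ∧ Aut.rchar E6.pk a 46 = a 1 ∧ Aut.rchar E6.pk a 42 = a 2 ∧
      Aut.rchar E6.pk a 39 = a 3 ∧ Aut.rchar E6.pk a 37 = a 4 ∧ Aut.rchar E6.pk a 36 = a 5 :=
  ⟨Aut.rchar_sim E6.ok a (0 : Fin 6), Aut.rchar_sim E6.ok a (1 : Fin 6), Aut.rchar_sim E6.ok a (2 : Fin 6),
    Aut.rchar_sim E6.ok a (3 : Fin 6), Aut.rchar_sim E6.ok a (4 : Fin 6), Aut.rchar_sim E6.ok a (5 : Fin 6)⟩

theorem rchar6_neg (a : Fin 6 → Kˣ) :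
    Aut.rchar E6.pk a 15 = (a 0)⁻¹ ∧ Aut.rchar E6.pk a 25 = (a 1)⁻¹ ∧ Aut.rchar E6.pk a 29 = (a 2)⁻¹ ∧
      Aut.rchar E6.pk a 32 = (a 3)⁻¹ ∧ Aut.rchar E6.pk a 34 = (a 4)⁻¹ ∧ Aut.rchar E6.pk a 35 = (a 5)⁻¹ := by
  obtain ⟨h0, h1, h2, h3, h4, h5⟩ := rchar6 a
  obtain ⟨n1, n3, n2, n4, n0, n5⟩ := ngs6
  refine ⟨?_, ?_, ?_, ?_, ?_, ?_⟩
  · rw [← n0, Aut.rchar_ng E6.ok a (by decide), h0]
  · rw [← n1, Aut.rchar_ng E6.ok a (by decide), h1]
  · rw [← n2, Aut.rchar_ng E6.ok a (by decide), h2]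
  · rw [← n3, Aut.rchar_ng E6.ok a (by decide), h3]
  · rw [← n4, Aut.rchar_ng E6.ok a (by decide), h4]
  · rw [← n5, Aut.rchar_ng E6.ok a (by decide), h5]

theorem dd_pr {a : Fin 6 → Kˣ} {r s : ℕ} (hr : r < E6.pk.nroots) (hs : s < E6.pk.nroots)
    (e : φ (Aut.rchar E6.pk a r : K) = (Aut.rchar E6.pk a s : K)) (t : K) :
    dd a * pr φ r s t * (dd a)⁻¹ = pr φ r s ((Aut.rchar E6.pk a r : K) * t) := by
  rw [pr, pr, show ∀ n u v : GL chevE6.Idx K, n * (u * v) * n⁻¹ = (n * u * n⁻¹) * (n * v * n⁻¹) by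
    intros; group, Aut.dR_conj_xG E6.ok a hr, Aut.dR_conj_xG E6.ok a hs, map_mul, e]

include hφ hG in
theorem dd_mem {a : Fin 6 → Kˣ} (ha : a ∈ fixT φ) {x : GL chevE6.Idx K} (hx : x ∈ G.G1) :
    dd a * x * (dd a)⁻¹ ∈ G.G1 := by
  obtain ⟨m1, m2⟩ := mem_G1 hφ G hG
  obtain ⟨t5, t1, t4, t3, t2, t0⟩ := tau_fixed φ (show (T φ).τ a = a from ha)
  obtain ⟨r0, r1, r2, r3, r4, r5⟩ := rchar6 a
  obtain ⟨s0, s1, s2, s3, s4, s5⟩ := rchar6_neg a
  have hle : G.G1 ≤ G.G1.comap (MulAut.conj (dd a)).toMonoidHom := by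
    refine G1_induction hφ G hG (fun r hr t ht => ?_) (fun rs hr t => ?_) <;>
      rw [Subgroup.mem_comap, MulEquiv.toMonoidHom_eq_coe, MonoidHom.coe_coe, MulAut.conj_apply]
    · have hr' := hr
      simp only [List.mem_cons, List.not_mem_nil, or_false] at hr'
      have hfix : φ ((Aut.rchar E6.pk a r : K) * t) = (Aut.rchar E6.pk a r : K) * t := by
        rcases hr' with rfl | rfl | rfl | rfl <;> simp [r1, r3, s1, s3, map_inv₀, t1, t3, ht]
      rw [Aut.dR_conj_xG E6.ok a (by rcases hr' with rfl | rfl | rfl | rfl <;> decide)]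
      exact m1 r hr _ hfix
    · have hr' := hr
      simp only [List.mem_cons, List.not_mem_nil, or_false] at hr'
      rcases hr' with rfl | rfl | rfl | rfl <;>
        (rw [dd_pr (by decide) (by decide) (by simp [r0, r2, r4, r5, s0, s2, s4, s5, map_inv₀, t0, t2])]
         exact m2 _ hr _)
  simpa using hle hx

include hφ hG in
theorem exists_diag_aut :
    ∃ Ψ : ↥(fixT φ) →* MulAut ↥G.G1, ∀ (a : ↥(fixT φ)) (x : ↥G.G1),
      ((Ψ a x : ↥G.G1) : GL chevE6.Idx K) = dd (a : Fin 6 → Kˣ) * x * (dd (a : Fin 6 → Kˣ))⁻¹ := by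
  refine ⟨MonoidHom.mk' (fun a =>
    { toFun := fun x => ⟨dd (a : Fin 6 → Kˣ) * x * (dd (a : Fin 6 → Kˣ))⁻¹, dd_mem hφ G hG a.2 x.2⟩
      invFun := fun x => ⟨dd (a : Fin 6 → Kˣ)⁻¹ * x * (dd (a : Fin 6 → Kˣ)⁻¹)⁻¹,
        dd_mem hφ G hG (inv_mem a.2) x.2⟩
      left_inv := fun x => Subtype.ext (by
        show dd (a : Fin 6 → Kˣ)⁻¹ * (dd (a : Fin 6 → Kˣ) * _ * _) * _ = _
        rw [show dd (a : Fin 6 → Kˣ)⁻¹ = (dd (a : Fin 6 → Kˣ))⁻¹ from (Aut.dR_inv E6.ok _).symm]; group)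
      right_inv := fun x => Subtype.ext (by
        show dd (a : Fin 6 → Kˣ) * (dd (a : Fin 6 → Kˣ)⁻¹ * _ * _) * _ = _
        rw [show dd (a : Fin 6 → Kˣ)⁻¹ = (dd (a : Fin 6 → Kˣ))⁻¹ from (Aut.dR_inv E6.ok _).symm]; group)
      map_mul' := fun x y => Subtype.ext (by simp) }) (fun a b => MulEquiv.ext fun x => Subtype.ext ?_),
    fun a x => rfl⟩
  show dd ((a * b : ↥(fixT φ)) : Fin 6 → Kˣ) * _ * _ = dd (a : Fin 6 → Kˣ) * (dd (b : Fin 6 → Kˣ) * _ * _) * _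
  rw [show dd ((a * b : ↥(fixT φ)) : Fin 6 → Kˣ) = dd (a : Fin 6 → Kˣ) * dd (b : Fin 6 → Kˣ) from
    (Aut.dR_mul E6.ok _ _).symm]
  group

theorem dd_genR (a : Fin 6 → Kˣ) {S : ℕ → Prop} (hS : ∀ r, S r → r < E6.pk.nroots) {x : GL chevE6.Idx K}
    (hx : x ∈ E6.ok.genR S) : dd a * x * (dd a)⁻¹ ∈ E6.ok.genR S := by
  have hle : E6.ok.genR (F := K) S ≤ (E6.ok.genR S).comap (MulAut.conj (dd a)).toMonoidHom := by
    refine E6.ok.genR_le fun r hr t => ?_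
    rw [Subgroup.mem_comap, MulEquiv.toMonoidHom_eq_coe, MonoidHom.coe_coe, MulAut.conj_apply,
      Aut.dR_conj_xG E6.ok a (hS r hr)]
    exact E6.ok.xG_mem_genR hr _
  simpa using hle hx

theorem dd_hH (a c : Fin E6.pk.rank → Kˣ) : dd a * hH c * (dd a)⁻¹ = hH c := by
  have h : dd a * hH c = hH c * dd a := by
    apply Units.ext
    show (E6.ok.dG (Aut.isChar_rchar E6.ok a)).val * (E6.ok.hHom c).val =
      (E6.ok.hHom c).val * (E6.ok.dG (Aut.isChar_rchar E6.ok a)).val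
    rw [E6.ok.coe_dG, E6.ok.coe_hHom, dM, dM, Matrix.diagonal_mul_diagonal, Matrix.diagonal_mul_diagonal]
    congr 1
    funext i
    ring
  rw [h, mul_inv_cancel_right]

/-- The characters of a torus element at the nodes. -/
noncomputable def charU (c : Fin 6 → Kˣ) : Fin 6 → Kˣ := fun k =>
  Units.mk0 (hchar E6.pk c (E6.pk.sim k)) ((E6.ok.isChar_hchar c).ne _ (E6.ok.sim_lt k.isLt))

include hφ hK in
theorem charU_fix {c : Fin 6 → Kˣ} (hc : c ∈ fixT φ) : charU c ∈ fixT φ := by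
  obtain ⟨f1, f3, f2, f0⟩ := chars_fixed (show (T φ).τ c = c from hc)
  show (T φ).τ (charU c) = charU c
  rw [tau_apply]
  funext k
  fin_cases k <;> apply Units.ext <;> show φ (hchar E6.pk c _) = hchar E6.pk c _
  · rw [show E6.pk.sim _ = 36 from rfl, show E6.pk.sim _ = 56 from rfl, ← f0, phi2 φ hφ hK]
  · exact f1
  · rw [show E6.pk.sim _ = 37 from rfl, show E6.pk.sim _ = 42 from rfl, ← f2, phi2 φ hφ hK]
  · exact f3
  · exact f2
  · exact f0

include hφ hK in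
theorem exists_charHom : ∃ f : ↥(fixT φ) →* ↥(fixT φ), ∀ c : ↥(fixT φ),
    ((f c : ↥(fixT φ)) : Fin 6 → Kˣ) = charU (c : Fin 6 → Kˣ) :=
  ⟨MonoidHom.mk' (fun c => ⟨charU (c : Fin 6 → Kˣ), charU_fix hφ hK c.2⟩)
    (fun c d => Subtype.ext (funext fun k => Units.ext (E6.ok.hchar_mul _ _ _))), fun _ => rfl⟩

include hφ hG in
theorem hH_eq_dd (c : Fin 6 → Kˣ) {x : GL chevE6.Idx K} (hx : x ∈ G.G1) :
    dd (charU c) * x * (dd (charU c))⁻¹ = hH c * x * (hH c)⁻¹ := by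
  obtain ⟨r0, r1, r2, r3, r4, r5⟩ := rchar6 (charU c)
  have hval : ∀ r ∈ [(56 : ℕ), 46, 42, 39, 37, 36, 15, 25, 29, 32, 34, 35],
      (Aut.rchar E6.pk (charU c) r : K) = hchar E6.pk c r ∧ r < E6.pk.nroots := by
    obtain ⟨n1, n3, n2, n4, n0, n5⟩ := ngs6
    have hn : ∀ r, r < E6.pk.nroots → (Aut.rchar E6.pk (charU c) r : K) = hchar E6.pk c r →
        (Aut.rchar E6.pk (charU c) (E6.pk.ng r) : K) = hchar E6.pk c (E6.pk.ng r) := fun r hr e => by
      rw [Aut.rchar_ng E6.ok (charU c) hr, Units.val_inv_eq_inv_val, e, (E6.ok.isChar_hchar c).neg r hr]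
    have e0 : (Aut.rchar E6.pk (charU c) 56 : K) = hchar E6.pk c 56 := by rw [r0]; rfl
    have e1 : (Aut.rchar E6.pk (charU c) 46 : K) = hchar E6.pk c 46 := by rw [r1]; rfl
    have e2 : (Aut.rchar E6.pk (charU c) 42 : K) = hchar E6.pk c 42 := by rw [r2]; rfl
    have e3 : (Aut.rchar E6.pk (charU c) 39 : K) = hchar E6.pk c 39 := by rw [r3]; rfl
    have e4 : (Aut.rchar E6.pk (charU c) 37 : K) = hchar E6.pk c 37 := by rw [r4]; rfl
    have e5 : (Aut.rchar E6.pk (charU c) 36 : K) = hchar E6.pk c 36 := by rw [r5]; rfl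
    intro r hr
    simp only [List.mem_cons, List.not_mem_nil, or_false] at hr
    rcases hr with rfl | rfl | rfl | rfl | rfl | rfl | rfl | rfl | rfl | rfl | rfl | rfl
    exacts [⟨e0, by decide⟩, ⟨e1, by decide⟩, ⟨e2, by decide⟩, ⟨e3, by decide⟩, ⟨e4, by decide⟩, ⟨e5, by decide⟩,
      ⟨n0 ▸ hn 56 (by decide) e0, by decide⟩, ⟨n1 ▸ hn 46 (by decide) e1, by decide⟩,
      ⟨n2 ▸ hn 42 (by decide) e2, by decide⟩, ⟨n3 ▸ hn 39 (by decide) e3, by decide⟩,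
      ⟨n4 ▸ hn 37 (by decide) e4, by decide⟩, ⟨n5 ▸ hn 36 (by decide) e5, by decide⟩]
  have hone : ∀ r ∈ [(56 : ℕ), 46, 42, 39, 37, 36, 15, 25, 29, 32, 34, 35], ∀ t : K,
      (MulAut.conj (dd (charU c))).toMonoidHom (E6.ok.xG r t) = (MulAut.conj (hH c)).toMonoidHom (E6.ok.xG r t) :=
    fun r hr t => by
      show dd (charU c) * E6.ok.xG r t * (dd (charU c))⁻¹ = hH c * E6.ok.xG r t * (hH c)⁻¹
      rw [Aut.dR_conj_xG E6.ok (charU c) (hval r hr).2, hH_conj c (hval r hr).2, (hval r hr).1]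
  have hle : G.G1 ≤ (MulAut.conj (dd (charU c))).toMonoidHom.eqLocus (MulAut.conj (hH c)).toMonoidHom := by
    refine G1_induction hφ G hG (fun r hr t _ => hone r ?_ t) (fun rs hr t => ?_)
    · simp only [List.mem_cons, List.not_mem_nil, or_false] at hr ⊢; omega
    · show (MulAut.conj (dd (charU c))).toMonoidHom (pr φ rs.1 rs.2 t) =
        (MulAut.conj (hH c)).toMonoidHom (pr φ rs.1 rs.2 t)
      simp only [List.mem_cons, List.not_mem_nil, or_false] at hr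
      rcases hr with rfl | rfl | rfl | rfl <;>
        rw [pr, map_mul, map_mul, hone _ (by simp), hone _ (by simp)]
  exact hle hx

include hφ hG in
theorem exists_field_aut (τ : K ≃+* K) :
    ∃ Φ : MulAut ↥G.G1, ∀ x : ↥G.G1, ((Φ x : ↥G.G1) : GL chevE6.Idx K) = gmap chevE6 τ.toRingHom x := by
  have hle : ∀ σ : K ≃+* K, G.G1 ≤ G.G1.comap (gmap chevE6 σ.toRingHom) := by
    intro σ
    obtain ⟨m1, m2⟩ := mem_G1 hφ G hG
    have hcom : ∀ t, σ.toRingHom (φ t) = φ (σ.toRingHom t) := fun t => by rw [hφ, hφ, map_pow]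
    refine G1_induction hφ G hG (fun r hr t ht => ?_) (fun rs hr t => ?_) <;> rw [Subgroup.mem_comap]
    · rw [E6.ok.gmap_xG _ (by simp only [List.mem_cons, List.not_mem_nil, or_false] at hr
                              rcases hr with rfl | rfl | rfl | rfl <;> decide)]
      exact m1 r hr _ (by rw [← hcom, ht])
    · have hr' := hr
      simp only [List.mem_cons, List.not_mem_nil, or_false] at hr'
      rcases hr' with rfl | rfl | rfl | rfl <;>
        (rw [pr, map_mul, E6.ok.gmap_xG _ (by decide), E6.ok.gmap_xG _ (by decide), hcom]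
         exact m2 _ hr _)
  have hs : ∀ (σ : K ≃+* K) (g : GL chevE6.Idx K),
      gmap chevE6 σ.symm.toRingHom (gmap chevE6 σ.toRingHom g) = g := by
    intro σ g
    apply Units.ext
    ext i j
    simp [coe_gmap]
  refine ⟨
    { toFun := fun x => ⟨gmap chevE6 τ.toRingHom x, hle τ x.2⟩
      invFun := fun x => ⟨gmap chevE6 τ.symm.toRingHom x, hle τ.symm x.2⟩
      left_inv := fun x => Subtype.ext (hs τ _)
      right_inv := fun x => Subtype.ext (by simpa using hs τ.symm (x : GL chevE6.Idx K))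
      map_mul' := fun x y => Subtype.ext (map_mul _ _ _) }, fun x => rfl⟩

include hφ hK hq hG hO in
/-- Every automorphism is inner times diagonal times field. -/
theorem aut_decomp (Ψ : ↥(fixT φ) →* MulAut ↥G.G1) (hΨ : ∀ (a : ↥(fixT φ)) (x : ↥G.G1),
    ((Ψ a x : ↥G.G1) : GL chevE6.Idx K) = dd (a : Fin 6 → Kˣ) * x * (dd (a : Fin 6 → Kˣ))⁻¹)
    (α : MulAut ↥G.G1) : ∃ (g : ↥G.G1) (a : ↥(fixT φ)) (τ : K ≃+* K),
    ∀ x : ↥G.G1, ((Ψ a (g * α x * g⁻¹) : ↥G.G1) : GL chevE6.Idx K) = gmap chevE6 τ.toRingHom x := by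
  classical
  obtain ⟨p, f, hp, -, hpf⟩ := (isPrimePow_nat_iff q).1 hq
  have : Fact p.Prime := ⟨hp⟩
  have R := rankN hφ hK hq G hG hO hpf.symm
  obtain ⟨m1, m2⟩ := mem_G1 hφ G hG
  obtain ⟨oa, ob, oc, od⟩ := orb_mem G hO
  obtain ⟨g, β, hβ, hbU, hbX, hbd⟩ := R.normalise ckComm_E6 α
  have hXG : ∀ o ∈ G.O.orbs, TwistGrp.Xm G l0 o ≤ G.G1 := fun o ho y hy =>
    (TwistGrp.Xm_le ckComm_E6 R.long R.n0 ho hy).2
  have hU := perm_id hφ hK hq G hG hO (fun o ho => G.root_mem o ho) (fun o _ o' _ => Iff.rfl) hbU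
  have hX := perm_id hφ hK hq G hG hO hXG (fun o ho o' ho' => ⟨fun hc x hx y hy => by
      have hconj : ∀ o z, z ∈ G.Uw o.2 → (E6.ok.nW (F := K) l0)⁻¹ * z * E6.ok.nW l0 ∈ TwistGrp.Xm G l0 o :=
        fun o z hz => TwistGrp.mem_Xm.2 (by simpa [mul_assoc] using hz)
      have := (hc _ (hconj o x hx) _ (hconj o' y hy)).map (MulAut.conj (E6.ok.nW (F := K) l0)).toMonoidHom
      simpa [mul_assoc] using this,
    fun hc x hx y hy => by
      have := (hc _ (TwistGrp.mem_Xm.1 hx) _ (TwistGrp.mem_Xm.1 hy)).map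
        (MulAut.conj (E6.ok.nW (F := K) l0)⁻¹).toMonoidHom
      simpa [mul_assoc] using this⟩) hbX
  -- the images of the base elements
  have e1 := m1 46 (by simp) 1 (map_one φ)
  have e3 := m1 39 (by simp) 1 (map_one φ)
  have e4 := m2 (42, 37) (by simp) 1
  have e5 := m2 (56, 36) (by simp) 1
  obtain ⟨x1, hx1, ex1⟩ := Uw_single G hO (a := 46) (by simp)
    ((hU _ oa ⟨_, e1⟩).1 (mem_Uw G hO oa e1 (E6.ok.xG_mem_genR (S := fun r => r ∈ rootsOf ([1], [1])) (show 46 ∈ rootsOf ([1], [1]) by simp [rootsOf]) 1)))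
  obtain ⟨x3, hx3, ex3⟩ := Uw_single G hO (a := 39) (by simp)
    ((hU _ ob ⟨_, e3⟩).1 (mem_Uw G hO ob e3 (E6.ok.xG_mem_genR (S := fun r => r ∈ rootsOf ([3], [3])) (show 39 ∈ rootsOf ([3], [3]) by simp [rootsOf]) 1)))
  obtain ⟨x4, ex4⟩ := Uw_pair G (a := 42) (b := 37) (by simp)
    ((hU _ oc ⟨_, e4⟩).1 (mem_Uw G hO oc e4 (mul_mem (E6.ok.xG_mem_genR (S := fun r => r ∈ rootsOf ([2, 4], [2, 4])) (show 42 ∈ rootsOf ([2, 4], [2, 4]) by simp [rootsOf]) _)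
      (E6.ok.xG_mem_genR (show 37 ∈ rootsOf ([2, 4], [2, 4]) by simp [rootsOf]) _))))
  obtain ⟨x5, ex5⟩ := Uw_pair G (a := 56) (b := 36) (by simp)
    ((hU _ od ⟨_, e5⟩).1 (mem_Uw G hO od e5 (mul_mem (E6.ok.xG_mem_genR (S := fun r => r ∈ rootsOf ([0, 5], [0, 5])) (show 56 ∈ rootsOf ([0, 5], [0, 5]) by simp [rootsOf]) _)
      (E6.ok.xG_mem_genR (show 36 ∈ rootsOf ([0, 5], [0, 5]) by simp [rootsOf]) _))))
  have hne : ∀ {z : GL chevE6.Idx K} (hz : z ∈ G.G1), z ≠ 1 → ((β ⟨z, hz⟩ : ↥G.G1) : GL chevE6.Idx K) ≠ 1 := by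
    intro z hz hz1 e
    exact hz1 (congrArg Subtype.val ((MulEquiv.map_eq_one_iff β).1 (Subtype.ext e)))
  have n1 : x1 ≠ 0 := fun e => hne e1 (fun e' => one_ne_zero (E6.ok.xG_inj_param (show 46 < E6.pk.nroots by decide)
    (e'.trans (E6.ok.xG_zero 46).symm))) (by rw [ex1, e, E6.ok.xG_zero])
  have n3 : x3 ≠ 0 := fun e => hne e3 (fun e' => one_ne_zero (E6.ok.xG_inj_param (show 39 < E6.pk.nroots by decide)
    (e'.trans (E6.ok.xG_zero 39).symm))) (by rw [ex3, e, E6.ok.xG_zero])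
  have n4 : x4 ≠ 0 := fun e => hne e4 (fun e' => one_ne_zero (pr_inj (φ := φ) (a := 42) (b := 37) (by simp)
    (e'.trans (pr_zero 42 37).symm))) (by rw [ex4, e, pr_zero])
  have n5 : x5 ≠ 0 := fun e => hne e5 (fun e' => one_ne_zero (pr_inj (φ := φ) (a := 56) (b := 36) (by simp)
    (e'.trans (pr_zero 56 36).symm))) (by rw [ex5, e, pr_zero])
  set av := fixC φ (Units.mk0 x5 n5)⁻¹ (Units.mk0 x1 n1)⁻¹ (Units.mk0 x4 n4)⁻¹ (Units.mk0 x3 n3)⁻¹ with hav
  have hat : av ∈ fixT φ := fixC_tau hφ hK (by simp [map_inv₀, hx1]) (by simp [map_inv₀, hx3])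
  set γ : MulAut ↥G.G1 := Ψ ⟨av, hat⟩ * β with hγd
  have hγ : ∀ x, ((γ x : ↥G.G1) : GL chevE6.Idx K) = dd av * (β x : ↥G.G1) * (dd av)⁻¹ := fun x => hΨ _ _
  have hstab : ∀ (S : ℕ → Prop) (y : GL chevE6.Idx K), (∀ r, S r → r < E6.pk.nroots) → y ∈ G.G1 →
      (y ∈ E6.ok.genR S ⊓ (T φ).fixed ↔ dd av * y * (dd av)⁻¹ ∈ E6.ok.genR S ⊓ (T φ).fixed) := by
    intro S y hS hy
    refine ⟨fun h => ⟨dd_genR av hS h.1, G.le_fixed (dd_mem hφ G hG hat hy)⟩, fun h => ⟨?_, G.le_fixed hy⟩⟩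
    have := dd_genR av⁻¹ hS h.1
    rwa [show dd av⁻¹ = (dd av)⁻¹ from (Aut.dR_inv E6.ok av).symm, show ∀ d z : GL chevE6.Idx K,
      d⁻¹ * (d * z * d⁻¹) * d⁻¹⁻¹ = z by intros; group] at this
  have hgood : Good G γ := by
    refine ⟨fun o ho x => ?_, fun o ho x => ?_, fun x hx => ?_⟩
    · refine (hU o ho x).trans ?_
      rw [hγ]
      exact hstab _ _ (fun r hr => (E6.pk.isPos_iff.1 hr.1).2) (β x).2
    · rw [hX o ho x, hγ]
      obtain ⟨L, hL⟩ : ∃ L, (o, L) ∈ [((([1], [1]) : List ℕ × List ℕ), [(25 : ℕ)]), (([3], [3]), [32]),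
          (([2, 4], [2, 4]), [29, 34]), (([0, 5], [0, 5]), [15, 35])] ∧ (∀ r ∈ L, r < E6.pk.nroots) ∧
          ∀ z ∈ TwistGrp.Xm G l0 o, z ∈ E6.ok.genR (fun r => r ∈ L) := by
        rcases orb_cases G hO ho with rfl | rfl | rfl | rfl
        · refine ⟨[25], by simp, by decide, fun z hz => ?_⟩
          obtain ⟨t, -, rfl⟩ := form_single G hO (a := 46) (c := 25) (by simp) hz
          exact E6.ok.xG_mem_genR (by simp) _
        · refine ⟨[32], by simp, by decide, fun z hz => ?_⟩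
          obtain ⟨t, -, rfl⟩ := form_single G hO (a := 39) (c := 32) (by simp) hz
          exact E6.ok.xG_mem_genR (by simp) _
        · refine ⟨[29, 34], by simp, by decide, fun z hz => ?_⟩
          obtain ⟨t, rfl⟩ := form_pair hφ hK G hG hO R.n0 (a := 42) (b := 37) (c := 29) (d := 34) (by simp) hz
          exact mul_mem (E6.ok.xG_mem_genR (by simp) _) (E6.ok.xG_mem_genR (by simp) _)
        · refine ⟨[15, 35], by simp, by decide, fun z hz => ?_⟩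
          obtain ⟨t, rfl⟩ := form_pair hφ hK G hG hO R.n0 (a := 56) (b := 36) (c := 15) (d := 35) (by simp) hz
          exact mul_mem (E6.ok.xG_mem_genR (by simp) _) (E6.ok.xG_mem_genR (by simp) _)
      constructor
      · intro h
        exact mem_Xm' G hO R.n0 hL.1 (dd_mem hφ G hG hat (β x).2) (dd_genR av hL.2.1 (hL.2.2 _ h))
      · intro h
        have h' := dd_genR av⁻¹ hL.2.1 (hL.2.2 _ h)
        rw [show dd av⁻¹ = (dd av)⁻¹ from (Aut.dR_inv E6.ok av).symm, show ∀ d z : GL chevE6.Idx K,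
          d⁻¹ * (d * z * d⁻¹) * d⁻¹⁻¹ = z by intros; group] at h'
        exact mem_Xm' G hO R.n0 hL.1 (β x).2 h'
    · obtain ⟨c, -, ec⟩ := diag_cases hφ hK G (hbd x hx) (β x).2
      rw [hγ, ec, dd_hH av c]
      exact hH_diag c
  obtain ⟨r0, r1, r2, r3, r4, r5⟩ := rchar6 av
  obtain ⟨τ, hτ⟩ := canon_unit hφ hK hq G hG hO γ hgood (fun x hx => Subtype.ext (by
    rw [hγ]
    simp only [List.mem_cons, List.not_mem_nil, or_false] at hx
    rcases hx with h | h | h | h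
    · obtain rfl : x = ⟨_, e1⟩ := Subtype.ext h
      rw [ex1, Aut.dR_conj_xG E6.ok av (by decide), r1]
      simp [hav, fixC, n1]
    · obtain rfl : x = ⟨_, e3⟩ := Subtype.ext h
      rw [ex3, Aut.dR_conj_xG E6.ok av (by decide), r3]
      simp [hav, fixC, n3]
    · obtain rfl : x = ⟨_, e4⟩ := Subtype.ext h
      rw [ex4, dd_pr (by decide) (by decide) (by rw [r2, r4]; simp [hav, fixC]), r2]
      simp [hav, fixC, n4]
    · obtain rfl : x = ⟨_, e5⟩ := Subtype.ext h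
      rw [ex5, dd_pr (by decide) (by decide) (by rw [r0, r5]; simp [hav, fixC]), r0]
      simp [hav, fixC, n5]))
  refine ⟨g, ⟨av, hat⟩, τ, fun x => ?_⟩
  rw [← hτ x, hγd, MulAut.mul_apply, hβ]

include hφ hK hq hG hO in
/-- Diagonal times field automorphisms agreeing modulo inner ones. -/
theorem out_inj (f : ↥(fixT φ) →* ↥(fixT φ))
    (hf : ∀ c : ↥(fixT φ), ((f c : ↥(fixT φ)) : Fin 6 → Kˣ) = charU (c : Fin 6 → Kˣ))
    (a a' : ↥(fixT φ)) (τ τ' : K ≃+* K) (g : ↥G.G1) (e : ∀ x : ↥G.G1,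
      dd (a' : Fin 6 → Kˣ) * gmap chevE6 τ'.toRingHom (x : GL chevE6.Idx K) * (dd (a' : Fin 6 → Kˣ))⁻¹ =
      dd (a : Fin 6 → Kˣ) * gmap chevE6 τ.toRingHom ((g * x * g⁻¹ : ↥G.G1) : GL chevE6.Idx K) *
        (dd (a : Fin 6 → Kˣ))⁻¹) :
    τ = τ' ∧ a⁻¹ * a' ∈ f.range := by
  obtain ⟨p, f', hp, -, hpf⟩ := (isPrimePow_nat_iff q).1 hq
  have : Fact p.Prime := ⟨hp⟩
  have R := rankN hφ hK hq G hG hO hpf.symm
  obtain ⟨m1, m2⟩ := mem_G1 hφ G hG
  have hsy : ∀ z : GL chevE6.Idx K, gmap chevE6 τ.symm.toRingHom (gmap chevE6 τ.toRingHom z) = z := by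
    intro z
    apply Units.ext
    ext i j
    simp [coe_gmap]
  have hup : ∀ σ : K ≃+* K, ∀ x ∈ G.Up, gmap chevE6 σ.toRingHom x ∈ G.Up := fun σ x hx => by
    obtain ⟨Φ, hΦ⟩ := exists_field_aut hφ G hG σ
    exact ⟨E6.ok.gmap_pos _ hx.1, hΦ ⟨x, hx.2⟩ ▸ (Φ _).2⟩
  have hum : ∀ σ : K ≃+* K, ∀ x ∈ G.Um, gmap chevE6 σ.toRingHom x ∈ G.Um := fun σ x hx => by
    have sw := TwistGrp.swap (G := G) ckComm_E6 R.long R.n0
    have h1 := hup σ _ ((sw x).1.2 hx)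
    rw [map_mul, map_mul, map_inv, E6.ok.gmap_nW _ l0 l0_long.1] at h1
    exact (sw _).1.1 h1
  have hdp : ∀ b ∈ fixT φ, ∀ x ∈ G.Up, dd b * x * (dd b)⁻¹ ∈ G.Up := fun b hb x hx =>
    ⟨Aut.dR_pos E6.ok b hx.1, dd_mem hφ G hG hb hx.2⟩
  have hdm : ∀ b ∈ fixT φ, ∀ x ∈ G.Um, dd b * x * (dd b)⁻¹ ∈ G.Um := fun b hb x hx =>
    ⟨Aut.dR_neg E6.ok b hx.1, dd_mem hφ G hG hb hx.2⟩
  have e' : ∀ x : ↥G.G1, (g : GL chevE6.Idx K) * x * (g : GL chevE6.Idx K)⁻¹ = gmap chevE6 τ.symm.toRingHom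
      (dd (a : Fin 6 → Kˣ)⁻¹ * (dd (a' : Fin 6 → Kˣ) * gmap chevE6 τ'.toRingHom x * (dd (a' : Fin 6 → Kˣ))⁻¹) *
        (dd (a : Fin 6 → Kˣ)⁻¹)⁻¹) := fun x => by
    rw [e x, show dd (a : Fin 6 → Kˣ)⁻¹ = (dd (a : Fin 6 → Kˣ))⁻¹ from (Aut.dR_inv E6.ok _).symm,
      show ∀ d z : GL chevE6.Idx K, d⁻¹ * (d * z * d⁻¹) * d⁻¹⁻¹ = z by intros; group, hsy]
    simp
  have hd : (g : GL chevE6.Idx K) ∈ chevE6.diagonalSubgroup K := by
    rw [TwistGrp.mem_diag_iff ckComm_E6 R.long R.n0 R.proper g.2]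
    refine ⟨fun x hx => ?_, fun x hx => ?_⟩
    · rw [e' ⟨x, hx.2⟩]; exact hup _ _ (hdp _ (inv_mem a.2) _ (hdp _ a'.2 _ (hup _ _ hx)))
    · rw [e' ⟨x, hx.2⟩]; exact hum _ _ (hdm _ (inv_mem a.2) _ (hdm _ a'.2 _ (hum _ _ hx)))
  obtain ⟨c, hc, ec⟩ := diag_cases hφ hK G hd g.2
  have hcomm : ∀ t, τ.toRingHom (φ t) = φ (τ.toRingHom t) := fun t => by rw [hφ, hφ, map_pow]
  have hcomm' : ∀ t, τ'.toRingHom (φ t) = φ (τ'.toRingHom t) := fun t => by rw [hφ, hφ, map_pow]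
  obtain ⟨t5, t1, t4, t3, t2, t0⟩ := tau_fixed φ (show (T φ).τ (a : Fin 6 → Kˣ) = _ from a.2)
  obtain ⟨u5, u1, u4, u3, u2, u0⟩ := tau_fixed φ (show (T φ).τ (a' : Fin 6 → Kˣ) = _ from a'.2)
  obtain ⟨f1, f3, f2, f0⟩ := chars_fixed hc
  obtain ⟨r0, r1, r2, r3, r4, r5⟩ := rchar6 (a : Fin 6 → Kˣ)
  obtain ⟨s0, s1, s2, s3, s4, s5⟩ := rchar6 (a' : Fin 6 → Kˣ)
  have single : ∀ r ∈ [(46 : ℕ), 25, 39, 32], r < E6.pk.nroots → ∀ t, φ t = t →
      (Aut.rchar E6.pk (a' : Fin 6 → Kˣ) r : K) * τ' t =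
        (Aut.rchar E6.pk (a : Fin 6 → Kˣ) r : K) * τ (hchar E6.pk c r * t) := fun r hr hrn t ht => by
    have := e ⟨_, m1 r hr t ht⟩
    simp only [Subgroup.coe_mul, Subgroup.coe_inv, ec, hH_conj c hrn, E6.ok.gmap_xG _ hrn,
      Aut.dR_conj_xG E6.ok (a : Fin 6 → Kˣ) hrn, Aut.dR_conj_xG E6.ok (a' : Fin 6 → Kˣ) hrn] at this
    exact E6.ok.xG_inj_param hrn this
  have pair : ∀ r s : ℕ, (r, s) ∈ [((42 : ℕ), (37 : ℕ)), (56, 36)] → (r, s) ∈ [((56 : ℕ), (36 : ℕ)), (15, 35), (42, 37), (29, 34)] →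
      r < E6.pk.nroots → s < E6.pk.nroots → φ (hchar E6.pk c r) = hchar E6.pk c s →
      φ (Aut.rchar E6.pk (a : Fin 6 → Kˣ) r : K) = Aut.rchar E6.pk (a : Fin 6 → Kˣ) s →
      φ (Aut.rchar E6.pk (a' : Fin 6 → Kˣ) r : K) = Aut.rchar E6.pk (a' : Fin 6 → Kˣ) s →
      ∀ t, (Aut.rchar E6.pk (a' : Fin 6 → Kˣ) r : K) * τ' t =
        (Aut.rchar E6.pk (a : Fin 6 → Kˣ) r : K) * τ (hchar E6.pk c r * t) := by
    intro r s hp hp' hr hs hc' ha ha' t
    have hg : ∀ (σ : K ≃+* K), (∀ u, σ.toRingHom (φ u) = φ (σ.toRingHom u)) → ∀ u,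
        gmap chevE6 σ.toRingHom (pr φ r s u) = pr φ r s (σ u) := fun σ hσ u => by
      rw [pr, pr, map_mul, E6.ok.gmap_xG _ hr, E6.ok.gmap_xG _ hs, hσ]
      rfl
    have := e ⟨_, m2 (r, s) hp' t⟩
    simp only [Subgroup.coe_mul, Subgroup.coe_inv, ec, hH_pr hr hs hc', hg τ hcomm, hg τ' hcomm', dd_pr hr hs ha,
      dd_pr hr hs ha'] at this
    exact pr_inj hp this
  have p4 := pair 42 37 (by simp) (by simp) (by decide) (by decide) f2 (by rw [r2, r4]; exact t2)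
    (by rw [s2, s4]; exact u2)
  have p5 := pair 56 36 (by simp) (by simp) (by decide) (by decide) f0 (by rw [r0, r5]; exact t0)
    (by rw [s0, s5]; exact u0)
  have k4 := p4 1
  rw [map_one, mul_one, mul_one] at k4
  have hττ : τ = τ' := by
    refine RingEquiv.ext fun t => ?_
    have h := p4 t
    rw [map_mul, ← mul_assoc, ← k4] at h
    exact (mul_left_cancel₀ (Units.ne_zero _) h).symm
  refine ⟨hττ, ?_⟩
  -- the class of the diagonal part
  set c' : Fin 6 → Kˣ := fun i => Units.map τ.toRingHom.toMonoidHom (c i) with hc'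
  have hc't : c' ∈ fixT φ := by
    show (T φ).τ c' = c'
    obtain ⟨v5, v1, v4, v3, v2, v0⟩ := tau_fixed φ hc
    rw [tau_apply]
    funext j
    fin_cases j <;> apply Units.ext
    exacts [(hcomm _).symm.trans (congrArg τ.toRingHom v5), (hcomm _).symm.trans (congrArg τ.toRingHom v1),
      (hcomm _).symm.trans (congrArg τ.toRingHom v4), (hcomm _).symm.trans (congrArg τ.toRingHom v3),
      (hcomm _).symm.trans (congrArg τ.toRingHom v2), (hcomm _).symm.trans (congrArg τ.toRingHom v0)]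
  have hch : ∀ r, hchar E6.pk c' r = τ (hchar E6.pk c r) := fun r => by
    show ∏ i, _ = τ (∏ i, _)
    simp [hc', map_prod, map_zpow₀]
  refine ⟨⟨c', hc't⟩, ?_⟩
  rw [eq_inv_mul_iff_mul_eq]
  apply Subtype.ext
  refine tau_ext (show (T φ).τ _ = _ from (a * f ⟨c', hc't⟩).2) (show (T φ).τ _ = _ from a'.2) ?_ ?_ ?_ ?_ <;>
    apply Units.ext <;> simp only [Subgroup.coe_mul, Pi.mul_apply, Units.val_mul, hf] <;>
    show _ * hchar E6.pk c' _ = _ <;> rw [hch]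
  · have h := p5 1
    rw [map_one, mul_one, mul_one, r0, s0] at h
    exact h.symm
  · have h := single 46 (by simp) (by decide) 1 (map_one φ)
    rw [map_one, mul_one, mul_one, r1, s1] at h
    exact h.symm
  · rw [r2, s2] at k4
    exact k4.symm
  · have h := single 39 (by simp) (by decide) 1 (map_one φ)
    rw [map_one, mul_one, mul_one, r3, s3] at h
    exact h.symm

include hφ hK hq hG hO in
/-- The number of outer automorphisms. -/
theorem card_out {p f : ℕ} [Fact p.Prime] [CharP K p] (hKp : Fintype.card K = p ^ (2 * f)) :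
    Nat.card (Cfsg.Out ↥G.G1) = 2 * Nat.gcd 3 (q + 1) * f := by
  classical
  obtain ⟨Ψ, hΨ⟩ := exists_diag_aut hφ G hG
  obtain ⟨F, hF⟩ := exists_charHom (φ := φ) hφ hK
  choose Φ hΦ using exists_field_aut hφ G hG
  have hidx : F.range.index = Nat.gcd 3 (q + 1) := by
    have hker : Nat.card F.ker = Nat.gcd 3 (q + 1) := by
      rw [← card_ker hφ hK hq]
      refine Nat.card_congr ⟨fun x => ⟨x.1.1, x.1.2, ?_⟩, fun x => ⟨⟨x.1, x.2.1⟩, ?_⟩, fun _ => rfl, fun _ => rfl⟩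
      · refine E6.ok.hHom_eq_one_of fun j hj => ?_
        have h1 := congrFun (congrArg Subtype.val (MonoidHom.mem_ker.1 x.2)) ⟨j, hj⟩
        rw [hF] at h1
        apply Units.ext
        rw [Units.coe_prod, Units.val_one]
        simp only [Units.val_zpow_eq_zpow_val]
        exact congrArg Units.val h1
      · refine MonoidHom.mem_ker.2 (Subtype.ext (funext fun k => ?_))
        rw [hF]
        have h1 := congrArg Units.val (E6.ok.hHom_eq_one x.2.2 k k.isLt)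
        rw [Units.coe_prod, Units.val_one] at h1
        simp only [Units.val_zpow_eq_zpow_val] at h1
        exact Units.ext h1
    have h1 := Subgroup.card_mul_index F.ker
    rw [Subgroup.index_ker] at h1
    have h2 := Subgroup.card_mul_index F.range
    rw [← h1, mul_comm] at h2
    rw [← hker]
    exact Nat.eq_of_mul_eq_mul_right Nat.card_pos h2
  rw [mul_right_comm, mul_comm, ← hidx, ← Cfsg.Agent.AutPSL.card_ringAut p (2 * f) hKp,
    Subgroup.index_eq_card, ← Nat.card_prod]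
  symm
  refine Nat.card_eq_of_bijective (fun z : (↥(fixT φ) ⧸ F.range) × (K ≃+* K) =>
    (QuotientGroup.mk (Ψ z.1.out * Φ z.2) : Cfsg.Out _)) ⟨fun z z' h => ?_, fun x => ?_⟩
  · obtain ⟨g, hg⟩ := QuotientGroup.eq.1 h
    obtain ⟨e1, e2⟩ := out_inj hφ hK hq G hG hO F hF z.1.out z'.1.out z.2 z'.2 g fun x => by
      have hh : Ψ z'.1.out * Φ z'.2 = Ψ z.1.out * Φ z.2 * MulAut.conj g := by rw [hg]; group
      have := congrArg (fun α : MulAut ↥G.G1 => ((α x : ↥G.G1) : GL chevE6.Idx K)) hh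
      simpa [hΨ, hΦ, mul_assoc] using this
    refine Prod.ext ?_ e1
    rw [← QuotientGroup.out_eq' z.1, ← QuotientGroup.out_eq' z'.1]
    exact QuotientGroup.eq.2 e2
  · obtain ⟨α, rfl⟩ := QuotientGroup.mk_surjective x
    obtain ⟨g, a, τ, hg⟩ := aut_decomp hφ hK hq G hG hO Ψ hΨ α
    refine ⟨(QuotientGroup.mk a⁻¹, τ), ?_⟩
    obtain ⟨c, hc⟩ : (QuotientGroup.mk a⁻¹ : ↥(fixT φ) ⧸ F.range).out⁻¹ * a⁻¹ ∈ F.range :=
      QuotientGroup.eq.1 (QuotientGroup.out_eq' _)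
    set b := (QuotientGroup.mk a⁻¹ : ↥(fixT φ) ⧸ F.range).out with hb
    have hcG : hH (c : Fin 6 → Kˣ) ∈ G.G1 := by
      rw [hG]; exact hHom_fixed_mem φ hφ (show (T φ).τ (c : Fin 6 → Kˣ) = _ from c.2)
    have hinn : Ψ (F c) = MulAut.conj ⟨_, hcG⟩ := MulEquiv.ext fun x => Subtype.ext (by
      rw [hΨ, hF, hH_eq_dd hφ G hG _ x.2]
      simp)
    have hh : Φ τ = Ψ a * MulAut.conj g * α := MulEquiv.ext fun x => Subtype.ext (by
      rw [hΦ, ← hg]
      simp)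
    have hm : ∀ y : ↥G.G1, (QuotientGroup.mk (MulAut.conj y) : Cfsg.Out ↥G.G1) = 1 := fun y =>
      (QuotientGroup.eq_one_iff _).2 ⟨y, rfl⟩
    show (QuotientGroup.mk (Ψ b * Φ τ) : Cfsg.Out ↥G.G1) = _
    have hb' : Ψ b = (Ψ a)⁻¹ * (Ψ (F c))⁻¹ := by
      rw [← map_inv, ← map_inv, ← map_mul, hc]
      congr 1
      rw [mul_inv_rev, inv_inv, inv_inv, mul_comm a b, mul_comm, mul_assoc, mul_inv_cancel, mul_one]
    rw [hb', hh, hinn, QuotientGroup.mk_mul, QuotientGroup.mk_mul, QuotientGroup.mk_mul, QuotientGroup.mk_mul,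
      QuotientGroup.mk_inv, QuotientGroup.mk_inv, hm, hm]
    simp

end Cfsg.Agent.Chev.TwE6
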