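/-
General facts for the automorphisms of twisted groups of relative rank two.
-/
import Cfsg.Agent.Lib.Chev.Aut.TwAut
import Cfsg.Agent.Lib.Chev.FieldAut

set_option autoImplicit false
set_option linter.unusedSectionVars false

namespace Cfsg.Agent.Chev.TwistGrp

open Cfsg.Agent.Chev Cfsg.Lie

variable {D : ChevalleyDatum} {P : Pk} {h : Ok D P} {F : Type*} [Field F] {T : Twist h F} {G : TwistGrp T}

/-- Weyl representatives move generated root subgroups along the roots. -/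
theorem conj_nW_genR {l : List ℕ} (hl : WordOk P l) {S S' : ℕ → Prop}
    (hS : ∀ r, S r → r < P.nroots ∧ S' (wl P l r)) {x : GL D.Idx F} (hx : x ∈ h.genR S) :
    h.nW l * x * (h.nW l)⁻¹ ∈ h.genR S' := by
  have hle : h.genR (F := F) S ≤ (h.genR S').comap (MulAut.conj (h.nW l)).toMonoidHom := by
    refine h.genR_le fun r hr t => ?_
    obtain ⟨σ, -, hσ⟩ := h.nW_xG (F := F) l hl r (hS r hr).1
    rw [Subgroup.mem_comap, MulEquiv.toMonoidHom_eq_coe, MonoidHom.coe_coe, MulAut.conj_apply, (hσ t).1]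
    exact h.xG_mem_genR (hS r hr).2 _
  simpa using hle hx

theorem diag_genR {S : ℕ → Prop} (hS : ∀ r, S r → r < P.nroots) {k x : GL D.Idx F}
    (hk : k ∈ D.diagonalSubgroup F) (hx : x ∈ h.genR S) : k * x * k⁻¹ ∈ h.genR S := by
  obtain ⟨c, rfl⟩ := h.mem_diagonal_iff.1 hk
  have hle : h.genR (F := F) S ≤ (h.genR S).comap (MulAut.conj (h.hHom c)).toMonoidHom := by
    refine h.genR_le fun r hr t => ?_
    rw [Subgroup.mem_comap, MulEquiv.toMonoidHom_eq_coe, MonoidHom.coe_coe, MulAut.conj_apply,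
      h.hHom_xG c (hS r hr)]
    exact h.xG_mem_genR hr _
  simpa using hle hx

/-- The torus normalises the root subgroups. -/
theorem diag_Uw (l : List ℕ) {k x : GL D.Idx F} (hk : k ∈ D.diagonalSubgroup F) (hkG : k ∈ G.G1)
    (hx : x ∈ G.Uw l) : k * x * k⁻¹ ∈ G.Uw l :=
  ⟨diag_genR (fun _ hr => (P.isPos_iff.1 hr.1).2) hk hx.1,
    Subgroup.mul_mem _ (Subgroup.mul_mem _ (G.le_fixed hkG) hx.2) (Subgroup.inv_mem _ (G.le_fixed hkG))⟩

variable {l0 : List ℕ}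

theorem diag_Xm (hl : WordOk P l0) (hn0 : h.nW l0 ∈ G.G1) {o : List ℕ × List ℕ} {k y : GL D.Idx F}
    (hk : k ∈ D.diagonalSubgroup F) (hkG : k ∈ G.G1) (hy : y ∈ Xm G l0 o) : k * y * k⁻¹ ∈ Xm G l0 o := by
  rw [mem_Xm] at hy ⊢
  have := diag_Uw (G := G) o.2 ((Subgroup.mem_normalizer_iff.1 (h.nW_normalizer l0 hl) k).1 hk)
    (mul_mem (mul_mem hn0 hkG) (inv_mem hn0)) hy
  convert this using 1
  group

variable (hC : P.ckComm = true)
include hC

/-- A middle factor exchanging a root subgroup with its opposite is unique. -/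
theorem eq_of_swap [Finite F] (hlong : Aut.Longest P l0) (hn0 : h.nW l0 ∈ G.G1) {o : List ℕ × List ℕ} {L : List ℕ}
    (hd : OrbData G l0 o L) {p : ℕ} [Fact p.Prime] (hpm : IsPGroup p G.Um) (hne : G.Uw o.2 ≠ ⊥)
    {x1 x2 y y' : GL D.Idx F} (hx1 : x1 ∈ G.Uw o.2) (hx2 : x2 ∈ G.Uw o.2) (hy : y ∈ Xm G l0 o)
    (hy' : y' ∈ Xm G l0 o) (hn : ∀ g ∈ G.Uw o.2, x1 * y * x2 * g * (x1 * y * x2)⁻¹ ∈ Xm G l0 o)
    (hn' : ∀ g ∈ G.Uw o.2, x1 * y' * x2 * g * (x1 * y' * x2)⁻¹ ∈ Xm G l0 o) : y' = y := by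
  set m := x1 * y * x2 with hm
  have e := Subgroup.eq_of_le_of_card_ge (H := (G.Uw o.2).map (MulAut.conj m).toMonoidHom) (K := Xm G l0 o)
    (by rintro _ ⟨a, ha, rfl⟩; exact hn a ha)
    (by rw [Xm, Subgroup.card_map_of_injective (MulEquiv.injective _),
      Subgroup.card_map_of_injective (MulEquiv.injective _)])
  set r := y⁻¹ * y' with hr
  have hnorm : ∀ a ∈ G.Uw o.2, r * a * r⁻¹ ∈ G.Uw o.2 := by
    intro a ha
    have h1 := hn' _ (mul_mem (mul_mem (inv_mem hx2) ha) hx2)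
    rw [← e] at h1
    obtain ⟨b, hb, eb⟩ := h1
    have h2 : m⁻¹ * (x1 * y' * x2 * (x2⁻¹ * a * x2) * (x1 * y' * x2)⁻¹) * m = b := by
      rw [← eb]
      simp [mul_assoc]
    have h3 := mul_mem (mul_mem hx2 hb) (inv_mem hx2)
    rw [← h2] at h3
    convert h3 using 1
    rw [hm, hr]
    group
  have hrX : r ∈ Xm G l0 o := mul_mem (inv_mem hy) hy'
  have hrM : r ∈ G.Um ⊓ Pm G o := by rw [Um_inf_Pm hC hlong hn0 hd hpm hne]; exact hrX
  have hB : r ∈ D.borelSubgroup F := by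
    rcases G.orbit_cell hC hd.mem hrM.2.2 hrM.2.1 with hB | ⟨b, hb, k, hk, u, hu, er⟩
    · exact hB.1
    · exfalso
      obtain ⟨a, ha, hane⟩ := Subgroup.nontrivial_iff_exists_ne_one _ |>.1
        ((Subgroup.nontrivial_iff_ne_bot _).2 hne)
      have hkG := hk.2
      have ha' : u⁻¹ * (k⁻¹ * a * k) * u ∈ G.Uw o.2 := by
        have h1 := diag_Uw (G := G) o.2 (inv_mem hk.1) (inv_mem hkG) ha
        rw [inv_inv] at h1
        exact mul_mem (mul_mem (inv_mem hu) h1) hu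
      have h1 := hnorm _ ha'
      rw [er, show b * h.nW o.2 * k * u * (u⁻¹ * (k⁻¹ * a * k) * u) * (b * h.nW o.2 * k * u)⁻¹ =
        b * (h.nW o.2 * a * (h.nW o.2)⁻¹) * b⁻¹ by group] at h1
      have h2 : h.nW o.2 * a * (h.nW o.2)⁻¹ ∈ D.borelSubgroup F := by
        have := Subgroup.mul_mem (D.borelSubgroup F) (Subgroup.mul_mem _ (Subgroup.inv_mem _ hb.1)
          (Subgroup.mem_sup_left (h.negS_le_pos _ h1.1) :
            b * (h.nW o.2 * a * (h.nW o.2)⁻¹) * b⁻¹ ∈ D.borelSubgroup F)) hb.1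
        convert this using 1
        group
      have h3 := Subgroup.mem_inf.2 ⟨h2, (Xm_le hC hlong hn0 hd.mem (conj_orb_le hC hlong hn0 hd ha)).1⟩
      erw [h.borel_inf_neg, Subgroup.mem_bot, conj_eq_one_iff] at h3
      exact hane h3
  have h4 := Subgroup.mem_inf.2 ⟨hB, hrM.1.1⟩
  erw [h.borel_inf_neg, Subgroup.mem_bot] at h4
  exact (inv_mul_eq_one.1 h4).symm

omit hC in
theorem gmap_symm (τ : F ≃+* F) (g : GL D.Idx F) : gmap D τ.symm.toRingHom (gmap D τ.toRingHom g) = g := by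
  apply Units.ext
  ext i j
  simp [coe_gmap]

/-- An inner automorphism that is a field automorphism comes from the torus. -/
theorem diag_of_field (hlong : Aut.Longest P l0) (hn0 : h.nW l0 ∈ G.G1) (hp : G.Proper) {g : GL D.Idx F}
    (hg : g ∈ G.G1) (hG : ∀ σ : F ≃+* F, ∀ x ∈ G.G1, gmap D σ.toRingHom x ∈ G.G1) (τ τ' : F ≃+* F)
    (e : ∀ x ∈ G.G1, g * x * g⁻¹ = gmap D τ.symm.toRingHom (gmap D τ'.toRingHom x)) :
    g ∈ D.diagonalSubgroup F := by
  have hup : ∀ σ : F ≃+* F, ∀ x ∈ G.Up, gmap D σ.toRingHom x ∈ G.Up := fun σ x hx =>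
    ⟨h.gmap_pos _ hx.1, hG σ x hx.2⟩
  have hum : ∀ σ : F ≃+* F, ∀ x ∈ G.Um, gmap D σ.toRingHom x ∈ G.Um := fun σ x hx => by
    have sw := swap (G := G) hC hlong hn0
    have h1 := hup σ _ ((sw x).1.2 hx)
    rw [map_mul, map_mul, map_inv, h.gmap_nW _ l0 hlong.1] at h1
    exact (sw _).1.1 h1
  rw [mem_diag_iff hC hlong hn0 hp hg]
  refine ⟨fun x hx => ?_, fun x hx => ?_⟩
  · rw [e x hx.2]; exact hup _ _ (hup _ _ hx)
  · rw [e x hx.2]; exact hum _ _ (hum _ _ hx)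

end Cfsg.Agent.Chev.TwistGrp
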