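/-
The outer automorphism group of ²F₄(q) consists of field automorphisms.
-/
import Cfsg.Agent.Lib.Chev.Aut.TwAutGen
import Cfsg.Agent.Lib.Chev.Gen.TwGenF4
import Cfsg.Agent.Lib.AutPSL.Counts
import Cfsg.Prelude.Def_KGroupFacts

set_option autoImplicit false
set_option linter.unusedSectionVars false
set_option maxHeartbeats 800000

namespace Cfsg.Agent.Chev.TwF4

open Cfsg.Lie
open scoped Matrix

/-- A longest word commuting with the twist. -/
def lTop : List ℕ := [0, 3, 1, 2, 1, 2] ++ [0, 3, 1, 2, 1, 2] ++ [0, 3, 1, 2, 1, 2] ++ [0, 3, 1, 2, 1, 2]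

theorem autTables :
    (lTop.all fun i => Nat.blt i F4.pk.rank) = true ∧
    ((posL F4.pk).all fun r => !F4.pk.isPos (wl F4.pk lTop r)) = true ∧
    ([24, 33, 25, 27, 28, 30].all fun r => Nat.beq (wl F4.pk lTop r) (F4.pk.ng r)) = true ∧
    ([24, 33].all fun r => ([24, 33].map F4.pk.ng).any (Nat.beq (wl F4.pk [0, 3] r))) = true ∧
    ([25, 27, 28, 30].all fun r => ([25, 27, 28, 30].map F4.pk.ng).any (Nat.beq (wl F4.pk [1, 2, 1, 2] r))) = true ∧
    ([25, 27, 28, 30].all fun r => F4.pk.isPos (wl F4.pk [0, 3] r)) = true ∧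
    (F4.pk.allRoots.all fun r => Nat.beq (wl F4.pk ([0, 3] ++ [0, 3]) r) r &&
      Nat.beq (wl F4.pk ([1, 2, 1, 2] ++ [1, 2, 1, 2]) r) r) = true := by decide +kernel

theorem lTop_long : Aut.Longest F4.pk lTop := by
  obtain ⟨h1, h2, -⟩ := autTables
  refine ⟨fun i hi => by simpa using List.all_eq_true.1 h1 i hi, fun r hr => ?_⟩
  simpa using List.all_eq_true.1 h2 r (mem_posL.2 hr)

variable {K : Type*} [Field K] [CharP K 2] [Fintype K] {φ : K →+* K} (hφ : ∀ t, φ (φ t) ^ 2 = t)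
  {e : ℕ} (hφe : ∀ t, φ t = t ^ e) (G : TwistGrp (T φ)) (hG : G.G1 = twistedF4 K e) (hO : G.O.orbs = orbsT)

include hφ hG hO in
theorem rank2 : TwistGrp.Rank2 G lTop ([0, 3], [0, 3]) ([1, 2], [1, 2, 1, 2]) [24, 33] [25, 27, 28, 30] 2 := by
  haveI := Fact.mk Nat.prime_two
  have hca : ([0, 3], [0, 3]) ∈ G.O.orbs := by rw [hO]; decide
  have hcb : ([1, 2], [1, 2, 1, 2]) ∈ G.O.orbs := by rw [hO]; decide
  obtain ⟨-, -, t1, t2, t3, t4, -⟩ := autTables
  simp only [List.all_eq_true, List.any_eq_true] at t1 t2 t3 t4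
  have top : ∀ r ∈ [(24 : ℕ), 33, 25, 27, 28, 30], wl F4.pk lTop r = F4.pk.ng r := fun r hr =>
    Nat.eq_of_beq_eq_true (t1 r hr)
  have h1 := Fintype.one_lt_card (α := K)
  refine
    { proper := proper φ hφ G hO
      long := lTop_long
      n0 := ?_
      orbs := by rw [hO]; rfl
      da := ⟨hca, ckNegs.1, by decide +kernel, fun r hr => List.mem_map.2 ⟨r, hr, (top r ?_).symm⟩, fun r hr => ?_⟩
      db := ⟨hcb, ckNegs.2, by decide +kernel, fun r hr => List.mem_map.2 ⟨r, hr, (top r ?_).symm⟩, fun r hr => ?_⟩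
      sep := t4
      card := ?_
      sylow := ?_ }
  · rw [lTop, show ([0, 3, 1, 2, 1, 2] : List ℕ) = [0, 3] ++ [1, 2, 1, 2] from rfl]
    simp only [F4.ok.nW_append]
    have := mul_mem (G.nW_mem _ hca) (G.nW_mem _ hcb)
    exact mul_mem (mul_mem (mul_mem this this) this) this
  · simp only [List.mem_cons, List.not_mem_nil, or_false] at hr ⊢; omega
  · obtain ⟨y, hy, e⟩ := t2 r hr
    rw [Nat.eq_of_beq_eq_true e]; exact hy
  · simp only [List.mem_cons, List.not_mem_nil, or_false] at hr ⊢; omega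
  · obtain ⟨y, hy, e⟩ := t3 r hr
    rw [Nat.eq_of_beq_eq_true e]; exact hy
  · rw [card_Uw_pair φ hφ G, card_Uw_quad φ hφ G, sq]
    exact lt_mul_of_one_lt_left (by omega) h1
  · set q := Fintype.card K with hqd
    obtain ⟨n, -, hn⟩ := FiniteField.card K 2
    have hcU : Nat.card ↥(G.Up.subgroupOf G.G1) = q ^ 12 := by
      rw [Nat.card_congr (Subgroup.subgroupOfEquivOfLe (H := G.Up) (K := G.G1) inf_le_right).toEquiv,
        TwistGrp.Up, G.eq_fixed ckComm_F4, card_pos φ hφ G hO]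
    have hPg : IsPGroup 2 ↥(G.Up.subgroupOf G.G1) :=
      IsPGroup.of_card (n := (n : ℕ) * 12) (by rw [hcU, hqd, hn, pow_mul])
    have hidx : ¬ 2 ∣ (G.Up.subgroupOf G.G1).index := by
      intro hdvd
      have h2 := card_G1 φ hφ G hO
      rw [← (G.Up.subgroupOf G.G1).card_mul_index, hcU, mul_assoc, mul_assoc, mul_assoc] at h2
      rw [Nat.eq_of_mul_eq_mul_left (pow_pos (by omega) 12) h2] at hdvd
      have hz := (ZMod.natCast_eq_zero_iff _ _).2 hdvd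
      have hq0 : (q : ZMod 2) = 0 := by
        rw [hqd, hn, Nat.cast_pow, ZMod.natCast_self, zero_pow n.pos.ne']
      have l4 : 1 ≤ q ^ 4 := Nat.one_le_pow _ _ (by omega)
      simp [Nat.cast_sub h1.le, Nat.cast_sub l4, hq0, ← hqd] at hz
    exact ⟨hPg.toSylow hidx, rfl⟩

theorem nt_inv (r : ℕ) (t : K) : (F4.ok.nt r t)⁻¹ = F4.ok.nt r t := by
  simp only [Ok.nt, mul_inv_rev, F4.ok.xG_inv, CharTwo.neg_eq, mul_assoc]

theorem nt_pair_word (t : K) : F4.ok.nt 33 (φ t) * F4.ok.nt 24 t =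
    pw φ (33, 24) t * pw φ (14, 23) t⁻¹ * pw φ (33, 24) t := by
  obtain ⟨-, -, -, -, n1, n2⟩ := sims
  have o : ckOrth F4.pk 33 24 = true ∧ ckOrth F4.pk (F4.pk.ng 33) 24 = true ∧
      ckOrth F4.pk 33 (F4.pk.ng 24) = true := by decide +kernel
  rw [F4.ok.nt_orth ckComm_F4 o.1 o.2.1 o.2.2, n1, n2, CharTwo.neg_eq (φ t)⁻¹, CharTwo.neg_eq t⁻¹, ← map_inv₀]
  rfl

theorem n1_eq : F4.ok.nW (F := K) [0, 3] = F4.ok.nt 33 1 * F4.ok.nt 24 1 := by
  obtain ⟨s0, -, -, s3, -, -⟩ := sims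
  simp [F4.ok.nW_cons, F4.ok.nW_nil, Ok.nG, s0, s3]

theorem n1_word : F4.ok.nW (F := K) [0, 3] = pw φ (33, 24) 1 * pw φ (14, 23) 1 * pw φ (33, 24) 1 := by
  have h := nt_pair_word (φ := φ) (1 : K)
  rw [map_one, inv_one] at h
  rw [n1_eq, h]

theorem n2_word' : F4.ok.nW (F := K) [1, 2, 1, 2] = qw φ qq 0 1 * qw φ (20, 22, 19, 17) 1 1 * qw φ qq 1 0 := by
  rw [← n2_word]
  have e1 : qw φ qq (0 : K) 1 = x 28 1 * x 30 1 := by simp [qw_layer]
  have e2 : qw φ (20, 22, 19, 17) (1 : K) 1 = x 20 1 * x 22 1 * x 17 1 := by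
    simp [qw, nf, CharTwo.add_self_eq_zero, x0, mul_assoc]
  have e3 : qw φ qq (1 : K) 0 = x 27 1 * x 25 1 * x 28 1 := by simp [qw, nf, x0]
  rw [e1, e2, e3]

theorem tor_pair (z : Kˣ) : hH (tor φ z 1) =
    pw φ (33, 24) (z : K) * pw φ (14, 23) (z : K)⁻¹ * pw φ (33, 24) (z : K) * F4.ok.nW [0, 3] := by
  have hc : tor φ z 1 = Pi.mulSingle 0 (Units.map φ.toMonoidHom z) * Pi.mulSingle 3 z := by
    funext j; fin_cases j <;> simp [tor]
  obtain ⟨s0, -, -, s3, -, -⟩ := sims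
  have o : ckOrth F4.pk 33 24 = true ∧ ckOrth F4.pk (F4.pk.ng 33) 24 = true ∧
      ckOrth F4.pk 33 (F4.pk.ng 24) = true ∧ ckOrth F4.pk (F4.pk.ng 33) (F4.pk.ng 24) = true := by decide +kernel
  rw [← nt_pair_word, n1_eq, hc, map_mul, hH_single, hH_single,
    show F4.pk.sim ((0 : Fin 4) : ℕ) = 33 from s0, show F4.pk.sim ((3 : Fin 4) : ℕ) = 24 from s3, Ok.ht, Ok.ht,
    CharTwo.neg_eq (1 : K),
    (F4.ok.commute_nt ckComm_F4 o.1 o.2.1 o.2.2.1 o.2.2.2 (1 : K) (z : K)).mul_mul_mul_comm]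
  rfl

theorem pw14_eq (t : K) :
    pw φ (14, 23) t = (F4.ok.nW [0, 3])⁻¹ * pw φ (33, 24) t * F4.ok.nW [0, 3] := by
  rw [← n_pair φ t]; group

theorem qwNeg_eq (t u : K) :
    qw φ (20, 22, 19, 17) t u = (F4.ok.nW [1, 2, 1, 2])⁻¹ * qw φ qq t u * F4.ok.nW [1, 2, 1, 2] := by
  rw [← n_quad φ t u]; group

include hφe hG in
theorem mem_pq : (∀ p ∈ pairs, ∀ t, pw φ p t ∈ G.G1) ∧ ∀ r ∈ quads, ∀ t u, qw φ r t u ∈ G.G1 := by
  rw [hG]
  exact ⟨fun p hp t => pw_mem φ e hφe hp t, fun r hr t u => qw_mem φ e hφe hr t u⟩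

include hφ in
theorem Uw_a {g : GL chevF4.Idx K} (hg : g ∈ G.Uw [0, 3]) : ∃ t, g = pw φ (33, 24) t := by
  refine pair_class φ hφ ⟨?_, hg.2⟩
  have h := hg.1
  rw [F4.ok.negS_eq ckNegs.1 (by decide +kernel)] at h
  exact F4.ok.genR_mono (fun r hr => by simp only [List.mem_cons, List.not_mem_nil, or_false] at hr ⊢; tauto) h

include hφ in
theorem Uw_b {g : GL chevF4.Idx K} (hg : g ∈ G.Uw [1, 2, 1, 2]) : ∃ t u, g = qw φ qq t u := by
  refine quad_class φ hφ ⟨?_, hg.2⟩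
  have h := hg.1
  rwa [F4.ok.negS_eq ckNegs.2 (by decide +kernel)] at h

include hφ in
theorem mem_Uwa (t : K) : pw φ (33, 24) t ∈ G.Uw [0, 3] := by
  refine ⟨?_, pw_fixed φ hφ (by decide) t⟩
  rw [F4.ok.negS_eq ckNegs.1 (by decide +kernel)]
  exact mul_mem (F4.ok.xG_mem_genR (by simp) _) (F4.ok.xG_mem_genR (by simp) _)

include hφ in
theorem mem_Uwb (t u : K) : qw φ qq t u ∈ G.Uw [1, 2, 1, 2] := by
  refine ⟨?_, qw_fixed φ hφ (by decide) t u⟩
  rw [F4.ok.negS_eq ckNegs.2 (by decide +kernel)]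
  exact mul_mem (mul_mem (F4.ok.xG_mem_genR (by simp) _) (F4.ok.xG_mem_genR (by simp) _))
    (mul_mem (F4.ok.xG_mem_genR (by simp) _) (F4.ok.xG_mem_genR (by simp) _))

include hφ in
/-- The two fundamental characters take all values. -/
theorem exists_torus (x y : Kˣ) : ∃ z w : Kˣ,
    hchar F4.pk (tor φ z w) 24 = (x : K) ∧ hchar F4.pk (tor φ z w) 25 = (y : K) := by
  let f : Kˣ × Kˣ →* Kˣ × Kˣ :=
    { toFun := fun p => (p.1 ^ 2 / p.2, p.2 ^ 2 / Units.map φ.toMonoidHom p.2 ^ 2 / p.1)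
      map_one' := by simp
      map_mul' := fun p r => by
        ext <;> simp [div_eq_mul_inv, mul_pow] <;> ring }
  have hinj : Function.Injective f := by
    refine (injective_iff_map_eq_one f).2 ?_
    rintro ⟨z, w⟩ h
    simp only [f, MonoidHom.coe_mk, OneHom.coe_mk, Prod.mk_eq_one, div_eq_one] at h
    obtain ⟨h1, h2⟩ := h
    have h1' : (z : K) ^ 2 = w := by simpa using congrArg Units.val h1
    have h2' : (w : K) ^ 2 / φ w ^ 2 = z := by simpa [div_eq_mul_inv] using congrArg Units.val h2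
    have hw : (φ (w : K)) ≠ 0 := (map_ne_zero φ).2 w.ne_zero
    have h3 : (w : K) ^ 3 = φ w ^ 4 := by
      rw [← h2'] at h1'
      field_simp at h1'
      exact h1'
    have hw1 := mu_inj φ hφ w.ne_zero h3
    rw [hw1, map_one, one_pow, div_one] at h2'
    exact Prod.ext (Units.ext h2'.symm) (Units.ext hw1)
  obtain ⟨⟨z, w⟩, h⟩ := (Finite.injective_iff_surjective.1 hinj) (x, y)
  simp only [f, MonoidHom.coe_mk, OneHom.coe_mk, Prod.mk.injEq] at h
  obtain ⟨c24, -, c25, -, -, -⟩ := chars (tor φ z w)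
  refine ⟨z, w, ?_, ?_⟩
  · rw [c24, ← h.1]; simp [tor, div_eq_mul_inv, mul_comm]
  · rw [c25, ← h.2]; simp [tor, div_eq_mul_inv]; ring

include hφ in
theorem chi28 (z w : Kˣ) : hchar F4.pk (tor φ z w) 28 =
    φ (hchar F4.pk (tor φ z w) 25) * hchar F4.pk (tor φ z w) 25 := by
  set c := hH (tor φ z w)
  have h := tor_qw φ hφ z w 1 0
  rw [mul_one, mul_zero] at h
  have h1 := congrArg (fun g => g * g) h
  simp only [qw_mul φ hφ qq_mem] at h1
  rw [show c * qw φ qq 1 0 * c⁻¹ * (c * qw φ qq 1 0 * c⁻¹) = c * (qw φ qq 1 0 * qw φ qq 1 0) * c⁻¹ by group,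
    qw_mul φ hφ qq_mem, tor_qw φ hφ] at h1
  simpa using (qw_inj φ h1).2

/-- The compatibility of an automorphism with the root subgroups and the torus. -/
structure Good (β : MulAut ↥G.G1) : Prop where
  ua : ∀ x : ↥G.G1, (x : GL chevF4.Idx K) ∈ G.Uw [0, 3] → ((β x : ↥G.G1) : GL chevF4.Idx K) ∈ G.Uw [0, 3]
  ub : ∀ x : ↥G.G1, (x : GL chevF4.Idx K) ∈ G.Uw [1, 2, 1, 2] →
    ((β x : ↥G.G1) : GL chevF4.Idx K) ∈ G.Uw [1, 2, 1, 2]
  xa : ∀ x : ↥G.G1, (x : GL chevF4.Idx K) ∈ TwistGrp.Xm G lTop ([0, 3], [0, 3]) →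
    ((β x : ↥G.G1) : GL chevF4.Idx K) ∈ TwistGrp.Xm G lTop ([0, 3], [0, 3])
  xb : ∀ x : ↥G.G1, (x : GL chevF4.Idx K) ∈ TwistGrp.Xm G lTop ([1, 2], [1, 2, 1, 2]) →
    ((β x : ↥G.G1) : GL chevF4.Idx K) ∈ TwistGrp.Xm G lTop ([1, 2], [1, 2, 1, 2])
  hd : ∀ x : ↥G.G1, (x : GL chevF4.Idx K) ∈ chevF4.diagonalSubgroup K →
    ((β x : ↥G.G1) : GL chevF4.Idx K) ∈ chevF4.diagonalSubgroup K

include hφ hφe hG hO in
/-- A good automorphism fixing the two base elements is a field automorphism. -/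
theorem canon_unit (hcard : 2 < Fintype.card K) (β : MulAut ↥G.G1) (hβ : Good G β)
    (h1a : ∀ x : ↥G.G1, (x : GL chevF4.Idx K) = pw φ (33, 24) 1 → β x = x)
    (h1b : ∀ x : ↥G.G1, (x : GL chevF4.Idx K) = qw φ qq 1 0 →
      ∃ u, ((β x : ↥G.G1) : GL chevF4.Idx K) = qw φ qq 1 u) :
    ∃ τ : K ≃+* K, ∀ x : ↥G.G1, ((β x : ↥G.G1) : GL chevF4.Idx K) = gmap chevF4 τ.toRingHom x := by
  classical
  haveI := Fact.mk Nat.prime_two
  have R := rank2 hφ G hG hO
  have hn0 := R.n0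
  obtain ⟨mp, mq⟩ := mem_pq hφe G hG
  let F : GL chevF4.Idx K → GL chevF4.Idx K := fun g => if hg : g ∈ G.G1 then (β ⟨g, hg⟩ : ↥G.G1) else 1
  have hF : ∀ x : ↥G.G1, F x = (β x : ↥G.G1) := fun x => (dif_pos x.2 : _)
  have Fm : ∀ {g g' : GL chevF4.Idx K}, g ∈ G.G1 → g' ∈ G.G1 → F (g * g') = F g * F g' := fun {g g'} hg hg' => by
    have := congrArg Subtype.val (map_mul β ⟨g, hg⟩ ⟨g', hg'⟩)
    rw [Subgroup.coe_mul, ← hF, ← hF, ← hF] at this
    exact this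
  have Fi : ∀ {g : GL chevF4.Idx K}, g ∈ G.G1 → F g⁻¹ = (F g)⁻¹ := fun {g} hg => by
    have := congrArg Subtype.val (map_inv β ⟨g, hg⟩)
    rw [Subgroup.coe_inv, ← hF, ← hF] at this
    exact this
  have Fj : ∀ {g g' : GL chevF4.Idx K}, g ∈ G.G1 → g' ∈ G.G1 → F g = F g' → g = g' := fun {g g'} hg hg' e => by
    rw [hF ⟨g, hg⟩, hF ⟨g', hg'⟩] at e
    exact congrArg Subtype.val (β.injective (Subtype.ext e))
  have FG : ∀ {g : GL chevF4.Idx K}, g ∈ G.G1 → F g ∈ G.G1 := fun {g} hg => by rw [hF ⟨g, hg⟩]; exact (β _).2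
  have hp33 : ∀ t, pw φ (33, 24) t ∈ G.G1 := mp _ (by decide)
  have hp14 : ∀ t, pw φ (14, 23) t ∈ G.G1 := mp _ (by decide)
  have hq : ∀ t u, qw φ qq t u ∈ G.G1 := mq _ qq_mem
  have hqn : ∀ t u, qw φ (20, 22, 19, 17) t u ∈ G.G1 := mq _ (by decide)
  -- the parameter maps
  have exa : ∀ t, ∃ s, F (pw φ (33, 24) t) = pw φ (33, 24) s := fun t =>
    Uw_a hφ G (by rw [hF ⟨_, hp33 t⟩]; exact hβ.ua ⟨_, hp33 t⟩ (mem_Uwa hφ G t))
  have exb : ∀ t, ∃ s v, F (qw φ qq t 0) = qw φ qq s v := fun t =>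
    Uw_b hφ G (by rw [hF ⟨_, hq t 0⟩]; exact hβ.ub ⟨_, hq t 0⟩ (mem_Uwb hφ G t 0))
  choose a ha using exa
  choose b d hbd using exb
  obtain ⟨u0, hu0⟩ := h1b ⟨_, hq 1 0⟩ rfl
  rw [← hF] at hu0
  obtain ⟨b1, d1⟩ := qw_inj φ ((hbd 1).symm.trans hu0)
  have hsq : ∀ t, qw φ qq t 0 * qw φ qq t 0 = qw φ qq 0 (φ t * t) := fun t => by
    rw [qw_mul φ hφ qq_mem, CharTwo.add_self_eq_zero, add_zero, zero_add]
  have Fz : ∀ t, F (qw φ qq 0 (φ t * t)) = qw φ qq 0 (φ (b t) * b t) := fun t => by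
    rw [← hsq, Fm (hq t 0) (hq t 0), hbd, qw_mul φ hφ qq_mem, CharTwo.add_self_eq_zero, CharTwo.add_self_eq_zero,
      zero_add]
  have hsplit : ∀ s t, qw φ qq s 0 * qw φ qq t 0 = qw φ qq (s + t) 0 * qw φ qq 0 (φ s * t) := fun s t => by
    rw [qw_mul φ hφ qq_mem, qw_mul φ hφ qq_mem]; simp
  have badd : ∀ s t, b (s + t) = b s + b t := by
    intro s t
    obtain ⟨r, hr⟩ := prod_surj φ hφ (φ s * t)
    have h := congrArg F (hsplit s t)
    rw [Fm (hq s 0) (hq t 0), Fm (hq _ 0) (hq _ _), hbd, hbd, hbd, ← hr, Fz, qw_mul φ hφ qq_mem,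
      qw_mul φ hφ qq_mem] at h
    have h2 := (qw_inj φ h).1
    rw [add_zero] at h2
    exact h2.symm
  have b0 : b 0 = 0 := by
    have := badd 0 0
    rw [add_zero] at this
    exact left_eq_add.1 this
  have aadd : ∀ s t, a (s + t) = a s + a t := fun s t => pw_inj φ (by
    rw [← ha, ← pw_add, Fm (hp33 s) (hp33 t), ha, ha, pw_add])
  have a0 : a 0 = 0 := by
    have := aadd 0 0
    rw [add_zero] at this
    exact left_eq_add.1 this
  have a1 : a 1 = 1 := pw_inj φ (by rw [← ha, hF ⟨_, hp33 1⟩, h1a _ rfl])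
  have ainj : Function.Injective a := fun s t e => pw_inj φ (Fj (hp33 s) (hp33 t) (by rw [ha, ha, e]))
  -- the torus
  have hT : ∀ z w, hH (tor φ z w) ∈ G.G1 := fun z w => G.diag_mem ((diag_fixed_iff φ hφ).2 ⟨z, w, rfl⟩)
  have Ftor : ∀ z w, ∃ z' w', F (hH (tor φ z w)) = hH (tor φ z' w') := fun z w =>
    diag_tor φ hφ (by rw [hF ⟨_, hT z w⟩]; exact hβ.hd _ (hH_mem _)) (G.le_fixed (FG (hT z w)))
  have amul : ∀ x t, a (x * t) = a x * a t := by
    intro x t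
    rcases eq_or_ne x 0 with rfl | hx
    · rw [zero_mul, a0, zero_mul]
    obtain ⟨z, w, h24, -⟩ := exists_torus hφ (Units.mk0 x hx) 1
    obtain ⟨z', w', ec⟩ := Ftor z w
    have key : ∀ u, a (x * u) = hchar F4.pk (tor φ z' w') 24 * a u := fun u => pw_inj φ (by
      rw [← ha, ← tor_pw φ hφ, ← ha, ← ec, ← Fi (hT z w), ← Fm (hT z w) (hp33 u),
        ← Fm (mul_mem (hT z w) (hp33 u)) (inv_mem (hT z w)), tor_pw φ hφ, h24]
      rfl)
    have := key 1
    rw [mul_one, a1, mul_one] at this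
    rw [key, this]
  have key25 : ∀ x : Kˣ, ∃ s, (∀ t, b ((x : K) * t) = s * b t) ∧ d (x : K) = φ s * s * d 1 := by
    intro x
    obtain ⟨z, w, -, h25⟩ := exists_torus hφ 1 x
    obtain ⟨z', w', ec⟩ := Ftor z w
    have key : ∀ t, qw φ qq (b ((x : K) * t)) (d ((x : K) * t)) =
        qw φ qq (hchar F4.pk (tor φ z' w') 25 * b t) (hchar F4.pk (tor φ z' w') 28 * d t) := fun t => by
      rw [← hbd, ← tor_qw φ hφ, ← hbd, ← ec, ← Fi (hT z w), ← Fm (hT z w) (hq t 0),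
        ← Fm (mul_mem (hT z w) (hq t 0)) (inv_mem (hT z w)), tor_qw φ hφ, h25, mul_zero]
    refine ⟨_, fun t => (qw_inj φ (key t)).1, ?_⟩
    have h := (qw_inj φ (key 1)).2
    rwa [mul_one, chi28 hφ] at h
  have bmul : ∀ x t, b (x * t) = b x * b t := by
    intro x t
    rcases eq_or_ne x 0 with rfl | hx
    · rw [zero_mul, b0, zero_mul]
    obtain ⟨s, hs, -⟩ := key25 (Units.mk0 x hx)
    have h1 := hs 1
    rw [Units.val_mk0, mul_one, b1, mul_one] at h1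
    rw [show x * t = ((Units.mk0 x hx : Kˣ) : K) * t from rfl, hs, h1]
  let τ0 : K →+* K :=
    { toFun := b
      map_one' := b1
      map_mul' := bmul
      map_zero' := b0
      map_add' := badd }
  have bφ : ∀ t, b (φ t) = φ (b t) := fun t => by rw [hφe, hφe]; exact map_pow τ0 t e
  have binj : Function.Injective b := τ0.injective
  have bsurj : Function.Surjective b := Finite.injective_iff_surjective.1 binj
  have Fz' : ∀ v, F (qw φ qq 0 v) = qw φ qq 0 (b v) := fun v => by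
    obtain ⟨r, rfl⟩ := prod_surj φ hφ v
    rw [Fz, bmul, bφ]
  -- the second coordinate vanishes
  have hdN : ∀ t, t ≠ 0 → d t = φ (b t) * b t * u0 := fun t ht => by
    obtain ⟨s, hs, hd'⟩ := key25 (Units.mk0 t ht)
    have h1 := hs 1
    rw [Units.val_mk0, mul_one, b1, mul_one] at h1
    rw [Units.val_mk0, d1, ← h1] at hd'
    exact hd'
  have hu00 : u0 = 0 := by
    obtain ⟨T0, hT0⟩ : ∃ T0 : K, φ T0 ≠ T0 := by
      by_contra hall
      push Not at hall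
      have hsub : (Finset.univ : Finset K) ⊆ {0, 1} := fun x _ => by
        have := hφ x
        rw [hall, hall, sq] at this
        rcases eq_or_ne x 0 with rfl | hx
        · simp
        · simp [(mul_eq_left₀ hx).1 this]
      have := (Finset.card_le_card hsub).trans Finset.card_le_two
      rw [Finset.card_univ] at this
      omega
    obtain ⟨t, rfl⟩ := bsurj T0
    have ht0 : t ≠ 0 := by rintro rfl; rw [b0, map_zero] at hT0; exact hT0 rfl
    have ht1 : 1 + t ≠ 0 := fun e => by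
      have : t = 1 := (CharTwo.add_eq_zero.1 e).symm
      rw [this, b1, map_one] at hT0
      exact hT0 rfl
    have h := congrArg F (hsplit 1 t)
    rw [Fm (hq 1 0) (hq t 0), Fm (hq _ 0) (hq _ _), hbd, hbd, hbd, Fz', qw_mul φ hφ qq_mem, qw_mul φ hφ qq_mem] at h
    have h2 := (qw_inj φ h).2
    rw [d1, hdN t ht0, hdN _ ht1, b1, badd, b1, bmul, bφ, b1, map_one, map_add, map_one] at h2
    have h3 : u0 * (φ (b t) + b t) = 0 := by linear_combination h2 + (u0 * (φ (b t) + b t)) * two (K := K)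
    rcases mul_eq_zero.1 h3 with e | e
    · exact e
    · exact absurd (CharTwo.add_eq_zero.1 e) hT0
  have Fb : ∀ t, F (qw φ qq t 0) = qw φ qq (b t) 0 := fun t => by
    rcases eq_or_ne t 0 with rfl | ht
    · rw [Fz', b0]
    · rw [hbd, hdN t ht, hu00, mul_zero]
  -- the two Weyl elements are fixed
  have hpm := R.isPGroup_Um ckComm_F4
  have hXa : pw φ (14, 23) (1 : K) ∈ TwistGrp.Xm G lTop ([0, 3], [0, 3]) := by
    obtain ⟨-, -, -, -, -, -, t7⟩ := autTables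
    simp only [List.all_eq_true, Pk.mem_allRoots, Bool.and_eq_true] at t7
    rw [pw14_eq]
    have hk : (F4.ok.nW (F := K) [0, 3] * F4.ok.nW [0, 3])⁻¹ ∈ chevF4.diagonalSubgroup K := by
      rw [← F4.ok.nW_append]
      exact inv_mem (F4.ok.nW_mem_diagonal (fun x hx => by
        simp only [List.mem_append, List.mem_cons, List.not_mem_nil, or_false] at hx
        show x < 4
        omega) fun r hr => Nat.eq_of_beq_eq_true (t7 r hr).1)
    have := TwistGrp.diag_Xm lTop_long.1 hn0 hk (inv_mem (mul_mem (G.nW_mem _ R.da.mem) (G.nW_mem _ R.da.mem)))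
      (TwistGrp.conj_orb_le ckComm_F4 R.long hn0 R.da (mem_Uwa hφ G 1))
    convert this using 1
    group
  have hXb : qw φ (20, 22, 19, 17) (1 : K) 1 ∈ TwistGrp.Xm G lTop ([1, 2], [1, 2, 1, 2]) := by
    obtain ⟨-, -, -, -, -, -, t7⟩ := autTables
    simp only [List.all_eq_true, Pk.mem_allRoots, Bool.and_eq_true] at t7
    rw [qwNeg_eq]
    have hk : (F4.ok.nW (F := K) [1, 2, 1, 2] * F4.ok.nW [1, 2, 1, 2])⁻¹ ∈ chevF4.diagonalSubgroup K := by
      rw [← F4.ok.nW_append]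
      exact inv_mem (F4.ok.nW_mem_diagonal (fun x hx => by
        simp only [List.mem_append, List.mem_cons, List.not_mem_nil, or_false] at hx
        show x < 4
        omega) fun r hr => Nat.eq_of_beq_eq_true (t7 r hr).2)
    have := TwistGrp.diag_Xm lTop_long.1 hn0 hk (inv_mem (mul_mem (G.nW_mem _ R.db.mem) (G.nW_mem _ R.db.mem)))
      (TwistGrp.conj_orb_le ckComm_F4 R.long hn0 R.db (mem_Uwb hφ G 1 1))
    convert this using 1
    group
  have asurj : Function.Surjective a := Finite.injective_iff_surjective.1 ainj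
  have Fn1 : F (F4.ok.nW [0, 3]) = F4.ok.nW [0, 3] := by
    have hy := hp14 1
    have e1 : F (pw φ (14, 23) 1) = pw φ (14, 23) 1 := by
      refine TwistGrp.eq_of_swap ckComm_F4 R.long hn0 R.da hpm (R.proper.ne_bot _ R.da.mem)
        (mem_Uwa hφ G 1) (mem_Uwa hφ G 1) hXa (by rw [hF ⟨_, hy⟩]; exact hβ.xa ⟨_, hy⟩ hXa) (fun g hg => ?_)
        (fun g hg => ?_)
      · rw [← n1_word]; exact TwistGrp.conj_orb_le ckComm_F4 R.long hn0 R.da hg
      · obtain ⟨w, rfl⟩ := Uw_a hφ G hg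
        obtain ⟨w', rfl⟩ := asurj w
        have hN := TwistGrp.conj_orb_le ckComm_F4 R.long hn0 R.da (mem_Uwa hφ G w')
        have hN' := hβ.xa ⟨_, (TwistGrp.Xm_le ckComm_F4 R.long hn0 R.da.mem hN).2⟩ hN
        rw [← hF] at hN'
        simp only [n1_word (φ := φ)] at hN'
        have hn := mul_mem (mul_mem (hp33 1) hy) (hp33 1)
        rw [Fm (mul_mem hn (hp33 w')) (inv_mem hn), Fm hn (hp33 w'), Fi hn, Fm (mul_mem (hp33 1) hy) (hp33 1),
          Fm (hp33 1) hy, ha 1, a1, ha w'] at hN'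
        exact hN'
    rw [n1_word (φ := φ), Fm (mul_mem (hp33 1) hy) (hp33 1), Fm (hp33 1) hy, e1, ha, a1]
  have Fn2 : F (F4.ok.nW [1, 2, 1, 2]) = F4.ok.nW [1, 2, 1, 2] := by
    have hy := hqn 1 1
    have e1 : F (qw φ (20, 22, 19, 17) 1 1) = qw φ (20, 22, 19, 17) 1 1 := by
      refine TwistGrp.eq_of_swap ckComm_F4 R.long hn0 R.db hpm (R.proper.ne_bot _ R.db.mem)
        (mem_Uwb hφ G 0 1) (mem_Uwb hφ G 1 0) hXb (by rw [hF ⟨_, hy⟩]; exact hβ.xb ⟨_, hy⟩ hXb) (fun g hg => ?_)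
        (fun g hg => ?_)
      · rw [← n2_word']; exact TwistGrp.conj_orb_le ckComm_F4 R.long hn0 R.db hg
      · obtain ⟨t, v, rfl⟩ := Uw_b hφ G hg
        obtain ⟨t', rfl⟩ := bsurj t
        obtain ⟨v', rfl⟩ := bsurj v
        have hN := TwistGrp.conj_orb_le ckComm_F4 R.long hn0 R.db (mem_Uwb hφ G t' v')
        have hN' := hβ.xb ⟨_, (TwistGrp.Xm_le ckComm_F4 R.long hn0 R.db.mem hN).2⟩ hN
        rw [← hF] at hN'
        simp only [n2_word' (φ := φ)] at hN'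
        have hn := mul_mem (mul_mem (hq 0 1) hy) (hq 1 0)
        have eg : ∀ t u, qw φ qq t u = qw φ qq t 0 * qw φ qq 0 u := fun t u => by
          rw [qw_mul φ hφ qq_mem]; simp
        rw [eg t' v', Fm (mul_mem hn (mul_mem (hq _ _) (hq _ _))) (inv_mem hn), Fm hn (mul_mem (hq _ _) (hq _ _)),
          Fi hn, Fm (mul_mem (hq 0 1) hy) (hq 1 0), Fm (hq 0 1) hy, Fm (hq _ _) (hq _ _), Fz', Fz', Fb, Fb, b1,
          ← eg] at hN'
        exact hN'
    rw [n2_word' (φ := φ), Fm (mul_mem (hq 0 1) hy) (hq 1 0), Fm (hq 0 1) hy, e1, Fz', Fb, b1]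
  -- the two maps agree
  have hn1G : F4.ok.nW (F := K) [0, 3] ∈ G.G1 := G.nW_mem _ R.da.mem
  have hn2G : F4.ok.nW (F := K) [1, 2, 1, 2] ∈ G.G1 := G.nW_mem _ R.db.mem
  have Fp14 : ∀ t, F (pw φ (14, 23) t) = pw φ (14, 23) (a t) := fun t => by
    rw [pw14_eq, pw14_eq, Fm (mul_mem (inv_mem hn1G) (hp33 t)) hn1G, Fm (inv_mem hn1G) (hp33 t), Fi hn1G, Fn1, ha]
  have hab : ∀ t, a t = b t := by
    intro t
    rcases eq_or_ne t 0 with rfl | ht
    · rw [a0, b0]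
    have hat : a t ≠ 0 := fun e => ht (ainj (e.trans a0.symm))
    have hai : a t⁻¹ = (a t)⁻¹ :=
      eq_inv_of_mul_eq_one_left (by rw [← amul, inv_mul_cancel₀ ht, a1])
    have eC : F (hH (tor φ (Units.mk0 t ht) 1)) = hH (tor φ (Units.mk0 (a t) hat) 1) := by
      rw [tor_pair, tor_pair, Units.val_mk0, Units.val_mk0,
        Fm (mul_mem (mul_mem (hp33 t) (hp14 _)) (hp33 t)) hn1G, Fm (mul_mem (hp33 t) (hp14 _)) (hp33 t),
        Fm (hp33 t) (hp14 _), Fp14, ha, Fn1, hai]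
    have hc : ∀ z : Kˣ, hchar F4.pk (tor φ z 1) 25 = (z : K)⁻¹ := fun z => by
      rw [(chars (tor φ z 1)).2.2.1]; simp [tor]
    have h := congrArg F (tor_qw φ hφ (Units.mk0 t ht) 1 1 0)
    rw [Fm (mul_mem (hT _ _) (hq _ _)) (inv_mem (hT _ _)), Fm (hT _ _) (hq _ _), Fi (hT _ _), eC, mul_zero, mul_one,
      Fb, Fb, b1, tor_qw φ hφ, hc, hc, Units.val_mk0, Units.val_mk0, mul_one, mul_zero] at h
    have h2 := (qw_inj φ h).1
    have h3 := bmul t t⁻¹
    rw [mul_inv_cancel₀ ht, b1, ← h2] at h3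
    exact ((mul_inv_eq_one₀ hat).1 h3.symm).symm
  refine ⟨RingEquiv.ofBijective τ0 ⟨binj, bsurj⟩, fun x => ?_⟩
  set τ : K →+* K := (RingEquiv.ofBijective τ0 ⟨binj, bsurj⟩).toRingHom with hτd
  have hτb : ∀ t, τ t = b t := fun t => rfl
  have gp : ∀ t, gmap chevF4 τ (pw φ (33, 24) t) = pw φ (33, 24) (b t) := fun t => by
    simp only [pw, TwF4.x, map_mul, F4.ok.gmap_xG τ (show 33 < F4.pk.nroots by decide +kernel),
      F4.ok.gmap_xG τ (show 24 < F4.pk.nroots by decide +kernel), hτb, bφ]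
  have gq : ∀ t u, gmap chevF4 τ (qw φ qq t u) = qw φ qq (b t) (b u) := fun t u => by
    simp only [qw, nf, TwF4.x, map_mul, F4.ok.gmap_xG τ (show 27 < F4.pk.nroots by decide +kernel),
      F4.ok.gmap_xG τ (show 25 < F4.pk.nroots by decide +kernel),
      F4.ok.gmap_xG τ (show 28 < F4.pk.nroots by decide +kernel),
      F4.ok.gmap_xG τ (show 30 < F4.pk.nroots by decide +kernel), map_add, map_pow]
    simp only [hτb, bφ]
  have Fq : ∀ t u, F (qw φ qq t u) = qw φ qq (b t) (b u) := fun t u => by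
    have e : ∀ s v, qw φ qq s v = qw φ qq s 0 * qw φ qq 0 v := fun s v => by rw [qw_mul φ hφ qq_mem]; simp
    rw [e, Fm (hq _ _) (hq _ _), Fb, Fz', ← e]
  have hle : G.G1 ≤ (((G.G1.subtype).comp β.toMonoidHom).eqLocus ((gmap chevF4 τ).comp G.G1.subtype)).map
      G.G1.subtype := by
    have key : ∀ g (hg : g ∈ G.G1), F g = gmap chevF4 τ g →
        g ∈ (((G.G1.subtype).comp β.toMonoidHom).eqLocus ((gmap chevF4 τ).comp G.G1.subtype)).map G.G1.subtype :=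
      fun g hg e => ⟨⟨g, hg⟩, (hF ⟨g, hg⟩).symm.trans e, rfl⟩
    conv_lhs => rw [hG]
    refine gens_le φ e hφe (fun p hp t => ?_) (fun r hr t u => ?_)
    · refine key _ (mp p hp t) ?_
      simp only [pairs, List.mem_cons, List.not_mem_nil, or_false] at hp
      rcases hp with rfl | rfl
      · rw [ha, gp, hab]
      · rw [Fp14, hab, pw14_eq t, map_mul, map_mul, map_inv,
          F4.ok.gmap_nW τ [0, 3] (wordOk_orb (Or.inl rfl)), gp, pw14_eq]
    · refine key _ (mq r hr t u) ?_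
      simp only [quads, List.mem_cons, List.not_mem_nil, or_false] at hr
      rcases hr with rfl | rfl
      · exact (Fq t u).trans (gq t u).symm
      · rw [qwNeg_eq, Fm (mul_mem (inv_mem hn2G) (hq t u)) hn2G, Fm (inv_mem hn2G) (hq t u), Fi hn2G, Fn2, Fq,
          map_mul, map_mul, map_inv, F4.ok.gmap_nW τ [1, 2, 1, 2] (wordOk_orb (Or.inr rfl)), gq]
  obtain ⟨y, hy, e⟩ := hle x.2
  obtain rfl : y = x := Subtype.ext e
  exact hy

include hφ hφe hG in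
theorem gmap_gens (σ : K ≃+* K) : (∀ t, gmap chevF4 σ.toRingHom (pw φ (33, 24) t) = pw φ (33, 24) (σ t)) ∧
    (∀ t u, gmap chevF4 σ.toRingHom (qw φ qq t u) = qw φ qq (σ t) (σ u)) ∧
    ∀ x ∈ G.G1, gmap chevF4 σ.toRingHom x ∈ G.G1 := by
  have hc : ∀ t, σ (φ t) = φ (σ t) := fun t => by rw [hφe, hφe, map_pow]
  have hσ : ∀ t, σ.toRingHom t = σ t := fun _ => rfl
  have gp : ∀ t, gmap chevF4 σ.toRingHom (pw φ (33, 24) t) = pw φ (33, 24) (σ t) := fun t => by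
    simp only [pw, TwF4.x, map_mul, F4.ok.gmap_xG σ.toRingHom (show 33 < F4.pk.nroots by decide +kernel),
      F4.ok.gmap_xG σ.toRingHom (show 24 < F4.pk.nroots by decide +kernel), hσ, hc]
  have gq : ∀ t u, gmap chevF4 σ.toRingHom (qw φ qq t u) = qw φ qq (σ t) (σ u) := fun t u => by
    simp only [qw, nf, TwF4.x, map_mul, F4.ok.gmap_xG σ.toRingHom (show 27 < F4.pk.nroots by decide +kernel),
      F4.ok.gmap_xG σ.toRingHom (show 25 < F4.pk.nroots by decide +kernel),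
      F4.ok.gmap_xG σ.toRingHom (show 28 < F4.pk.nroots by decide +kernel),
      F4.ok.gmap_xG σ.toRingHom (show 30 < F4.pk.nroots by decide +kernel), map_add, map_pow, map_mul, hσ, hc]
  obtain ⟨mp, mq⟩ := mem_pq hφe G hG
  refine ⟨gp, gq, fun x hx => ?_⟩
  have hle : G.G1 ≤ G.G1.comap (gmap chevF4 σ.toRingHom) := by
    have hn1 : F4.ok.nW (F := K) [0, 3] ∈ G.G1 := hG ▸ n1_mem φ e hφe
    have hn2 : F4.ok.nW (F := K) [1, 2, 1, 2] ∈ G.G1 := hG ▸ n2_mem φ e hφe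
    conv_lhs => rw [hG]
    refine gens_le φ e hφe (fun p hp t => ?_) (fun r hr t u => ?_) <;> rw [Subgroup.mem_comap]
    · simp only [pairs, List.mem_cons, List.not_mem_nil, or_false] at hp
      rcases hp with rfl | rfl
      · rw [gp]; exact mp _ (by decide) _
      · rw [pw14_eq, map_mul, map_mul, map_inv, F4.ok.gmap_nW _ [0, 3] (wordOk_orb (Or.inl rfl)), gp]
        exact mul_mem (mul_mem (inv_mem hn1) (mp _ (by decide) _)) hn1
    · simp only [quads, List.mem_cons, List.not_mem_nil, or_false] at hr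
      rcases hr with rfl | rfl
      · exact (gq t u).symm ▸ mq _ qq_mem _ _
      · rw [qwNeg_eq, map_mul, map_mul, map_inv, F4.ok.gmap_nW _ [1, 2, 1, 2] (wordOk_orb (Or.inr rfl)), gq]
        exact mul_mem (mul_mem (inv_mem hn2) (mq _ qq_mem _ _)) hn2
  exact hle hx

include hφ hφe hG hO in
/-- Every automorphism is a product of an inner and a field automorphism. -/
theorem aut_decomp (hcard : 2 < Fintype.card K) (α : MulAut ↥G.G1) : ∃ (g : ↥G.G1) (τ : K ≃+* K),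
    ∀ x : ↥G.G1, ((g * α x * g⁻¹ : ↥G.G1) : GL chevF4.Idx K) = gmap chevF4 τ.toRingHom x := by
  classical
  haveI := Fact.mk Nat.prime_two
  have R := rank2 hφ G hG hO
  obtain ⟨mp, mq⟩ := mem_pq hφe G hG
  have hp1 : pw φ (33, 24) (1 : K) ∈ G.G1 := mp _ (by decide) 1
  have hq1 : qw φ qq (1 : K) 0 ∈ G.G1 := mq _ qq_mem 1 0
  obtain ⟨g0, hg0⟩ := R.normalise ckComm_F4 α
  set β : MulAut ↥G.G1 := MulAut.conj g0 * α with hβd
  obtain ⟨a, ha⟩ := Uw_a hφ G ((hg0 ⟨_, hp1⟩).1 (mem_Uwa hφ G 1))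
  obtain ⟨b, v, hb⟩ := Uw_b hφ G ((hg0 ⟨_, hq1⟩).2.1 (mem_Uwb hφ G 1 0))
  have hz : ∀ g : ↥G.G1, ((β g : ↥G.G1) : GL chevF4.Idx K) = 1 → (g : GL chevF4.Idx K) = 1 := fun g e => by
    rw [show g = 1 from (MulEquiv.map_eq_one_iff β).1 (Subtype.ext e), Subgroup.coe_one]
  have ha0 : a ≠ 0 := by
    rintro rfl
    rw [pw_zero] at ha
    exact one_ne_zero (pw_inj φ ((hz _ ha).trans (pw_zero φ).symm))
  have hb0 : b ≠ 0 := by
    rintro rfl
    have h2 : ((β (⟨_, hq1⟩ * ⟨_, hq1⟩) : ↥G.G1) : GL chevF4.Idx K) = 1 := by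
      rw [map_mul, Subgroup.coe_mul, show ((β ⟨_, hq1⟩ : ↥G.G1) : GL chevF4.Idx K) = qw φ qq 0 v from hb,
        qw_mul φ hφ qq_mem, CharTwo.add_self_eq_zero, CharTwo.add_self_eq_zero, mul_zero, add_zero, qw_zero]
    have h3 := hz _ h2
    rw [Subgroup.coe_mul, qw_mul φ hφ qq_mem, ← qw_zero φ qq] at h3
    have h4 := (qw_inj φ h3).2
    simp at h4
  obtain ⟨z, w, h24, h25⟩ := exists_torus hφ (Units.mk0 a ha0)⁻¹ (Units.mk0 b hb0)⁻¹
  have hcG : hH (tor φ z w) ∈ G.G1 := G.diag_mem ((diag_fixed_iff φ hφ).2 ⟨z, w, rfl⟩)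
  set cc : ↥G.G1 := ⟨hH (tor φ z w), hcG⟩
  set γ : MulAut ↥G.G1 := MulAut.conj cc * β with hγd
  have hγ : ∀ x, ((γ x : ↥G.G1) : GL chevF4.Idx K) = hH (tor φ z w) * (β x : ↥G.G1) * (hH (tor φ z w))⁻¹ :=
    fun x => by simp [hγd, cc]
  have hgood : Good G γ :=
    { ua := fun x hx => by rw [hγ]; exact TwistGrp.diag_Uw _ (hH_mem _) hcG ((hg0 x).1 hx)
      ub := fun x hx => by rw [hγ]; exact TwistGrp.diag_Uw _ (hH_mem _) hcG ((hg0 x).2.1 hx)
      xa := fun x hx => by rw [hγ]; exact TwistGrp.diag_Xm lTop_long.1 R.n0 (hH_mem _) hcG ((hg0 x).2.2.1 hx)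
      xb := fun x hx => by rw [hγ]; exact TwistGrp.diag_Xm lTop_long.1 R.n0 (hH_mem _) hcG ((hg0 x).2.2.2.1 hx)
      hd := fun x hx => by rw [hγ]; exact mul_mem (mul_mem (hH_mem _) ((hg0 x).2.2.2.2 hx)) (inv_mem (hH_mem _)) }
  obtain ⟨τ, hτ⟩ := canon_unit hφ hφe G hG hO hcard γ hgood (fun x hx => Subtype.ext (by
      rw [hγ, show x = ⟨_, hp1⟩ from Subtype.ext hx]
      rw [show ((β ⟨_, hp1⟩ : ↥G.G1) : GL chevF4.Idx K) = pw φ (33, 24) a from ha, tor_pw φ hφ, h24]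
      simp [ha0]))
    (fun x hx => ⟨hchar F4.pk (tor φ z w) 28 * v, by
      rw [hγ, show x = ⟨_, hq1⟩ from Subtype.ext hx,
        show ((β ⟨_, hq1⟩ : ↥G.G1) : GL chevF4.Idx K) = qw φ qq b v from hb, tor_qw φ hφ, h25]
      simp [hb0]⟩)
  refine ⟨cc * g0, τ, fun x => ?_⟩
  rw [← hτ x]
  simp [hγd, hβd, mul_assoc]

include hφ hφe hG hO in
theorem card_out {m : ℕ} (hm : 1 ≤ m) (hK : Fintype.card K = 2 ^ (2 * m + 1)) :
    Nat.card (Cfsg.Out ↥G.G1) = 2 * m + 1 := by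
  classical
  haveI := Fact.mk Nat.prime_two
  have hcard : 2 < Fintype.card K := by
    rw [hK]; calc 2 < 2 ^ 2 := by norm_num
      _ ≤ _ := Nat.pow_le_pow_right (by norm_num) (by omega)
  have R := rank2 hφ G hG hO
  obtain ⟨-, mq⟩ := mem_pq hφe G hG
  have hgm := fun σ => (gmap_gens hφ hφe G hG σ).2.2
  let Φ : (K ≃+* K) → MulAut ↥G.G1 := fun τ =>
    { toFun := fun x => ⟨gmap chevF4 τ.toRingHom x, hgm τ _ x.2⟩
      invFun := fun x => ⟨gmap chevF4 τ.symm.toRingHom x, hgm τ.symm _ x.2⟩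
      left_inv := fun x => Subtype.ext (TwistGrp.gmap_symm τ _)
      right_inv := fun x => Subtype.ext (by simpa using TwistGrp.gmap_symm τ.symm (x : GL chevF4.Idx K))
      map_mul' := fun x y => Subtype.ext (map_mul _ _ _) }
  have hΦ : ∀ τ x, ((Φ τ x : ↥G.G1) : GL chevF4.Idx K) = gmap chevF4 τ.toRingHom x := fun τ x => rfl
  rw [← Cfsg.Agent.AutPSL.card_ringAut 2 (2 * m + 1) hK]
  symm
  refine Nat.card_eq_of_bijective (fun τ => (QuotientGroup.mk (Φ τ) : Cfsg.Out _)) ⟨fun τ τ' h => ?_, fun y => ?_⟩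
  · obtain ⟨g, hg⟩ := QuotientGroup.eq.1 h
    have hh : Φ τ' = Φ τ * MulAut.conj g := by rw [hg]; group
    have e' : ∀ x ∈ G.G1, (g : GL chevF4.Idx K) * x * (g : GL chevF4.Idx K)⁻¹ =
        gmap chevF4 τ.symm.toRingHom (gmap chevF4 τ'.toRingHom x) := fun x hx => by
      have := congrArg (fun Ψ : MulAut ↥G.G1 => ((Ψ ⟨x, hx⟩ : ↥G.G1) : GL chevF4.Idx K)) hh
      simp only [MulAut.mul_apply, hΦ, MulAut.conj_apply] at this
      rw [this, TwistGrp.gmap_symm]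
      simp
    have hd := TwistGrp.diag_of_field ckComm_F4 R.long R.n0 R.proper g.2 hgm τ τ' e'
    obtain ⟨z, w, ec⟩ := diag_tor φ hφ hd (G.le_fixed g.2)
    have key : ∀ t, hchar F4.pk (tor φ z w) 25 * t = τ.symm (τ' t) := fun t => by
      have := e' _ (mq _ qq_mem t 0)
      rw [ec, tor_qw φ hφ, (gmap_gens hφ hφe G hG τ').2.1, (gmap_gens hφ hφe G hG τ.symm).2.1] at this
      exact (qw_inj φ this).1
    have h1 := key 1
    rw [mul_one, map_one, map_one] at h1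
    refine RingEquiv.ext fun t => ?_
    have := key t
    rw [h1, one_mul] at this
    conv_lhs => rw [this]
    exact τ.apply_symm_apply _
  · obtain ⟨α, rfl⟩ := QuotientGroup.mk_surjective y
    obtain ⟨g, τ, hg⟩ := aut_decomp hφ hφe G hG hO hcard α
    refine ⟨τ, ?_⟩
    have hh : Φ τ = MulAut.conj g * α := MulEquiv.ext fun x => Subtype.ext (by
      rw [hΦ, ← hg]
      simp)
    have hi : (QuotientGroup.mk (MulAut.conj g) : Cfsg.Out ↥G.G1) = 1 := (QuotientGroup.eq_one_iff _).2 ⟨g, rfl⟩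
    show (QuotientGroup.mk (Φ τ) : Cfsg.Out ↥G.G1) = _
    rw [hh, QuotientGroup.mk_mul, hi, one_mul]

end Cfsg.Agent.Chev.TwF4
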